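import Cfsg.Agent.Bicyclic.Seven
import Cfsg.Agent.FTRows.OutSylowCases

/-!
An automizer of a proper centric subgroup with trivial 2-core modulo inner automorphisms forces a
cyclic derived subgroup.
-/

set_option autoImplicit false
set_option linter.unusedSectionVars false
set_option linter.style.haveILetI false

open scoped commutatorElement

namespace CfsgLib.Bicyclic

open Subgroup

universe u

variable {X : Type u} [Group X] [Finite X]

/-- The automorphisms induced by the normalizer. -/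
def autHom (P : Subgroup X) : ↥(normalizer (P : Set X)) →* MulAut P :=
  MonoidHom.mk' (fun n => conjOn P n n.2) fun a b => MulEquiv.ext fun p => Subtype.ext (by
    rw [MulAut.mul_apply, conjOn_coe, conjOn_coe, conjOn_coe, Subgroup.coe_mul]
    group)

theorem autHom_apply (P : Subgroup X) (n : ↥(normalizer (P : Set X))) :
    autHom P n = conjOn P n n.2 := rfl

/-- No element of order seven in the automizer. -/
theorem false_of_seven (hX : IsPGroup 2 X) (hb : IsBicyclic X) (hm : ¬ Cfsg.IsMetacyclic X)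
    {P : Subgroup X} (hproper : P ≠ ⊤) (hC : centralizer (P : Set X) ≤ P)
    {A : Subgroup (MulAut P)} (hR : (autHom P).range ≤ A)
    (hidx : ¬ 2 ∣ ((autHom P).range.subgroupOf A).index)
    (hrad : ∀ N : Subgroup A, N.Normal → IsPGroup 2 N →
      ∀ a ∈ N, (a : MulAut P) ∈ (MulAut.conj : P →* MulAut P).range)
    {η : MulAut P} (hη : η ∈ A) (h7 : η ^ 7 = 1) (hne : η ≠ 1) : False := by
  haveI : Fact (Nat.Prime 2) := ⟨Nat.prime_two⟩
  haveI : Fact (Nat.Prime 7) := ⟨by norm_num⟩
  have hΦ := frattini_metacyclic hX hb hm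
  have hPp := hX.to_subgroup P
  let π := QuotientGroup.mk' (frattini ↥P)
  have hk : ∀ u, π u = 1 ↔ u ∈ frattini ↥P := fun u => QuotientGroup.eq_one_iff u
  let σ : MulAut (↥P ⧸ frattini ↥P) :=
    QuotientGroup.congr _ _ η (characteristic_iff_map_eq.1 frattini_characteristic η)
  have hσπ : ∀ p, σ (π p) = π (η p) := fun _ => rfl
  have hσpow : ∀ (k : ℕ) (p : P), (σ ^ k) (π p) = π ((η ^ k) p) := by
    intro k
    induction k with
    | zero => intro p; rfl
    | succ k ih => intro p; rw [pow_succ', pow_succ', MulAut.mul_apply, MulAut.mul_apply, ih, hσπ]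
  have hσ7 : σ ^ 7 = 1 := MulEquiv.ext fun q => by
    obtain ⟨p, rfl⟩ := QuotientGroup.mk'_surjective _ q
    rw [hσpow, h7]; rfl
  have hσne : σ ≠ 1 := by
    intro h
    have hk' : η ∈ MetacyclicAut.frattiniKernel ↥P := fun p => by
      rw [← hk, map_mul, map_inv, ← hσπ, h, MulAut.one_apply, mul_inv_cancel]
    obtain ⟨k, hk''⟩ := MetacyclicAut.isPGroup_frattiniKernel (p := 2) hPp ⟨η, hk'⟩
    exact hne (orderOf_eq_one_iff.1 (Nat.eq_one_of_dvd_coprimes
      (show Nat.Coprime (2 ^ k) 7 from Nat.Coprime.pow_left k (by norm_num))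
      (orderOf_dvd_of_pow_eq_one (congrArg Subtype.val hk'')) (orderOf_dvd_of_pow_eq_one h7)))
  have hsqV : ∀ q : ↥P ⧸ frattini ↥P, q * q = 1 := fun q => by
    obtain ⟨p, rfl⟩ := QuotientGroup.mk'_surjective _ q
    rw [← map_mul, ← pow_two, hk]; exact sq_mem_frattini hPp p
  have hV8 : Nat.card (↥P ⧸ frattini ↥P) = 8 := by
    have h8 := card_frattini_quot_proper hX hb hΦ hproper
    obtain ⟨k, hk'⟩ := IsPGroup.iff_card.1 (hPp.to_quotient (frattini ↥P))
    by_contra hne8
    have h4 : Nat.card (↥P ⧸ frattini ↥P) ≤ 4 := by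
      rw [hk'] at h8 hne8 ⊢
      have : k ≤ 3 := (Nat.pow_le_pow_iff_right (by norm_num : 1 < 2)).1
        (h8.trans_eq (by norm_num))
      interval_cases k <;> simp_all
    exact hσne (orderOf_eq_one_iff.1 (Nat.eq_one_of_dvd_coprimes (show Nat.Coprime 7 6 by norm_num)
      (orderOf_dvd_of_pow_eq_one hσ7)
      ((orderOf_dvd_natCard σ).trans (MetacyclicAut.card_mulAut_dvd_six h4))))
  obtain ⟨hfix, htrans⟩ := seven_transitive hV8 hσ7 hσne
  -- `η` fixes the Frattini subgroup
  have hUfix : ∀ u ∈ frattini ↥P, η u = u := by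
    have hUm : Cfsg.IsMetacyclic ↥(frattini ↥P) := by
      refine MetacyclicAut.isMetacyclic_of_injective
        ((P.subtype.comp (frattini ↥P).subtype).codRestrict (frattini X)
          fun u => mem_frattini_of_sq hX u.2) ?_ hΦ
      intro a b h
      exact Subtype.ext (Subtype.ext (congrArg (fun z : ↥(frattini X) => (z : X)) h))
    let β : ℕ → MulAut ↥(frattini ↥P) := fun k =>
      MulEquiv.ofBijective (((η ^ k).toMonoidHom.comp (frattini ↥P).subtype).codRestrict
        (frattini ↥P) fun u => show (η ^ k) (u : P) ∈ frattini ↥P from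
          Subgroup.mem_comap.1 (characteristic_iff_le_comap.1 frattini_characteristic (η ^ k) u.2))
        (Finite.injective_iff_bijective.1 fun a b h =>
          Subtype.ext ((η ^ k).injective (congrArg (fun z : ↥(frattini ↥P) => (z : P)) h)))
    have hβ : ∀ k, β 1 ^ k = β k := by
      intro k
      induction k with
      | zero => exact MulEquiv.ext fun u => Subtype.ext rfl
      | succ k ih =>
        refine MulEquiv.ext fun u => Subtype.ext ?_
        rw [pow_succ', MulAut.mul_apply, ih]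
        show (η ^ 1) ((η ^ k) (u : P)) = (η ^ (k + 1)) (u : P)
        rw [pow_succ' η k, pow_one, MulAut.mul_apply]
    have h1 : β 1 = 1 := aut_seven_trivial (hPp.to_subgroup _) hUm (by
      rw [hβ]
      exact MulEquiv.ext fun u => Subtype.ext (show (η ^ 7) (u : P) = u by rw [h7, MulAut.one_apply]))
    intro u hu
    have h2 := congrArg (fun a : MulAut ↥(frattini ↥P) => ((a ⟨u, hu⟩ : ↥(frattini ↥P)) : P)) h1
    rw [MulAut.one_apply] at h2
    have h3 : (η ^ 1) u = u := h2
    rwa [pow_one] at h3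
  -- displacements generate
  have hgen : closure (Set.range fun p : P => p⁻¹ * η p) = ⊤ := by
    refine frattini_nongenerating (eq_top_iff.2 fun p _ => ?_)
    have hinj : Function.Injective fun q : ↥P ⧸ frattini ↥P => q⁻¹ * σ q := by
      intro q r h
      refine mul_inv_eq_one.1 (hfix _ ?_)
      rw [map_mul, map_inv]
      have h' : σ q = q * (r⁻¹ * σ r) := by
        rw [← show q⁻¹ * σ q = r⁻¹ * σ r from h, mul_inv_cancel_left]
      rw [h', mul_assoc, mul_assoc, mul_inv_cancel, mul_one]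
    obtain ⟨q, hq⟩ := Finite.surjective_of_injective hinj (π p)
    obtain ⟨y, rfl⟩ := QuotientGroup.mk'_surjective _ q
    rw [show p = (y⁻¹ * η y) * ((y⁻¹ * η y)⁻¹ * p) by group]
    refine Subgroup.mul_mem_sup (subset_closure ⟨y, rfl⟩) (QuotientGroup.eq.1 ?_)
    show π (y⁻¹ * η y) = π p
    rw [map_mul, map_inv, ← hσπ]; exact hq
  -- `Φ(P)` is central
  have hcentral : ∀ p : P, ∀ u ∈ frattini ↥P, Commute p u := by
    intro p u hu
    have hle : closure (Set.range fun p : P => p⁻¹ * η p) ≤ centralizer ({u} : Set P) := by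
      rw [closure_le]
      rintro _ ⟨y, rfl⟩
      refine mem_centralizer_singleton_iff.2 ?_
      have h1 := hUfix _ ((inferInstance : (frattini ↥P).Normal).conj_mem u hu y)
      rw [map_mul, map_mul, map_inv, hUfix u hu] at h1
      calc y⁻¹ * η y * u = y⁻¹ * (η y * u * (η y)⁻¹) * η y := by group
        _ = u * (y⁻¹ * η y) := by rw [h1]; group
    exact mem_centralizer_singleton_iff.1 (hle (hgen.ge (mem_top p)))
  -- `P` is elementary abelian
  have helem : frattini ↥P = ⊥ := by
    let U := frattini ↥P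
    let ρ := QuotientGroup.mk' (frattini ↥U)
    have hUc : ∀ a b : U, Commute a b := fun a b =>
      Subtype.ext (hcentral (a : P) b b.2).eq
    let q : P → ↥U ⧸ frattini ↥U := fun p =>
      ρ ⟨p * p, by rw [← pow_two]; exact sq_mem_frattini hPp p⟩
    have hU1 : ∀ u : U, ρ u * ρ u = 1 := fun u => by
      rw [← map_mul, ← pow_two]
      exact (QuotientGroup.eq_one_iff _).2 (sq_mem_frattini (hPp.to_subgroup _) u)
    have hqeq : ∀ p r : P, π p = π r → q p = q r := by
      intro p r h
      obtain ⟨u, hu, rfl⟩ : ∃ u ∈ frattini ↥P, r = p * u :=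
        ⟨p⁻¹ * r, QuotientGroup.eq.1 h, by group⟩
      show _ = ρ _
      rw [show (⟨p * u * (p * u), by rw [← pow_two]; exact sq_mem_frattini hPp _⟩ : U) =
        ⟨p * p, by rw [← pow_two]; exact sq_mem_frattini hPp p⟩ * (⟨u, hu⟩ * ⟨u, hu⟩) from
        Subtype.ext ((hcentral p u hu).symm.mul_mul_mul_comm p u), map_mul, map_mul, hU1, mul_one]
    have hqη : ∀ p : P, q (η p) = q p := fun p => by
      refine congrArg ρ (Subtype.ext ?_)
      show η p * η p = p * p
      rw [← map_mul]
      exact hUfix _ (by rw [← pow_two]; exact sq_mem_frattini hPp p)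
    have hqσ : ∀ (k : ℕ) (p : P), q ((η ^ k) p) = q p := by
      intro k
      induction k with
      | zero => intro p; rfl
      | succ k ih => intro p; rw [pow_succ', MulAut.mul_apply, hqη, ih]
    have hconst : ∀ p r : P, π p ≠ 1 → π r ≠ 1 → q p = q r := by
      intro p r hp hr
      obtain ⟨k, hk'⟩ := htrans _ _ hp hr
      rw [hσpow] at hk'
      rw [← hqσ k p]
      exact hqeq _ _ hk'
    -- the commutator pairing
    let β : P → P → ↥U ⧸ frattini ↥U := fun p r =>
      ρ ⟨⁅r, p⁆, commutator_le_frattini hPp (comm_mem_commutator r p)⟩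
    have hmulq : ∀ p r : P, q (p * r) = q p * q r * β p r := by
      intro p r
      show ρ _ = ρ _ * ρ _ * ρ _
      rw [← map_mul, ← map_mul]
      refine congrArg ρ (Subtype.ext ?_)
      show p * r * (p * r) = p * p * (r * r) * ⁅r, p⁆
      have hcu : ∀ y, Commute y ⁅r, p⁆ := fun y =>
        hcentral y _ (commutator_le_frattini hPp (comm_mem_commutator r p))
      calc p * r * (p * r) = p * (r * p * r⁻¹ * p⁻¹) * (p * (r * r)) := by group
        _ = p * ⁅r, p⁆ * (p * (r * r)) := by rw [commutatorElement_def]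
        _ = _ := by
          rw [mul_assoc p, ← (hcu (p * (r * r))).eq]
          simp only [mul_assoc]
    have hbil : ∀ p r s : P, β p (r * s) = β p r * β p s := by
      intro p r s
      show ρ _ = ρ _ * ρ _
      rw [← map_mul]
      refine congrArg ρ (Subtype.ext ?_)
      show ⁅r * s, p⁆ = ⁅r, p⁆ * ⁅s, p⁆
      have hcu := hcentral r _ (commutator_le_frattini hPp (comm_mem_commutator s p))
      calc ⁅r * s, p⁆ = r * ⁅s, p⁆ * r⁻¹ * ⁅r, p⁆ := by
            simp only [commutatorElement_def]; group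
        _ = ⁅r, p⁆ * ⁅s, p⁆ := by
          rw [hcu.eq, mul_inv_cancel_right]
          exact (hcentral _ _ (commutator_le_frattini hPp (comm_mem_commutator s p))).symm.eq
    -- three independent classes
    obtain ⟨x, hx⟩ : ∃ x : P, π x ≠ 1 := by
      by_contra hcon
      push Not at hcon
      have : Subsingleton (↥P ⧸ frattini ↥P) := ⟨fun a b => by
        obtain ⟨a, rfl⟩ := QuotientGroup.mk'_surjective _ a
        obtain ⟨b, rfl⟩ := QuotientGroup.mk'_surjective _ b
        rw [hcon a, hcon b]⟩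
      rw [Nat.card_unique] at hV8
      norm_num at hV8
    obtain ⟨y, hy, hxy⟩ : ∃ y : P, π y ≠ 1 ∧ π x ≠ π y :=
      ⟨η x, fun h => hx (σ.injective (by rw [hσπ, h, map_one])),
        fun h => hx (hfix _ (by rw [hσπ]; exact h.symm))⟩
    obtain ⟨w, hw, hxw, hyw, hxyw⟩ :
        ∃ w : P, π w ≠ 1 ∧ π x ≠ π w ∧ π y ≠ π w ∧ π (x * y) ≠ π w := by
      classical
      by_contra hcon
      push Not at hcon
      haveI := Fintype.ofFinite (↥P ⧸ frattini ↥P)
      have hsub : (Finset.univ : Finset (↥P ⧸ frattini ↥P)) ⊆ {1, π x, π y, π (x * y)} := by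
        intro a _
        obtain ⟨a, rfl⟩ := QuotientGroup.mk'_surjective _ a
        simp only [Finset.mem_insert, Finset.mem_singleton]
        by_cases h1 : π a = 1
        · exact Or.inl h1
        by_cases h2 : π x = π a
        · exact Or.inr (Or.inl h2.symm)
        by_cases h3 : π y = π a
        · exact Or.inr (Or.inr (Or.inl h3.symm))
        exact Or.inr (Or.inr (Or.inr (hcon a h1 h2 h3).symm))
      have h4 := (Finset.card_le_card hsub).trans Finset.card_le_four
      rw [Finset.card_univ, ← Nat.card_eq_fintype_card, hV8] at h4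
      omega
    have hne1 : ∀ p r : P, π p ≠ π r → π (p * r) ≠ 1 := fun p r h e => h (by
      rw [map_mul] at e
      exact (eq_inv_of_mul_eq_one_left e).trans (inv_eq_of_mul_eq_one_right (hsqV _)))
    have hβs : ∀ r : P, π r ≠ 1 → π x ≠ π r → β x r = q x := by
      intro r hr hxr
      have h1 := hmulq x r
      rw [← hconst x (x * r) hx (hne1 x r hxr), ← hconst x r hx hr, hU1, one_mul] at h1
      exact h1.symm
    have hyw' : π x ≠ π (y * w) := fun h => hxyw (by
      have hc : π y * π w = π w * π y := by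
        rw [← map_mul, ← map_mul]
        refine QuotientGroup.eq.2 (commutator_le_frattini hPp ?_)
        rw [show (y * w)⁻¹ * (w * y) = ⁅w⁻¹, y⁻¹⁆ by rw [commutatorElement_def]; group]
        exact comm_mem_commutator _ _
      rw [map_mul π x y, h, map_mul π y w, hc, mul_assoc, hsqV, mul_one])
    have hs1 : q x = 1 := by
      have h1 := hβs (y * w) (hne1 y w hyw) hyw'
      rw [hbil, hβs y hy hxy, hβs w hw hxw, hU1] at h1
      exact h1.symm
    have htop : frattini ↥U = ⊤ := by
      have hle : frattini ↥P ≤ (frattini ↥U).map U.subtype := by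
        rw [frattini_eq_closure_sq hPp, closure_le]
        rintro _ ⟨p, rfl⟩
        refine ⟨⟨p * p, by rw [← pow_two]; exact sq_mem_frattini hPp p⟩, ?_, (pow_two p).symm⟩
        refine (QuotientGroup.eq_one_iff _).1 ?_
        by_cases hp : π p = 1
        · have h1 := hqeq p 1 (by rw [hp, map_one])
          refine h1.trans ?_
          show ρ _ = 1
          rw [show (⟨(1 : P) * 1, by rw [← pow_two]; exact sq_mem_frattini hPp 1⟩ : U) = 1 from
            Subtype.ext (mul_one 1), map_one]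
        · exact (hconst p x hp hx).trans hs1
      refine eq_top_iff.2 fun u _ => ?_
      obtain ⟨v, hv, hvu⟩ := hle u.2
      rwa [← show v = u from Subtype.ext hvu]
    have hbot : (⊥ : Subgroup ↥U) = ⊤ := frattini_nongenerating (by rw [bot_sup_eq, htop])
    refine eq_bot_iff.2 fun u hu => mem_bot.2 ?_
    exact congrArg (fun z : U => (z : P)) (mem_bot.1 (hbot.ge (mem_top (⟨u, hu⟩ : U))))
  have hsq : ∀ p : P, p * p = 1 := fun p =>
    mem_bot.1 (helem ▸ (pow_two p ▸ sq_mem_frattini hPp p))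
  have hPab : ∀ p r : P, p * r = r * p := fun p r =>
    commutatorElement_eq_one_iff_mul_comm.1
      (mem_bot.1 (helem ▸ commutator_le_frattini hPp (comm_mem_commutator p r)))
  have hPc : Nat.card P = 8 := by
    rw [← hV8, Subgroup.card_eq_card_quotient_mul_card_subgroup (frattini ↥P), helem,
      Subgroup.card_bot, mul_one]
  -- an element of `P` outside the Frattini subgroup
  obtain ⟨x, hxP, hxΦ⟩ : ∃ x ∈ P, x ∉ frattini X := by
    by_contra hcon
    push Not at hcon
    obtain ⟨p, hp, q, hq, hpq⟩ :=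
      Cfsg.Agent.S4419.two_generated hΦ (P.subgroupOf (frattini X))
    have := card_le_four_of_pair hp hq hpq (fun y hy => Subtype.ext (congrArg
      (fun z : P => (z : X)) (hsq ⟨y, hy⟩)))
    rw [Nat.card_congr (Subgroup.subgroupOfEquivOfLe hcon).toEquiv, hPc] at this
    omega
  -- the involutions of the Frattini subgroup lie in `P`
  have hWP : ∀ p : P, (p : X) ∈ frattini X → (p : X) ∈ frW X := fun p hp =>
    subset_closure ⟨hp, congrArg Subtype.val (hsq p)⟩
  have hPW : ∀ p ∈ P, ∀ w ∈ frW X, w ∈ P := by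
    have hle : P ⊓ frattini X ≤ frW X := fun y hy => hWP ⟨y, hy.1⟩ hy.2
    have h4 : 4 ≤ Nat.card ↥(P ⊓ frattini X) := by
      let f : Bool × ↥(P ⊓ frattini X) → P := fun s =>
        ⟨(if s.1 then x else 1) * s.2, mul_mem (by split_ifs; exacts [hxP, one_mem P]) s.2.2.1⟩
      have hf : Function.Surjective f := by
        intro r
        rcases inside_or_of_proper hX hb hproper hxP hxΦ r.2 with h | h
        · exact ⟨(false, ⟨r, r.2, h⟩), Subtype.ext (by simp [f])⟩
        · exact ⟨(true, ⟨x⁻¹ * r, P.mul_mem (P.inv_mem hxP) r.2, h⟩), Subtype.ext (by simp [f])⟩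
      have := Nat.card_le_card_of_surjective f hf
      rw [Nat.card_prod, Nat.card_eq_fintype_card (α := Bool), Fintype.card_bool, hPc] at this
      omega
    have heq := Subgroup.eq_of_le_of_card_ge hle ((card_frW hX hΦ).trans h4)
    exact fun p _ w hw => (heq.ge hw).1
  -- the automorphisms from the normalizer
  let R := (autHom P).range
  have hsplit : ∀ r ∈ P, r ∈ frattini X ∨ ∃ v ∈ frW X, r = x * v := by
    intro r hr
    rcases inside_or_of_proper hX hb hproper hxP hxΦ hr with h | h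
    · exact Or.inl h
    · exact Or.inr ⟨_, hWP ⟨x⁻¹ * r, mul_mem (inv_mem hxP) hr⟩ h, by group⟩
  have hconjx : ∀ n : X, n ∈ normalizer (P : Set X) → ∃ v ∈ frW X, n * x * n⁻¹ = x * v := by
    intro n hn
    rcases hsplit _ ((Subgroup.mem_normalizer_iff.1 hn x).1 hxP) with h | h
    · exfalso
      apply hxΦ
      have := (inferInstance : (frattini X).Normal).conj_mem _ h n⁻¹
      rwa [show n⁻¹ * (n * x * n⁻¹) * n⁻¹⁻¹ = x by group] at this
    · exact h
  have hR4 : Nat.card R ≤ 4 := by
    by_cases hcW : ∀ n ∈ normalizer (P : Set X), ∀ w ∈ frW X, Commute n w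
    · -- an automorphism is determined by the image of `x`
      let f : R → frW X := fun a => by
        refine ⟨x⁻¹ * (((a : MulAut P) ⟨x, hxP⟩ : P) : X), ?_⟩
        obtain ⟨n, hn⟩ := a.2
        obtain ⟨v, hv, hnv⟩ := hconjx n n.2
        rw [← hn, autHom_apply, conjOn_coe, hnv, inv_mul_cancel_left]
        exact hv
      refine le_trans (Nat.card_le_card_of_injective f fun a b h => ?_) (card_frW hX hΦ)
      have h1 : (((a : MulAut P) ⟨x, hxP⟩ : P) : X) = (((b : MulAut P) ⟨x, hxP⟩ : P) : X) :=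
        mul_left_cancel (congrArg Subtype.val h)
      obtain ⟨n, hn⟩ := a.2
      obtain ⟨m, hm'⟩ := b.2
      refine Subtype.ext (MulEquiv.ext fun p => ?_)
      have key : ∀ r : P, (r : X) ∈ frW X → (a : MulAut P) r = (b : MulAut P) r := fun r hr =>
        Subtype.ext (by
          rw [← hn, ← hm', autHom_apply, autHom_apply, conjOn_coe, conjOn_coe, (hcW n n.2 r hr).eq,
            (hcW m m.2 r hr).eq, mul_inv_cancel_right, mul_inv_cancel_right])
      rcases hsplit p p.2 with h | ⟨v, hv, hpv⟩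
      · exact key p (hWP p h)
      · rw [show p = ⟨x, hxP⟩ * ⟨v, hPW x hxP v hv⟩ from Subtype.ext hpv, map_mul, map_mul,
          Subtype.ext h1, key ⟨v, hPW x hxP v hv⟩ hv]
    · push Not at hcW
      obtain ⟨t, htN, w, hw, htw⟩ := hcW
      have htΦ : t ∉ frattini X := fun h => htw (commute_frW hX hΦ h hw)
      have hxt : x⁻¹ * t ∉ frattini X := fun h => htw (by
        have hxw : Commute x w := congrArg Subtype.val (hPab ⟨x, hxP⟩ ⟨w, hPW x hxP w hw⟩)
        have := hxw.mul_left (commute_frW hX hΦ h hw)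
        rwa [mul_inv_cancel_left] at this)
      have hgen2 := gen_of_classes hX hb hxΦ htΦ hxt
      let c : MulAut P := autHom P ⟨t, htN⟩
      have hc4 : c ^ 4 = 1 := by
        rw [← map_pow]
        refine MulEquiv.ext fun p => Subtype.ext ?_
        rw [MulAut.one_apply, autHom_apply, conjOn_coe, Subgroup.coe_pow]
        have h2W : ∀ r ∈ frW X, Commute (t ^ 2) r := fun r hr =>
          commute_frW hX hΦ (sq_mem_frattini hX t) hr
        show t ^ 4 * (p : X) * (t ^ 4)⁻¹ = p
        rw [show t ^ 4 = t ^ 2 * t ^ 2 by rw [← pow_add]]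
        rcases hsplit p p.2 with h | ⟨v, hv, hpv⟩
        · exact mul_inv_eq_iff_eq_mul.2
            (((h2W _ (hWP p h)).mul_left (h2W _ (hWP p h))).eq)
        · obtain ⟨u, hu, hxu⟩ := hconjx (t ^ 2) (pow_mem htN 2)
          have hu2 : u * u = 1 := ((mem_frW hX hΦ).1 hu).2
          rw [hpv, show t ^ 2 * t ^ 2 * (x * v) * (t ^ 2 * t ^ 2)⁻¹ =
            t ^ 2 * (t ^ 2 * x * (t ^ 2)⁻¹) * (t ^ 2)⁻¹ *
              (t ^ 2 * t ^ 2 * v * (t ^ 2 * t ^ 2)⁻¹) by group, hxu,
            show t ^ 2 * (x * u) * (t ^ 2)⁻¹ =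
              t ^ 2 * x * (t ^ 2)⁻¹ * (t ^ 2 * u * (t ^ 2)⁻¹) by group, hxu, (h2W u hu).eq,
            mul_inv_cancel_right, ((h2W v hv).mul_left (h2W v hv)).eq, mul_inv_cancel_right,
            mul_assoc x u u, hu2, mul_one]
      have hRle : R ≤ zpowers c := by
        rintro _ ⟨n, rfl⟩
        have hmem : ∀ y ∈ closure ({x, t} : Set X), ∀ hy : y ∈ normalizer (P : Set X),
            autHom P ⟨y, hy⟩ ∈ zpowers c := by
          intro y hy
          induction hy using Subgroup.closure_induction with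
          | mem y hy =>
            intro hyN
            rcases hy with rfl | rfl
            · rw [show autHom P ⟨y, hyN⟩ = 1 from MulEquiv.ext fun p => Subtype.ext (by
                rw [MulAut.one_apply, autHom_apply, conjOn_coe,
                  show y * (p : X) = p * y from congrArg Subtype.val (hPab ⟨y, hxP⟩ p),
                  mul_inv_cancel_right])]
              exact one_mem _
            · exact mem_zpowers c
          | one =>
            intro h
            rw [show (⟨1, h⟩ : ↥(normalizer (P : Set X))) = 1 from rfl, map_one]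
            exact one_mem _
          | mul y z hy hz ihy ihz =>
            intro h
            have hN : ∀ q ∈ closure ({x, t} : Set X), q ∈ normalizer (P : Set X) := by
              have hle : closure ({x, t} : Set X) ≤ normalizer (P : Set X) := by
                rw [closure_le]
                rintro q (rfl | rfl)
                exacts [Subgroup.le_normalizer hxP, htN]
              exact hle
            rw [show (⟨y * z, h⟩ : ↥(normalizer (P : Set X))) = ⟨y, hN y hy⟩ * ⟨z, hN z hz⟩ from rfl,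
              map_mul]
            exact mul_mem (ihy _) (ihz _)
          | inv y _ ihy =>
            intro h
            rw [show (⟨y⁻¹, h⟩ : ↥(normalizer (P : Set X))) = (⟨y, inv_mem_iff.1 h⟩)⁻¹ from rfl,
              map_inv]
            exact inv_mem (ihy _)
        exact hmem n (hgen2.ge (mem_top _)) n.2
      refine (Nat.le_of_dvd (by norm_num) ((Subgroup.card_dvd_of_le hRle).trans ?_))
      rw [Nat.card_zpowers]
      exact orderOf_dvd_of_pow_eq_one hc4
  -- arithmetic
  have hA168 : Nat.card A ∣ 168 :=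
    (Subgroup.card_subgroup_dvd_card A).trans
      (CfsgLib.FTRows.OutSylow.card_mulAut_eight (fun p => (pow_two p).trans (hsq p)) hPc)
  let R' : Subgroup A := R.subgroupOf A
  have hRp : IsPGroup 2 R :=
    (hX.to_subgroup _).of_surjective (autHom P).rangeRestrict (autHom P).rangeRestrict_surjective
  have hR'p : IsPGroup 2 R' := hRp.of_equiv (Subgroup.subgroupOfEquivOfLe hR).symm
  have hR'card : Nat.card R' = Nat.card R := Nat.card_congr (Subgroup.subgroupOfEquivOfLe hR).toEquiv
  have hR'ne : R' ≠ ⊥ := by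
    obtain ⟨n, -, hnP, hnN⟩ := exists_normalizer_grow hX (le_top : P ≤ ⊤) hproper
    intro h
    apply hnP
    refine hC (mem_centralizer_iff.2 fun p hp => ?_)
    have h1 : (⟨autHom P ⟨n, hnN⟩, hR ⟨_, rfl⟩⟩ : A) ∈ R' := ⟨_, rfl⟩
    rw [h, mem_bot] at h1
    have h2 := congrArg (fun a : A => (((a : MulAut P) ⟨p, hp⟩ : P) : X)) h1
    simp only [OneMemClass.coe_one, MulAut.one_apply] at h2
    rw [autHom_apply, conjOn_coe] at h2
    exact (mul_inv_eq_iff_eq_mul.1 h2).symm
  obtain ⟨τ, hτR, hτ1, hτ2⟩ : ∃ τ ∈ R', τ ≠ 1 ∧ τ * τ = 1 := by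
    haveI : Nontrivial R' := (Subgroup.nontrivial_iff_ne_bot R').2 hR'ne
    obtain ⟨k, hk0, hk'⟩ := hR'p.nontrivial_iff_card.1 inferInstance
    obtain ⟨τ, hτ⟩ := exists_prime_orderOf_dvd_card' 2 (G := R') (hk' ▸ dvd_pow_self 2 hk0.ne')
    refine ⟨τ, τ.2, fun h => ?_, ?_⟩
    · rw [show τ = 1 from Subtype.ext h, orderOf_one] at hτ
      norm_num at hτ
    · have := congrArg (fun a : R' => (a : A)) (hτ ▸ pow_orderOf_eq_one τ : τ ^ 2 = 1)
      simpa [pow_two] using this
  let S : Subgroup A := zpowers ⟨η, hη⟩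
  have hSord : orderOf (⟨η, hη⟩ : A) = 7 := by
    rw [← Subgroup.orderOf_coe]; exact orderOf_eq_prime h7 hne
  have hScard : Nat.card S = 7 ^ 1 := by rw [Nat.card_zpowers, hSord, pow_one]
  have hidxS : S.index ∣ 12 := by
    have hmul : Nat.card S * S.index = Nat.card A := S.card_mul_index
    have hRdvd : Nat.card R' * R'.index = Nat.card A := R'.card_mul_index
    rw [hScard] at hmul
    obtain ⟨k, hk'⟩ := IsPGroup.iff_card.1 hR'p
    rw [hk'] at hRdvd
    have hkle : k ≤ 2 := by
      have : 2 ^ k ≤ 2 ^ 2 := by rw [← hk', hR'card]; exact hR4.trans (by norm_num)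
      exact (Nat.pow_le_pow_iff_right (by norm_num)).1 this
    have hidx21 : R'.index ∣ 21 := by
      have h1 : R'.index ∣ 2 ^ 3 * 21 := (Dvd.intro_left _ hRdvd).trans hA168
      exact (Nat.Coprime.pow_right 3 ((Nat.prime_two.coprime_iff_not_dvd.2 hidx).symm)).dvd_of_dvd_mul_left h1
    have hA84 : Nat.card A ∣ 84 := by
      rw [← hRdvd, show (84 : ℕ) = 2 ^ 2 * 21 by norm_num]
      exact mul_dvd_mul (pow_dvd_pow 2 hkle) hidx21
    rw [← hmul] at hA84
    exact (Nat.mul_dvd_mul_iff_left (by norm_num : 0 < 7 ^ 1)).1 hA84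
  have hS7 : ¬ 7 ∣ S.index := fun h => by
    have := h.trans hidxS
    norm_num at this
  let T : Sylow 7 A := (IsPGroup.of_card hScard).toSylow hS7
  have hn7 : Nat.card (Sylow 7 A) = 1 := by
    have h1 := T.card_dvd_index
    have h2 : Nat.card (Sylow 7 A) ≡ 1 [MOD 7] := card_sylow_modEq_one 7 A
    rw [show (T : Subgroup A) = S from rfl] at h1
    have h12 := h1.trans hidxS
    have hle := Nat.le_of_dvd (by norm_num) h12
    rw [Nat.ModEq] at h2
    have h18 : Nat.card (Sylow 7 A) = 1 ∨ Nat.card (Sylow 7 A) = 8 := by omega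
    refine h18.resolve_right fun h8 => ?_
    rw [h8] at h12
    norm_num at h12
  haveI hSn : S.Normal := by
    haveI := (Nat.card_eq_one_iff_unique.1 hn7).1
    exact T.normal_of_subsingleton
  obtain ⟨e, he⟩ := mem_zpowers_iff.1 (hSn.conj_mem _ (mem_zpowers (⟨η, hη⟩ : A)) τ)
  refine no_inverting (V := P) hPc hsq h7 hne (τ := (τ : MulAut P))
    (by rw [← Subgroup.coe_mul, hτ2, Subgroup.coe_one])
    (fun h => hτ1 (Subtype.ext h)) (e := e) ?_
  have h3 := congrArg (fun a : A => (a : MulAut P)) he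
  simpa using h3.symm

/-- The automizer of an essential subgroup gives the configuration. -/
theorem cyclic_of_automizer (hX : IsPGroup 2 X) (hb : IsBicyclic X) (hm : ¬ Cfsg.IsMetacyclic X)
    {P : Subgroup X} (hproper : P ≠ ⊤) (hC : centralizer (P : Set X) ≤ P)
    {A : Subgroup (MulAut P)} (hR : (autHom P).range ≤ A)
    (hidx : ¬ 2 ∣ ((autHom P).range.subgroupOf A).index)
    (hrad : ∀ N : Subgroup A, N.Normal → IsPGroup 2 N →
      ∀ a ∈ N, (a : MulAut P) ∈ (MulAut.conj : P →* MulAut P).range) :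
    IsCyclic ↥(commutator X) ∧
      ∀ H : Subgroup A, H.Normal → (autHom P).range.subgroupOf A ≤ H → H = ⊤ := by
  haveI : Fact (Nat.Prime 2) := ⟨Nat.prime_two⟩
  haveI : Fact (Nat.Prime 3) := ⟨Nat.prime_three⟩
  haveI : Fact (Nat.Prime 7) := ⟨by norm_num⟩
  have hΦ := frattini_metacyclic hX hb hm
  have hPp := hX.to_subgroup P
  let π := QuotientGroup.mk' (frattini ↥P)
  have hk : ∀ u, π u = 1 ↔ u ∈ frattini ↥P := fun u => QuotientGroup.eq_one_iff u
  let ρ : A →* MulAut (↥P ⧸ frattini ↥P) :=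
    MonoidHom.mk' (fun a => QuotientGroup.congr _ _ (a : MulAut P)
        (characteristic_iff_map_eq.1 frattini_characteristic _))
      fun a b => MulEquiv.ext fun q => by
        induction q using QuotientGroup.induction_on with
        | H y => rfl
  let I : Subgroup A := ((MulAut.conj : P →* MulAut P).range).subgroupOf A
  have hIR : ∀ p : P, MulAut.conj p ∈ (autHom P).range := fun p =>
    ⟨⟨p, Subgroup.le_normalizer p.2⟩, MulEquiv.ext fun q => Subtype.ext (by
      rw [autHom_apply, conjOn_coe, MulAut.conj_apply]; simp)⟩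
  have hcomV : ∀ p q : P, Commute (π p) (π q) := fun p q =>
    commutatorElement_eq_one_iff_mul_comm.1 (by
      rw [← map_commutatorElement, hk]
      exact commutator_le_frattini hPp (comm_mem_commutator p q))
  have hker : ρ.ker = I := by
    refine le_antisymm ?_ ?_
    · intro a ha
      refine hrad ρ.ker inferInstance ?_ a ha
      refine ((MetacyclicAut.isPGroup_frattiniKernel (p := 2) hPp).of_injective
        ((A.subtype.comp ρ.ker.subtype).codRestrict _ fun b => ?_) ?_)
      · intro p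
        rw [← hk, map_mul, map_inv, mul_inv_eq_one]
        exact DFunLike.congr_fun (MonoidHom.mem_ker.1 b.2) (π p)
      · intro a b h
        exact Subtype.ext (Subtype.ext
          (congrArg (fun z : MetacyclicAut.frattiniKernel ↥P => (z : MulAut P)) h))
    · rintro ⟨a, ha⟩ ⟨p, hp⟩
      refine MonoidHom.mem_ker.2 (MulEquiv.ext fun q => ?_)
      obtain ⟨q, rfl⟩ := QuotientGroup.mk'_surjective _ q
      show π (a q) = π q
      rw [show a = MulAut.conj p from hp.symm, MulAut.conj_apply, map_mul, map_mul, map_inv,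
        (hcomV p q).eq, mul_inv_cancel_right]
  have hIp : IsPGroup 2 I :=
    (hPp.of_surjective (MulAut.conj : P →* MulAut P).rangeRestrict
      (MonoidHom.rangeRestrict_surjective _)).comap_of_injective _ A.subtype_injective
  let R' : Subgroup A := ((autHom P).range).subgroupOf A
  have hIle : I ≤ R' := by
    rintro a ⟨p, hp⟩
    rw [mem_subgroupOf, show (a : MulAut P) = MulAut.conj p from hp.symm]
    exact hIR p
  have hR'p : IsPGroup 2 R' :=
    ((hX.to_subgroup _).of_surjective (autHom P).rangeRestrict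
      (autHom P).rangeRestrict_surjective).of_equiv (Subgroup.subgroupOfEquivOfLe hR).symm
  -- the image
  let Ā := ρ.range
  let R2 : Subgroup Ā := R'.map ρ.rangeRestrict
  have hR2p : IsPGroup 2 R2 := hR'p.map _
  have hR2idx : R2.index = R'.index :=
    R'.index_map_eq ρ.rangeRestrict_surjective (by rw [MonoidHom.ker_rangeRestrict, hker]; exact hIle)
  have hcore : ∀ N : Subgroup Ā, N.Normal → IsPGroup 2 N → N = ⊥ := by
    intro N hN hNp
    have h1 : IsPGroup 2 (N.comap ρ.rangeRestrict) :=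
      hNp.comap_of_ker_isPGroup _ (by rw [MonoidHom.ker_rangeRestrict, hker]; exact hIp)
    refine eq_bot_iff.2 fun y hy => mem_bot.2 ?_
    obtain ⟨a, rfl⟩ := ρ.rangeRestrict_surjective y
    have h2 : a ∈ ρ.ker := by rw [hker]; exact hrad _ (hN.comap _) h1 a hy
    exact Subtype.ext h2
  -- an element of the normalizer outside `P`
  obtain ⟨n₀, -, hn₀P, hn₀N⟩ := exists_normalizer_grow hX (le_top : P ≤ ⊤) hproper
  have hout : ∀ n : ↥(normalizer (P : Set X)),
      (⟨autHom P n, hR ⟨n, rfl⟩⟩ : A) ∈ I → (n : X) ∈ P := by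
    rintro n ⟨p, hp⟩
    have h1 : (p : X)⁻¹ * n ∈ centralizer (P : Set X) := by
      refine mem_centralizer_iff.2 fun q hq => ?_
      have h2 : (((MulAut.conj p) ⟨q, hq⟩ : P) : X) = ((autHom P n) ⟨q, hq⟩ : P) :=
        congrArg (fun a : MulAut P => ((a ⟨q, hq⟩ : P) : X)) hp
      rw [autHom_apply, conjOn_coe, MulAut.conj_apply] at h2
      simp only [Subgroup.coe_mul, Subgroup.coe_inv] at h2
      calc q * ((p : X)⁻¹ * n) = (p : X)⁻¹ * ((p : X) * q * (p : X)⁻¹) * n := by group
        _ = (p : X)⁻¹ * n * q := by rw [h2]; group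
    have := mul_mem p.2 (hC h1)
    rwa [mul_inv_cancel_left] at this
  have hR2ne : R2 ≠ ⊥ := by
    intro h
    refine hn₀P (hout ⟨n₀, hn₀N⟩ ?_)
    have h1 : ρ.rangeRestrict ⟨autHom P ⟨n₀, hn₀N⟩, hR ⟨_, rfl⟩⟩ ∈ R2 := ⟨_, ⟨_, rfl⟩, rfl⟩
    rw [h, mem_bot, ← MonoidHom.mem_ker, MonoidHom.ker_rangeRestrict, hker] at h1
    exact h1
  -- the order of the image
  have hA168 : Nat.card Ā ∣ 168 := by
    refine (Subgroup.card_subgroup_dvd_card Ā).trans ?_
    have hsqV : ∀ q : ↥P ⧸ frattini ↥P, q ^ 2 = 1 := fun q => by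
      obtain ⟨p, rfl⟩ := QuotientGroup.mk'_surjective _ q
      rw [← map_pow, hk]; exact sq_mem_frattini hPp p
    by_cases h4 : Nat.card (↥P ⧸ frattini ↥P) ≤ 4
    · exact (MetacyclicAut.card_mulAut_dvd_six h4).trans (by norm_num)
    · refine CfsgLib.FTRows.OutSylow.card_mulAut_eight hsqV ?_
      have h8 := card_frattini_quot_proper hX hb hΦ hproper
      obtain ⟨k, hk'⟩ := IsPGroup.iff_card.1 (hPp.to_quotient (frattini ↥P))
      rw [hk'] at h8 h4 ⊢
      have : k ≤ 3 := (Nat.pow_le_pow_iff_right (by norm_num : 1 < 2)).1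
        (h8.trans_eq (by norm_num))
      interval_cases k <;> simp_all
  have h7 : ¬ 7 ∣ Nat.card Ā := by
    intro h
    have h7A : 7 ∣ Nat.card A := h.trans (Subgroup.card_range_dvd ρ)
    obtain ⟨η, hη⟩ := exists_prime_orderOf_dvd_card' 7 h7A
    refine false_of_seven hX hb hm hproper hC hR hidx hrad η.2 ?_ ?_
    · rw [← Subgroup.coe_pow, ← hη, pow_orderOf_eq_one, Subgroup.coe_one]
    · intro e
      rw [← Subgroup.orderOf_coe, e, orderOf_one] at hη
      norm_num at hη
  have hidx3 : R2.index = 3 := by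
    have hodd : ¬ 2 ∣ R2.index := by rw [hR2idx]; exact hidx
    have hdvd : R2.index ∣ Nat.card Ā := R2.index_dvd_card
    have h1 : R2.index ∣ 2 ^ 3 * 21 := hdvd.trans hA168
    have h2 : R2.index ∣ 21 :=
      (Nat.Coprime.pow_right 3 ((Nat.prime_two.coprime_iff_not_dvd.2 hodd).symm)).dvd_of_dvd_mul_left h1
    have hne1 : R2.index ≠ 1 := fun h1' => hR2ne
      (hcore R2 (by rw [Subgroup.index_eq_one.1 h1']; infer_instance) hR2p)
    have h7' : ¬ 7 ∣ R2.index := fun h => h7 (h.trans hdvd)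
    have hle := Nat.le_of_dvd (by norm_num) h2
    have hpos := Nat.pos_of_dvd_of_pos h2 (by norm_num)
    interval_cases hi : R2.index <;> omega
  have hA6 : Nat.card Ā = 6 ∧ Nat.card R2 = 2 := by
    let act : Ā →* Equiv.Perm (Ā ⧸ R2) := MulAction.toPermHom Ā (Ā ⧸ R2)
    have hactk : act.ker = ⊥ := by
      refine hcore _ inferInstance (hR2p.to_le fun y hy => ?_)
      have h1 : y • ((1 : Ā) : Ā ⧸ R2) = ((1 : Ā) : Ā ⧸ R2) :=
        DFunLike.congr_fun (MonoidHom.mem_ker.1 hy) ((1 : Ā) : Ā ⧸ R2)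
      rw [MulAction.Quotient.smul_mk, smul_eq_mul, mul_one] at h1
      have h2 := QuotientGroup.eq.1 h1.symm
      rwa [inv_one, one_mul] at h2
    have h6 : Nat.card Ā ∣ 6 := by
      have h1 := Subgroup.card_dvd_of_injective act ((MonoidHom.ker_eq_bot_iff act).1 hactk)
      rw [Nat.card_perm, ← Subgroup.index_eq_card, hidx3] at h1
      exact h1
    have hm' := R2.card_mul_index
    rw [hidx3] at hm'
    have h2 : 1 < Nat.card R2 := Finite.one_lt_card_iff_nontrivial.2
      ((Subgroup.nontrivial_iff_ne_bot R2).2 hR2ne)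
    have hle := Nat.le_of_dvd (by norm_num) h6
    omega
  -- a Sylow 3-subgroup
  have hIi : I.index = 6 := by
    rw [← hker, Subgroup.index_ker]; exact hA6.1
  obtain ⟨e, he⟩ := IsPGroup.iff_card.1 hIp
  have hcardA : Nat.card A = 2 ^ e * 6 := by rw [← I.card_mul_index, he, hIi]
  obtain ⟨σ₀, hσ₀⟩ := exists_prime_orderOf_dvd_card' 3 (G := A) (by
    rw [hcardA]; exact Dvd.dvd.mul_left (by norm_num) _)
  have hT0 : ¬ 3 ∣ (zpowers σ₀).index := by
    intro h
    have hm' := (zpowers σ₀).card_mul_index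
    rw [Nat.card_zpowers, hσ₀, hcardA] at hm'
    obtain ⟨d, hd⟩ := h
    rw [hd] at hm'
    have h3 : 3 ∣ 2 ^ e * 2 := ⟨d, by omega⟩
    rw [← pow_succ] at h3
    exact absurd ((Nat.prime_dvd_prime_iff_eq Nat.prime_three Nat.prime_two).1
      (Nat.prime_three.dvd_of_dvd_pow h3)) (by norm_num)
  let T : Sylow 3 A := (IsPGroup.of_card (n := 1) (by rw [Nat.card_zpowers, hσ₀, pow_one])).toSylow hT0
  let H : Subgroup A := (zpowers (ρ.rangeRestrict σ₀)).comap ρ.rangeRestrict
  have hσρ : orderOf (ρ.rangeRestrict σ₀) = 3 := by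
    refine orderOf_eq_prime ?_ ?_
    · rw [← map_pow, ← hσ₀, pow_orderOf_eq_one, map_one]
    · intro h
      have h1 : σ₀ ∈ ρ.ker := by rwa [← MonoidHom.ker_rangeRestrict, MonoidHom.mem_ker]
      rw [hker] at h1
      obtain ⟨k, hk'⟩ := hIp ⟨σ₀, h1⟩
      have h2 := orderOf_dvd_of_pow_eq_one (congrArg Subtype.val hk')
      rw [hσ₀] at h2
      exact absurd ((Nat.prime_dvd_prime_iff_eq Nat.prime_three Nat.prime_two).1
        (Nat.prime_three.dvd_of_dvd_pow h2)) (by norm_num)
  have hH2 : H.index = 2 := by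
    rw [index_comap_of_surjective _ ρ.rangeRestrict_surjective]
    have := (zpowers (ρ.rangeRestrict σ₀)).card_mul_index
    rw [Nat.card_zpowers, hσρ, hA6.1] at this
    omega
  haveI hHn : H.Normal := Subgroup.normal_of_index_eq_two hH2
  have hTH : (T : Subgroup A) ≤ H := by
    show zpowers σ₀ ≤ H
    rw [zpowers_le]
    exact mem_zpowers (ρ.rangeRestrict σ₀)
  obtain ⟨σ₁, hσ₁N, hσ₁H⟩ : ∃ σ₁ ∈ normalizer ((zpowers σ₀ : Subgroup A) : Set A), σ₁ ∉ H := by
    by_contra hcon
    push Not at hcon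
    have htop := Sylow.normalizer_sup_eq_top' T hTH
    have hle : normalizer ((T : Subgroup A) : Set A) ⊔ H ≤ H :=
      sup_le (fun y hy => hcon y hy) le_rfl
    have h1 : H = ⊤ := top_le_iff.1 (le_trans htop.ge hle)
    rw [h1, Subgroup.index_top] at hH2
    norm_num at hH2
  -- make it a 2-element
  obtain ⟨σ, hσN, hσH, hσ2⟩ : ∃ σ ∈ normalizer ((zpowers σ₀ : Subgroup A) : Set A), σ ∉ H ∧
      ∃ k : ℕ, σ ^ 2 ^ k = 1 := by
    obtain ⟨a, m, hm', ho⟩ :=
      Nat.exists_eq_pow_mul_and_not_dvd (orderOf_pos σ₁).ne' 2 (by norm_num)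
    refine ⟨σ₁ ^ m, pow_mem hσ₁N m, ?_, a, ?_⟩
    · intro h
      refine hσ₁H ?_
      obtain ⟨l, rfl⟩ : ∃ l, m = 2 * l + 1 := ⟨m / 2, by omega⟩
      rw [pow_succ, pow_mul] at h
      exact (H.mul_mem_cancel_left (H.pow_mem (Subgroup.sq_mem_of_index_two hH2 σ₁) l)).1 h
    · rw [← pow_mul, mul_comm, ← ho, pow_orderOf_eq_one]
  -- conjugate it into the Sylow 2-subgroup
  obtain ⟨k, hσk⟩ := hσ2
  let Q : Sylow 2 A := hR'p.toSylow hidx
  obtain ⟨Q', hQ'⟩ := (IsPGroup.of_card (p := 2) (G := zpowers σ) (n := Nat.find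
    ((Nat.dvd_prime_pow Nat.prime_two).1 (orderOf_dvd_of_pow_eq_one hσk))) (by
      rw [Nat.card_zpowers]
      exact (Nat.find_spec ((Nat.dvd_prime_pow Nat.prime_two).1
        (orderOf_dvd_of_pow_eq_one hσk))).2)).exists_le_sylow
  obtain ⟨g, hg⟩ := MulAction.exists_smul_eq A Q' Q
  have hsR : g * σ * g⁻¹ ∈ R' := by
    have h1 : g * σ * g⁻¹ ∈ (g • Q' : Sylow 2 A) := by
      show g * σ * g⁻¹ ∈ (Q' : Subgroup A).map (MulAut.conj g).toMonoidHom
      exact ⟨σ, hQ' (mem_zpowers σ), rfl⟩
    rw [hg] at h1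
    exact h1
  obtain ⟨⟨t, htN⟩, ht⟩ := mem_subgroupOf.1 hsR
  obtain ⟨θ, hθdef⟩ : ∃ θ : A, g * σ₀ * g⁻¹ = θ := ⟨_, rfl⟩
  obtain ⟨c, hcdef⟩ : ∃ c : A, g * σ * g⁻¹ = c := ⟨_, rfl⟩
  rw [hcdef] at hsR ht
  have hθord : orderOf θ = 3 := by
    rw [← hθdef]; exact ((MulAut.conj g).orderOf_eq σ₀).trans hσ₀
  have hcH : c ∉ H := fun h => hσH (by
    have := hHn.conj_mem _ h g⁻¹
    rwa [← hcdef, show g⁻¹ * (g * σ * g⁻¹) * g⁻¹⁻¹ = σ by group] at this)
  have hθH : θ ∈ H := hθdef ▸ hHn.conj_mem _ (hTH (mem_zpowers σ₀)) g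
  obtain ⟨j, hj⟩ : ∃ j : ℤ, θ ^ j = c * θ * c⁻¹ := by
    obtain ⟨j, hj⟩ := mem_zpowers_iff.1
      ((Subgroup.mem_normalizer_iff.1 hσN σ₀).1 (mem_zpowers σ₀))
    refine ⟨j, ?_⟩
    rw [← hθdef, conj_zpow, hj, ← hcdef]
    group
  have hθ3 : θ ^ (3 : ℤ) = 1 := by
    rw [← orderOf_dvd_iff_zpow_eq_one, hθord]; rfl
  have hinv : c * θ * c⁻¹ = θ⁻¹ := by
    rw [← hj]
    have hj0 : ¬ (3 : ℤ) ∣ j := by
      rintro ⟨l, rfl⟩
      rw [zpow_mul, hθ3, one_zpow] at hj
      have h1 : θ = 1 := conj_eq_one_iff.1 hj.symm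
      rw [h1, orderOf_one] at hθord
      norm_num at hθord
    have hj1 : ¬ (3 : ℤ) ∣ j - 1 := by
      rintro ⟨l, hl⟩
      have hcomm : c * θ = θ * c := by
        rw [← mul_inv_eq_iff_eq_mul, ← hj, show j = 1 + 3 * l by omega, zpow_add, zpow_mul, hθ3,
          one_zpow, mul_one, zpow_one]
      -- then the image of `R` would be normal
      refine hR2ne (hcore R2 ?_ hR2p)
      have hpair : closure ({ρ.rangeRestrict θ, ρ.rangeRestrict c} : Set Ā) = ⊤ := by
        refine Subgroup.eq_top_of_card_eq _ ?_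
        have hθρ : orderOf (ρ.rangeRestrict θ) = 3 := by
          rw [← hθdef, map_mul, map_mul, map_inv]
          exact ((MulAut.conj (ρ.rangeRestrict g)).orderOf_eq _).trans hσρ
        have hc1 : ρ.rangeRestrict c ≠ 1 := fun h => hcH (by
          show ρ.rangeRestrict c ∈ zpowers _
          rw [h]; exact one_mem _)
        have hco : orderOf (ρ.rangeRestrict c) = 2 := by
          have hdvd : orderOf (⟨_, ⟨c, hsR, rfl⟩⟩ : R2) ∣ 2 := hA6.2 ▸ orderOf_dvd_natCard _
          rw [← Subgroup.orderOf_coe] at hdvd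
          rcases (Nat.dvd_prime Nat.prime_two).1 hdvd with h | h
          · exact absurd (orderOf_eq_one_iff.1 h) hc1
          · exact h
        have d3 := Subgroup.card_dvd_of_le (show zpowers (ρ.rangeRestrict θ) ≤
          closure ({ρ.rangeRestrict θ, ρ.rangeRestrict c} : Set Ā) from
            zpowers_le.2 (subset_closure (by simp)))
        have d2 := Subgroup.card_dvd_of_le (show zpowers (ρ.rangeRestrict c) ≤
          closure ({ρ.rangeRestrict θ, ρ.rangeRestrict c} : Set Ā) from
            zpowers_le.2 (subset_closure (by simp)))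
        rw [Nat.card_zpowers, hθρ] at d3
        rw [Nat.card_zpowers, hco] at d2
        have d6 := Nat.Coprime.mul_dvd_of_dvd_of_dvd (show Nat.Coprime 2 3 by norm_num) d2 d3
        exact Nat.dvd_antisymm (Subgroup.card_subgroup_dvd_card _) (hA6.1 ▸ d6)
      have hR2el : ∀ y ∈ R2, y = 1 ∨ y = ρ.rangeRestrict c := by
        intro y hy
        by_contra hcon
        push Not at hcon
        have hs : ({1, ρ.rangeRestrict c, y} : Set Ā) ⊆ R2 := by
          rintro z (rfl | rfl | rfl)
          exacts [one_mem R2, ⟨c, hsR, rfl⟩, hy]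
        have h := Set.ncard_le_ncard hs (Set.toFinite _)
        have hc1 : ρ.rangeRestrict c ≠ 1 := fun h' => hcH (by
          show ρ.rangeRestrict c ∈ zpowers _
          rw [h']; exact one_mem _)
        rw [Set.ncard_eq_three.2 ⟨1, _, y, hc1.symm, hcon.1.symm, hcon.2.symm, rfl⟩,
          ← Nat.card_coe_set_eq] at h
        change 3 ≤ Nat.card R2 at h
        rw [hA6.2] at h
        omega
      rw [← normalizer_eq_top_iff, ← top_le_iff, ← hpair, closure_le]
      rintro y (rfl | rfl)
      · refine mem_normalizer_of_conj fun z hz => ?_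
        rcases hR2el z hz with rfl | rfl
        · simp
        · rw [← map_inv, ← map_mul, ← map_mul, ← hcomm, mul_inv_cancel_right]
          exact hz
      · exact Subgroup.le_normalizer ⟨c, hsR, rfl⟩
    rw [← zpow_neg_one]
    refine zpow_eq_zpow_iff_modEq.2 ?_
    rw [hθord, Int.modEq_iff_dvd]
    push_cast
    omega
  have htP : (t : X) ∉ P := fun h => hcH (by
    show ρ.rangeRestrict c ∈ zpowers _
    have hcI : c ∈ I := ⟨⟨t, h⟩, MulEquiv.ext fun q => Subtype.ext (by
      rw [Subgroup.subtype_apply, ← ht, MulAut.conj_apply, autHom_apply, conjOn_coe]; simp)⟩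
    rw [← hker, ← MonoidHom.ker_rangeRestrict, MonoidHom.mem_ker] at hcI
    rw [hcI]; exact one_mem _)
  let cfg : Cfg X :=
    { P := P
      θ := (θ : MulAut P)
      t := t
      htN := htN
      htP := htP
      hproper := hproper
      hC := hC
      hN2 := by
        intro n hn
        by_cases hnP : n ∈ P
        · exact Or.inl hnP
        right
        have h1 : ∀ (m : X) (hm₁ : m ∈ normalizer (P : Set X)),
            ρ.rangeRestrict ⟨autHom P ⟨m, hm₁⟩, hR ⟨_, rfl⟩⟩ = 1 → m ∈ P := fun m hm₁ h => by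
          refine hout ⟨m, hm₁⟩ ?_
          rw [← hker, ← MonoidHom.ker_rangeRestrict]
          exact MonoidHom.mem_ker.2 h
        refine h1 (t⁻¹ * n) (mul_mem (inv_mem htN) hn) ?_
        classical
        have hu : ∀ (m : X) (hm₁ : m ∈ normalizer (P : Set X)),
            ρ.rangeRestrict ⟨autHom P ⟨m, hm₁⟩, hR ⟨_, rfl⟩⟩ ∈ R2 :=
          fun m hm₁ => ⟨_, ⟨⟨m, hm₁⟩, rfl⟩, rfl⟩
        by_contra hne'
        have hs : ({1, ρ.rangeRestrict ⟨autHom P ⟨t, htN⟩, hR ⟨_, rfl⟩⟩,
            ρ.rangeRestrict ⟨autHom P ⟨n, hn⟩, hR ⟨_, rfl⟩⟩} : Set Ā) ⊆ R2 := by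
          rintro z (rfl | rfl | rfl)
          exacts [one_mem R2, hu t htN, hu n hn]
        have h := Set.ncard_le_ncard hs (Set.toFinite _)
        rw [Set.ncard_eq_three.2 ⟨1, _, _, fun e => htP (h1 t htN e.symm),
          fun e => hnP (h1 n hn e.symm), fun e => hne' (by
            have h3 : (⟨autHom P ⟨t⁻¹ * n, mul_mem (inv_mem htN) hn⟩, hR ⟨_, rfl⟩⟩ : A) =
                (⟨autHom P ⟨t, htN⟩, hR ⟨_, rfl⟩⟩ : A)⁻¹ * ⟨autHom P ⟨n, hn⟩, hR ⟨_, rfl⟩⟩ := by
              refine Subtype.ext ?_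
              show autHom P ⟨t⁻¹ * n, _⟩ = (autHom P ⟨t, htN⟩)⁻¹ * autHom P ⟨n, hn⟩
              rw [← map_inv, ← map_mul]; rfl
            rw [h3, map_mul, map_inv, e, inv_mul_cancel]), rfl⟩,
          ← Nat.card_coe_set_eq] at h
        change 3 ≤ Nat.card R2 at h
        rw [hA6.2] at h
        omega
      h3 := fun p => by
        have h : (θ : MulAut P) ^ 3 = 1 := by
          rw [← Subgroup.coe_pow, ← hθord, pow_orderOf_eq_one, Subgroup.coe_one]
        have h2 := DFunLike.congr_fun h p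
        rwa [pow_succ, pow_two, MulAut.mul_apply, MulAut.mul_apply, MulAut.one_apply] at h2
      hne := fun h => by
        rw [show θ = 1 from Subtype.ext h, orderOf_one] at hθord
        norm_num at hθord
      hrel := fun p => by
        show (θ : MulAut P) (autHom P ⟨t, htN⟩ ((θ : MulAut P) p)) = autHom P ⟨t, htN⟩ p
        rw [ht, ← MulAut.mul_apply, ← MulAut.mul_apply, ← Subgroup.coe_mul, ← Subgroup.coe_mul,
          show θ * c * θ = c by rw [mul_assoc, mul_inv_eq_iff_eq_mul.1 hinv, mul_inv_cancel_left]] }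
  refine ⟨cfg.isCyclic_commutator hX hb hm, fun L hL hRL => ?_⟩
  let L2 : Subgroup Ā := L.map ρ.rangeRestrict
  have hL2n : L2.Normal := hL.map _ ρ.rangeRestrict_surjective
  have hR2L2 : R2 ≤ L2 := Subgroup.map_mono hRL
  have hd : Nat.card L2 ∣ 6 := hA6.1 ▸ L2.card_subgroup_dvd_card
  have hd2 : 2 ∣ Nat.card L2 := hA6.2 ▸ Subgroup.card_dvd_of_le hR2L2
  have hne2 : Nat.card L2 ≠ 2 := fun h => hR2ne (hcore R2 (by
    rw [Subgroup.eq_of_le_of_card_ge hR2L2 (by rw [h, hA6.2])]; exact hL2n) hR2p)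
  have hle := Nat.le_of_dvd (by norm_num) hd
  have h6 : Nat.card L2 = 6 := by
    interval_cases hh : Nat.card L2 <;> omega
  have htop : L2 = ⊤ := Subgroup.eq_top_of_card_eq _ (h6.trans hA6.1.symm)
  refine eq_top_iff.2 fun a _ => ?_
  obtain ⟨b, hb, hba⟩ := htop.ge (mem_top (ρ.rangeRestrict a))
  have h1 : b⁻¹ * a ∈ L := hRL (hIle (by
    rw [← hker, ← MonoidHom.ker_rangeRestrict, MonoidHom.mem_ker, map_mul, map_inv, hba,
      inv_mul_cancel]))
  simpa using mul_mem hb h1

end CfsgLib.Bicyclic
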