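import Cfsg.Agent.Fusion.MetacyclicAut
import Cfsg.Agent.Solvable.PGroupBasic

/-!
Bicyclic 2-groups that are not metacyclic: the structure modulo `K = ℧₁(X')[X', X]`.
-/

set_option autoImplicit false
set_option linter.unusedSectionVars false
set_option linter.style.haveILetI false

open scoped commutatorElement

namespace CfsgLib.Bicyclic

open Subgroup

universe u v

variable {X : Type u} [Group X]

/-- A product of two cyclic subgroups. -/
def IsBicyclic (X : Type u) [Group X] : Prop :=
  ∃ x y : X, ∀ g : X, ∃ i j : ℤ, g = x ^ i * y ^ j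

/-- The squares of the derived subgroup together with its commutators with the group. -/
def lowK (X : Type u) [Group X] : Subgroup X :=
  closure {s | (∃ u ∈ commutator X, s = u ^ 2) ∨ ∃ u ∈ commutator X, ∃ g, s = ⁅u, g⁆}

/-- A conjugation-stable set generates a normal subgroup. -/
theorem closure_normal {s : Set X} (h : ∀ x ∈ s, ∀ g : X, g * x * g⁻¹ ∈ s) :
    (closure s).Normal := by
  refine ⟨fun n hn g => ?_⟩
  have hle : closure s ≤ (closure s).comap (MulAut.conj g).toMonoidHom :=
    (closure_le _).2 fun x hx => subset_closure (h x hx g)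
  exact hle hn

instance lowK_normal : (lowK X).Normal := by
  have hc : ∀ u ∈ commutator X, ∀ g : X, g * u * g⁻¹ ∈ commutator X :=
    fun u hu g => (inferInstance : (commutator X).Normal).conj_mem u hu g
  refine closure_normal ?_
  rintro x (⟨u, hu, rfl⟩ | ⟨u, hu, h, rfl⟩) g
  · exact Or.inl ⟨_, hc u hu g, (conj_pow).symm⟩
  · exact Or.inr ⟨_, hc u hu g, g * h * g⁻¹, by simp only [commutatorElement_def]; group⟩

theorem sq_mem_lowK {u : X} (hu : u ∈ commutator X) : u ^ 2 ∈ lowK X :=
  subset_closure (Or.inl ⟨u, hu, rfl⟩)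

theorem comm_mem_lowK {u : X} (hu : u ∈ commutator X) (g : X) : ⁅u, g⁆ ∈ lowK X :=
  subset_closure (Or.inr ⟨u, hu, g, rfl⟩)

theorem lowK_le_commutator : lowK X ≤ commutator X := by
  refine (closure_le _).2 ?_
  rintro x (⟨u, hu, rfl⟩ | ⟨u, -, g, rfl⟩)
  · exact pow_mem hu 2
  · rw [SetLike.mem_coe, _root_.commutator_def]
    exact commutator_mem_commutator (mem_top u) (mem_top g)

theorem map_lowK_le {Y : Type v} [Group Y] (f : X →* Y) : (lowK X).map f ≤ lowK Y := by
  have hc : ∀ u ∈ commutator X, f u ∈ commutator Y := by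
    intro u hu
    have h : (commutator X).map f ≤ commutator Y := by
      rw [_root_.commutator_def, map_commutator, _root_.commutator_def]
      exact commutator_mono le_top le_top
    exact h ⟨u, hu, rfl⟩
  rw [lowK, MonoidHom.map_closure]
  refine (closure_le _).2 ?_
  rintro _ ⟨x, (⟨u, hu, rfl⟩ | ⟨u, hu, g, rfl⟩), rfl⟩
  · rw [map_pow]; exact sq_mem_lowK (hc u hu)
  · rw [map_commutatorElement]; exact comm_mem_lowK (hc u hu) _

/-- The derived subgroup lies in a normal subgroup modulo which generators commute. -/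
theorem commutator_le_of_gens {s : Set X} (hs : closure s = ⊤) (N : Subgroup X) [N.Normal]
    (h : ∀ a ∈ s, ∀ b ∈ s, ⁅a, b⁆ ∈ N) : commutator X ≤ N := by
  refine Normal.quotient_commutative_iff_commutator_le.1 ?_
  let π := QuotientGroup.mk' N
  have htop : closure (π '' s) = (⊤ : Subgroup (X ⧸ N)) := by
    rw [← MonoidHom.map_closure, hs, map_top_of_surjective π (QuotientGroup.mk'_surjective N)]
  refine ⟨⟨fun q r => ?_⟩⟩
  have hle : (⊤ : Subgroup (X ⧸ N)) ≤ centralizer (π '' s) := by
    rw [← htop, closure_le]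
    rintro _ ⟨a, ha, rfl⟩
    refine mem_centralizer_iff.2 ?_
    rintro _ ⟨b, hb, rfl⟩
    rw [← commutatorElement_eq_one_iff_mul_comm, ← map_commutatorElement]
    exact (QuotientGroup.eq_one_iff _).2 (h b hb a ha)
  have hle2 : (⊤ : Subgroup (X ⧸ N)) ≤ center (X ⧸ N) := by
    rw [← htop, closure_le]
    intro x hx
    exact mem_center_iff.2 fun y => (mem_centralizer_iff.1 (hle (mem_top y)) x hx).symm
  exact mem_center_iff.1 (hle2 (mem_top r)) q

/-- The pair form. -/
theorem commutator_le_of_pair {a b : X} (hs : closure ({a, b} : Set X) = ⊤) (N : Subgroup X)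
    [N.Normal] (h : ⁅a, b⁆ ∈ N) : commutator X ≤ N := by
  refine commutator_le_of_gens hs N ?_
  rintro x (rfl | rfl) y (rfl | rfl)
  · rw [commutatorElement_self]; exact one_mem N
  · exact h
  · rw [← commutatorElement_inv]; exact inv_mem h
  · rw [commutatorElement_self]; exact one_mem N

theorem comm_mem_commutator (g h : X) : ⁅g, h⁆ ∈ commutator X := by
  rw [_root_.commutator_def]
  exact commutator_mem_commutator (mem_top g) (mem_top h)

/-- A quotient of a metacyclic group is metacyclic. -/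
theorem isMetacyclic_of_surjective {Y : Type v} [Group Y] (f : X →* Y)
    (hf : Function.Surjective f) (h : Cfsg.IsMetacyclic X) : Cfsg.IsMetacyclic Y := by
  obtain ⟨N, hNn, hN, hQ⟩ := h
  haveI := hN
  haveI := hQ
  have hn : (N.map f).Normal := hNn.map f hf
  have hc : IsCyclic (N.map f) :=
    isCyclic_of_surjective (f.subgroupMap N) (f.subgroupMap_surjective N)
  refine ⟨N.map f, hn, hc, ?_⟩
  refine isCyclic_of_surjective (QuotientGroup.map N (N.map f) f (le_comap_map f N)) ?_
  intro q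
  induction q using QuotientGroup.induction_on with
  | H y =>
    obtain ⟨x, rfl⟩ := hf y
    exact ⟨(x : X ⧸ N), rfl⟩

/-- A group generated by an element modulo a cyclic normal subgroup is metacyclic. -/
theorem isMetacyclic_of_gen {N : Subgroup X} (hn : N.Normal) (hN : IsCyclic N) {g : X}
    (hg : closure ({g} : Set X) ⊔ N = ⊤) : Cfsg.IsMetacyclic X := by
  refine ⟨N, hn, hN, ⟨⟨(g : X ⧸ N), fun q => ?_⟩⟩⟩
  induction q using QuotientGroup.induction_on with
  | H x =>
    have hx : x ∈ closure ({g} : Set X) ⊔ N := hg.ge (mem_top x)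
    haveI := hn
    obtain ⟨w, hw, m, hm, rfl⟩ := Subgroup.mem_sup_of_normal_right.1 hx
    rw [← zpowers_eq_closure] at hw
    obtain ⟨k, rfl⟩ := mem_zpowers_iff.1 hw
    exact ⟨k, by
      show ((g : X ⧸ N)) ^ k = _
      rw [QuotientGroup.mk_mul, (QuotientGroup.eq_one_iff m).2 hm, mul_one, QuotientGroup.mk_zpow]⟩

theorem isMetacyclic_of_isCyclic (h : IsCyclic X) : Cfsg.IsMetacyclic X := by
  haveI := h
  exact ⟨⊤, inferInstance, inferInstance,
    isCyclic_of_surjective (QuotientGroup.mk' ⊤) (QuotientGroup.mk'_surjective _)⟩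

/-- The common power of two in a pair of integers. -/
theorem exists_two_split (i j : ℤ) (h : ¬ (i = 0 ∧ j = 0)) :
    ∃ (k : ℕ) (α β : ℤ), i = 2 ^ k * α ∧ j = 2 ^ k * β ∧ (Odd α ∨ Odd β) := by
  obtain ⟨n, hn⟩ : ∃ n, i.natAbs + j.natAbs = n := ⟨_, rfl⟩
  induction n using Nat.strong_induction_on generalizing i j with
  | _ n ih =>
    rcases Int.even_or_odd i with ⟨a, rfl⟩ | hi
    swap
    · exact ⟨0, i, j, by ring, by ring, Or.inl hi⟩
    rcases Int.even_or_odd j with ⟨b, rfl⟩ | hj
    swap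
    · exact ⟨0, a + a, j, by ring, by ring, Or.inr hj⟩
    obtain ⟨k, α, β, e1, e2, ho⟩ := ih (a.natAbs + b.natAbs) (by omega) a b (by omega) rfl
    exact ⟨k + 1, α, β, by rw [e1]; ring, by rw [e2]; ring, ho⟩

variable [Finite X]

theorem commutator_eq_bot_of_le_lowK (hX : IsPGroup 2 X) (h : commutator X ≤ lowK X) :
    commutator X = ⊥ := by
  by_contra hne
  haveI := hX.isNilpotent
  obtain ⟨N, hN⟩ := (Set.toFinite {N : Subgroup X | N.Normal ∧ N < commutator X}).exists_maximal
    ⟨⊥, inferInstance, bot_lt_iff_ne_bot.2 hne⟩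
  obtain ⟨hNn, hNlt⟩ := hN.prop
  haveI := hNn
  obtain ⟨x, hxC, hxN, hx⟩ := CfsgLib.PGroupBasic.exists_central_mod N (commutator X) hNlt
  let π := QuotientGroup.mk' N
  have hker : ∀ u, π u = 1 ↔ u ∈ N := fun u => QuotientGroup.eq_one_iff u
  have hcen : ∀ q, q * π x = π x * q := by
    intro q
    obtain ⟨g, rfl⟩ := QuotientGroup.mk'_surjective N q
    exact (commutatorElement_eq_one_iff_mul_comm.1 (by
      rw [← map_commutatorElement]; exact (hker _).2 (hx g))).symm
  have key : ∀ k : ℕ, π x ^ k ≠ 1 → ∀ u ∈ commutator X, π u ∈ zpowers (π x ^ k) := by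
    intro k hk
    haveI hzn : (zpowers (π x ^ k)).Normal := ⟨fun n hn g => by
      obtain ⟨j, rfl⟩ := mem_zpowers_iff.1 hn
      rw [((((show Commute g (π x) from hcen g)).pow_right k).zpow_right j).eq, mul_inv_cancel_right]
      exact zpow_mem (mem_zpowers _) j⟩
    have h1 : N ≤ (zpowers (π x ^ k)).comap π := fun u hu => by
      rw [mem_comap, (hker u).2 hu]; exact one_mem _
    have hn' : ((zpowers (π x ^ k)).comap π ⊓ commutator X).Normal := inferInstance
    intro u hu
    by_contra hu'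
    have hlt : (zpowers (π x ^ k)).comap π ⊓ commutator X < commutator X :=
      lt_of_le_not_ge inf_le_right fun hle => hu' (hle hu).1
    have hle := hN.2 ⟨hn', hlt⟩ (le_inf h1 hNlt.le)
    refine hk ?_
    rw [← map_pow]
    exact (hker _).2 (hle ⟨show π (x ^ k) ∈ _ by rw [map_pow]; exact mem_zpowers _, pow_mem hxC k⟩)
  have hx1 : π x ≠ 1 := fun e => hxN ((hker x).1 e)
  have hgen := key 1 (by rwa [pow_one])
  rw [pow_one] at hgen
  have hx2 : π x ^ 2 = 1 := by
    by_contra h2
    obtain ⟨j, hj⟩ := mem_zpowers_iff.1 (key 2 h2 x hxC)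
    have h3 : π x ^ (2 * j - 1) = 1 := by
      rw [zpow_sub, zpow_one, zpow_mul, show π x ^ (2 : ℤ) = π x ^ 2 from zpow_natCast _ 2, hj,
        mul_inv_cancel]
    have hQ : IsPGroup 2 (X ⧸ N) := hX.to_quotient N
    obtain ⟨m, hm⟩ := hQ (π x)
    have h4 := orderOf_dvd_iff_zpow_eq_one.2 h3
    obtain ⟨l, -, hl⟩ := (Nat.dvd_prime_pow Nat.prime_two).1 (orderOf_dvd_of_pow_eq_one hm)
    rw [hl] at h4
    rcases Nat.eq_zero_or_pos l with rfl | hl0
    · exact hx1 (orderOf_eq_one_iff.1 hl)
    · have : (2 : ℤ) ∣ 2 * j - 1 := (dvd_trans (by exact_mod_cast dvd_pow_self 2 hl0.ne') h4)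
      omega
  refine hNlt.ne (le_antisymm hNlt.le (h.trans ((closure_le _).2 ?_)))
  rintro y (⟨u, hu, rfl⟩ | ⟨u, hu, g, rfl⟩)
  · obtain ⟨j, hj⟩ := mem_zpowers_iff.1 (hgen u hu)
    refine (hker _).1 ?_
    rw [map_pow, ← hj, ← zpow_natCast, ← zpow_mul, mul_comm, zpow_mul, zpow_natCast, hx2, one_zpow]
  · obtain ⟨j, hj⟩ := mem_zpowers_iff.1 (hgen u hu)
    refine (hker _).1 ?_
    rw [map_commutatorElement, ← hj, commutatorElement_eq_one_iff_mul_comm]
    exact (((show Commute (π g) (π x) from hcen (π g))).zpow_right j).eq.symm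

/-- The Frattini subgroup of a 2-group is generated by the squares. -/
theorem frattini_eq_closure_sq (hX : IsPGroup 2 X) :
    frattini X = closure (Set.range fun x : X => x ^ 2) := by
  refine le_antisymm ?_ ((closure_le _).2 ?_)
  · haveI : (closure (Set.range fun x : X => x ^ 2)).Normal := closure_normal (by
      rintro _ ⟨x, rfl⟩ g
      exact ⟨g * x * g⁻¹, conj_pow⟩)
    refine CfsgLib.PGroupBasic.frattini_le_of_elementary (p := 2) _ ?_
      fun x => subset_closure ⟨x, rfl⟩
    refine Normal.quotient_commutative_iff_commutator_le.1 ⟨⟨fun q r => ?_⟩⟩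
    have hsq : ∀ s : X ⧸ closure (Set.range fun x : X => x ^ 2), s * s = 1 := fun s => by
      induction s using QuotientGroup.induction_on with
      | H x =>
        rw [← QuotientGroup.mk_mul, QuotientGroup.eq_one_iff, ← pow_two]
        exact subset_closure ⟨x, rfl⟩
    have e : ∀ s : X ⧸ closure (Set.range fun x : X => x ^ 2), s⁻¹ = s :=
      fun s => inv_eq_of_mul_eq_one_right (hsq s)
    calc q * r = (q * r)⁻¹ := (e _).symm
      _ = r * q := by rw [mul_inv_rev, e, e]
  · rintro _ ⟨x, rfl⟩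
    exact (CfsgLib.PGroupBasic.commutator_pow_le_frattini (p := 2) hX).2 x

theorem commutator_le_frattini (hX : IsPGroup 2 X) : commutator X ≤ frattini X :=
  (CfsgLib.PGroupBasic.commutator_pow_le_frattini (p := 2) hX).1

theorem sq_mem_frattini (hX : IsPGroup 2 X) (x : X) : x ^ 2 ∈ frattini X :=
  (CfsgLib.PGroupBasic.commutator_pow_le_frattini (p := 2) hX).2 x

theorem mem_frattini_of_sq (hX : IsPGroup 2 X) {P : Subgroup X} {p : P}
    (hp : p ∈ frattini P) : (p : X) ∈ frattini X := by
  rw [frattini_eq_closure_sq (hX.to_subgroup P)] at hp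
  have h : closure (Set.range fun x : P => x ^ 2) ≤ (frattini X).comap P.subtype :=
    (closure_le _).2 (by rintro _ ⟨x, rfl⟩; exact sq_mem_frattini hX (x : X))
  exact h hp

/-- If a cyclic extension of `⟨m⟩ × ⟨z⟩` with `z` a central involution, then `z` avoids `K`. -/
theorem notMem_lowK_of_split {G : Type u} [Group G] [Finite G] (hG : IsPGroup 2 G) {z m g : G}
    {M : Subgroup G} (hMn : M.Normal) (hmM : m ∈ M) (hzmem : z ∈ M) (hzc : z ∈ center G)
    (hz2 : z * z = 1) (hzor : ∀ w ∈ zpowers z, w = 1 ∨ w = z)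
    (hMel : ∀ w ∈ M, ∃ (j : ℤ) (e : G), (e = 1 ∨ e = z) ∧ w = m ^ j * e)
    (htop : closure ({g} : Set G) ⊔ M = ⊤) (hzm : z ∉ zpowers m) (hm1 : m ≠ 1) :
    z ∉ lowK G := by
  intro hzK
  have hgm : g * m * g⁻¹ ∈ M := hMn.conj_mem m hmM g
  obtain ⟨ee, w0, hw0, hconj⟩ := hMel _ hgm
  have hcm : ∀ w ∈ M, Commute m w := by
    intro w hw
    obtain ⟨j, e, he, rfl⟩ := hMel w hw
    refine ((Commute.refl m).zpow_right j).mul_right ?_
    rcases he with rfl | rfl
    exacts [Commute.one_right m, mem_center_iff.1 hzc m]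
  have hw0sq : w0 ^ 2 = 1 := by rcases hw0 with rfl | rfl <;> simp [pow_two, hz2]
  have hw0c : ∀ x, Commute x w0 := by
    intro x
    rcases hw0 with rfl | rfl
    exacts [Commute.one_right x, mem_center_iff.1 hzc x]
  -- `ee` is odd
  obtain ⟨f, hf⟩ : ∃ f : ℤ, ee = 2 * f + 1 := by
    rcases Int.even_or_odd' ee with ⟨l, hl | hl⟩
    swap
    · exact ⟨l, hl⟩
    exfalso
    obtain ⟨k, hk⟩ := IsPGroup.iff_orderOf.1 hG m
    have hk0 : k ≠ 0 := by rintro rfl; exact hm1 (orderOf_eq_one_iff.1 hk)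
    have h1 : (g * m * g⁻¹) ^ 2 ^ (k - 1) = w0 ^ 2 ^ (k - 1) := by
      rw [hconj, ((hw0c _)).mul_pow, hl]
      have : (m ^ (2 * l)) ^ 2 ^ (k - 1) = 1 := by
        rw [← zpow_natCast, ← zpow_mul, ← orderOf_dvd_iff_zpow_eq_one, hk]
        refine ⟨l, ?_⟩
        push_cast
        rw [show (2 : ℤ) ^ k = 2 * 2 ^ (k - 1) by rw [← pow_succ']; congr 1; omega]
        ring
      rw [this, one_mul]
    rw [conj_pow] at h1
    have h2 : m ^ 2 ^ (k - 1) = w0 ^ 2 ^ (k - 1) := by
      calc m ^ 2 ^ (k - 1) = g⁻¹ * (g * m ^ 2 ^ (k - 1) * g⁻¹) * g := by group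
        _ = w0 ^ 2 ^ (k - 1) := by
          rw [h1, mul_assoc, ← ((hw0c g).pow_right _).eq, inv_mul_cancel_left]
    have h3 : m ^ 2 ^ (k - 1) ≠ 1 := by
      refine pow_ne_one_of_lt_orderOf (by positivity) ?_
      rw [hk]
      exact Nat.pow_lt_pow_right (by norm_num) (by omega)
    have h4 : m ^ 2 ^ (k - 1) = z := by
      rcases hzor (w0 ^ 2 ^ (k - 1)) (by
        rcases hw0 with rfl | rfl
        exacts [by rw [one_pow]; exact one_mem _, pow_mem (mem_zpowers _) _]) with h | h
      · exact absurd (h2.trans h) h3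
      · exact h2.trans h
    exact hzm (h4 ▸ pow_mem (mem_zpowers m) _)
  -- the derived subgroup is `⟨d⟩`
  obtain ⟨d, hd⟩ : ∃ d, ⁅g, m⁆ = d := ⟨_, rfl⟩
  have hd' : d = (m ^ f) ^ 2 * w0 := by
    rw [← hd, commutatorElement_def, hconj, hf, mul_assoc, ← (hw0c (m⁻¹)).eq, ← mul_assoc,
      ← zpow_natCast, ← zpow_mul]
    congr 1
    group
  have hdM : d ∈ M := by rw [hd']; exact mul_mem (pow_mem (zpow_mem hmM f) 2) (by
      rcases hw0 with rfl | rfl
      exacts [one_mem _, hzmem])
  have hdg : g * d * g⁻¹ = d ^ ee := by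
    have e1 : g * (m ^ f) ^ 2 * g⁻¹ = (m ^ (ee * f)) ^ 2 := by
      rw [← conj_pow, ← conj_zpow, hconj, (hw0c _).mul_zpow, ← zpow_mul,
        (((hw0c _).zpow_right f)).mul_pow]
      have : (w0 ^ f) ^ 2 = 1 := by
        rw [← zpow_natCast, ← zpow_mul, mul_comm, zpow_mul, zpow_natCast, hw0sq, one_zpow]
      rw [this, mul_one]
    have e2 : ((m ^ f) ^ 2) ^ ee = (m ^ (ee * f)) ^ 2 := by
      rw [← zpow_natCast, ← zpow_natCast, ← zpow_mul, ← zpow_mul, ← zpow_mul]
      congr 1
      push_cast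
      ring
    have e3 : w0 ^ ee = w0 := by
      rw [hf, zpow_add, zpow_mul, show w0 ^ (2 : ℤ) = w0 ^ 2 from zpow_natCast _ 2, hw0sq, one_zpow,
        one_mul, zpow_one]
    rw [hd', (hw0c _).mul_zpow, e2, e3,
      show g * ((m ^ f) ^ 2 * w0) * g⁻¹ = g * (m ^ f) ^ 2 * g⁻¹ * (g * w0 * g⁻¹) by group, e1,
      (hw0c g).eq, mul_inv_cancel_right]
  have hdn : ∀ x, ∃ k : ℤ, x * d * x⁻¹ = d ^ k := by
    intro x
    have hx : x ∈ closure ({g} : Set G) ⊔ M := htop.ge (mem_top x)
    obtain ⟨a, ha, b, hb, rfl⟩ := Subgroup.mem_sup_of_normal_right.1 hx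
    have hb' : b * d * b⁻¹ = d := by
      have hdc : Commute d b := by
        rw [hd']
        exact (((hcm b hb).zpow_left f).pow_left 2).mul_left (hw0c b).symm
      rw [← hdc.eq, mul_inv_cancel_right]
    have hg' : ∀ y ∈ closure ({g} : Set G), ∃ k : ℤ, y * d * y⁻¹ = d ^ k := by
      intro y hy
      rw [← zpowers_eq_closure] at hy
      obtain ⟨l, rfl⟩ := (isOfFinOrder_of_finite g).mem_powers_iff_mem_zpowers.2 hy
      show ∃ k : ℤ, g ^ l * d * (g ^ l)⁻¹ = d ^ k
      clear hy
      induction l with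
      | zero => exact ⟨1, by group⟩
      | succ l ih =>
        obtain ⟨k, hk⟩ := ih
        refine ⟨ee * k, ?_⟩
        rw [show g ^ (l + 1) * d * (g ^ (l + 1))⁻¹ = g * (g ^ l * d * (g ^ l)⁻¹) * g⁻¹ by
          rw [pow_succ']; group, hk, ← conj_zpow, hdg, zpow_mul]
    obtain ⟨k, hk⟩ := hg' a ha
    exact ⟨k, by rw [show a * b * d * (a * b)⁻¹ = a * (b * d * b⁻¹) * a⁻¹ by group, hb', hk]⟩
  haveI hDn : (zpowers d).Normal := ⟨fun w hw x => by
    obtain ⟨j, rfl⟩ := mem_zpowers_iff.1 hw
    obtain ⟨k, hk⟩ := hdn x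
    rw [← conj_zpow, hk]
    exact zpow_mem (zpow_mem (mem_zpowers d) k) j⟩
  have hcomm : commutator G ≤ zpowers d := by
    refine commutator_le_of_gens (s := {g, m, z}) (eq_top_iff.2 ?_) _ ?_
    · rw [← htop, sup_le_iff]
      refine ⟨closure_mono (Set.singleton_subset_iff.2 (Set.mem_insert g _)), fun w hw => ?_⟩
      obtain ⟨j, e, he, rfl⟩ := hMel w hw
      refine mul_mem (zpow_mem (subset_closure (by simp)) j) ?_
      rcases he with rfl | rfl
      exacts [one_mem _, subset_closure (by simp)]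
    · have hzz : ∀ w : G, ⁅z, w⁆ = 1 := fun w =>
        commutatorElement_eq_one_iff_mul_comm.2 (mem_center_iff.1 hzc w).symm
      rintro a (rfl | rfl | rfl) b (rfl | rfl | rfl)
      all_goals first
        | (rw [commutatorElement_self]; exact one_mem _)
        | (rw [hzz]; exact one_mem _)
        | (rw [← commutatorElement_inv, hzz, inv_one]; exact one_mem _)
        | exact hd ▸ mem_zpowers d
        | (rw [← commutatorElement_inv]; exact inv_mem (hd ▸ mem_zpowers d))
  have hD2 : ∀ w ∈ commutator G, w ^ 2 ∈ zpowers (d ^ 2) := by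
    intro w hw
    obtain ⟨j, rfl⟩ := mem_zpowers_iff.1 (hcomm hw)
    exact ⟨j, by simp only [← zpow_natCast, ← zpow_mul]; congr 1; ring⟩
  have hlow : lowK G ≤ zpowers (d ^ 2) := by
    refine (closure_le _).2 ?_
    rintro w (⟨u, hu, rfl⟩ | ⟨u, hu, x, rfl⟩)
    · exact hD2 u hu
    · obtain ⟨j, rfl⟩ := mem_zpowers_iff.1 (hcomm hu)
      obtain ⟨k, hk⟩ := hdn x
      -- `k` may be taken odd
      have e : ⁅d ^ j, x⁆ = d ^ (j - k * j) := by
        rw [commutatorElement_def, show d ^ j * x * (d ^ j)⁻¹ * x⁻¹ =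
          d ^ j * (x * (d ^ j)⁻¹ * x⁻¹) by group, ← zpow_neg, ← conj_zpow, hk, ← zpow_mul,
          ← zpow_add]
        ring_nf
      rcases Int.even_or_odd' k with ⟨l, rfl | rfl⟩
      · -- then `d` is a proper power of its own generator: `d = 1`
        obtain ⟨q, hq⟩ := IsPGroup.iff_orderOf.1 hG d
        rcases Nat.eq_zero_or_pos q with rfl | hq0
        · rw [orderOf_eq_one_iff.1 hq, one_zpow, commutatorElement_one_left]
          exact one_mem _
        exfalso
        have h1 : (x * d * x⁻¹) ^ 2 ^ (q - 1) = 1 := by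
          rw [hk, ← zpow_natCast, ← zpow_mul, ← orderOf_dvd_iff_zpow_eq_one, hq]
          refine ⟨l, ?_⟩
          push_cast
          rw [show (2 : ℤ) ^ q = 2 * 2 ^ (q - 1) by rw [← pow_succ']; congr 1; omega]
          ring
        rw [conj_pow] at h1
        refine pow_ne_one_of_lt_orderOf (x := d) (n := 2 ^ (q - 1)) (by positivity) ?_
          (conj_eq_one_iff.1 h1)
        rw [hq]
        exact Nat.pow_lt_pow_right (by norm_num) (by omega)
      · rw [e]
        exact ⟨-(l * j), by simp only [← zpow_natCast, ← zpow_mul]; congr 1; push_cast; ring⟩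
  obtain ⟨j, hj⟩ := mem_zpowers_iff.1 (hlow hzK)
  apply hzm
  rw [← hj, hd', (hw0c _).mul_pow, hw0sq, mul_one]
  exact zpow_mem (pow_mem (pow_mem (zpow_mem (mem_zpowers m) f) 2) 2) j

theorem metacyclic_of_quot_aux : ∀ (n : ℕ) (G : Type u) [Group G] [Finite G], Nat.card G ≤ n →
    IsPGroup 2 G → Cfsg.IsMetacyclic (G ⧸ lowK G) → Cfsg.IsMetacyclic G := by
  intro n
  induction n with
  | zero => intro G _ _ h; exact absurd h (by have := Nat.card_pos (α := G); omega)
  | succ n ih =>
  intro G _ _ hcard hG hq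
  by_cases hK : lowK G = ⊥
  · refine CfsgLib.MetacyclicAut.isMetacyclic_of_injective (QuotientGroup.mk' (lowK G)) ?_ hq
    rw [← MonoidHom.ker_eq_bot_iff, QuotientGroup.ker_mk', hK]
  haveI := hG.isNilpotent
  obtain ⟨z, hz, hz1⟩ := (bot_or_exists_ne_one _).resolve_left
    (CfsgLib.PGroupBasic.inf_center_ne_bot (lowK G) hK)
  -- a central involution in `K`
  obtain ⟨z, hzK, hzc, hzo⟩ : ∃ z ∈ lowK G, z ∈ center G ∧ orderOf z = 2 := by
    obtain ⟨m, hm⟩ := IsPGroup.iff_orderOf.1 hG z
    have hm0 : m ≠ 0 := by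
      rintro rfl
      exact hz1 (orderOf_eq_one_iff.1 hm)
    refine ⟨z ^ 2 ^ (m - 1), pow_mem hz.1 _, pow_mem hz.2 _, ?_⟩
    rw [orderOf_pow' _ (by positivity), hm, Nat.gcd_eq_right (pow_dvd_pow 2 (by omega)),
      Nat.pow_div (by omega) (by norm_num), show m - (m - 1) = 1 by omega, pow_one]
  have hz2 : z * z = 1 := by rw [← pow_two, ← hzo, pow_orderOf_eq_one]
  haveI hZn : (zpowers z).Normal := ⟨fun w hw g => by
    obtain ⟨j, rfl⟩ := mem_zpowers_iff.1 hw
    rw [((show Commute g z from mem_center_iff.1 hzc g).zpow_right j).eq, mul_inv_cancel_right]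
    exact zpow_mem (mem_zpowers z) j⟩
  let π := QuotientGroup.mk' (zpowers z)
  have hsmall : Nat.card (G ⧸ zpowers z) ≤ n := by
    have h2 := Subgroup.card_eq_card_quotient_mul_card_subgroup (zpowers z)
    rw [Nat.card_zpowers, hzo] at h2
    omega
  have hmeta : Cfsg.IsMetacyclic (G ⧸ zpowers z) := by
    refine ih (G ⧸ zpowers z) hsmall (hG.to_quotient _) ?_
    refine isMetacyclic_of_surjective (QuotientGroup.map (lowK G) (lowK (G ⧸ zpowers z)) π
      fun x hx => map_lowK_le π ⟨x, hx, rfl⟩) ?_ hq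
    intro q
    induction q using QuotientGroup.induction_on with
    | H y =>
      obtain ⟨x, rfl⟩ := QuotientGroup.mk'_surjective (zpowers z) y
      exact ⟨(x : G ⧸ lowK G), rfl⟩
  obtain ⟨N, hNn, hN, hQ⟩ := hmeta
  obtain ⟨⟨n0, hn0⟩, hngen⟩ := IsCyclic.exists_generator (α := N)
  obtain ⟨m, rfl⟩ := QuotientGroup.mk'_surjective (zpowers z) n0
  obtain ⟨g0, hg0⟩ := IsCyclic.exists_generator (α := (G ⧸ zpowers z) ⧸ N)
  obtain ⟨g1, rfl⟩ := QuotientGroup.mk'_surjective N g0
  obtain ⟨g, rfl⟩ := QuotientGroup.mk'_surjective (zpowers z) g1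
  let M := N.comap π
  haveI hMn : M.Normal := hNn.comap π
  have hzmem : z ∈ M := by
    show π z ∈ N
    rw [show π z = 1 from (QuotientGroup.eq_one_iff z).2 (mem_zpowers z)]; exact one_mem N
  have hmM : m ∈ M := hn0
  have hzor : ∀ w ∈ zpowers z, w = 1 ∨ w = z := by
    intro w hw
    obtain ⟨j, rfl⟩ := mem_zpowers_iff.1 hw
    have hzz : z ^ (2 : ℤ) = 1 := by rw [zpow_two]; exact hz2
    rcases Int.even_or_odd' j with ⟨l, rfl | rfl⟩
    · left; rw [zpow_mul, hzz, one_zpow]
    · right; rw [zpow_add, zpow_mul, hzz, one_zpow, one_mul, zpow_one]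
  have hMel : ∀ w ∈ M, ∃ (j : ℤ) (e : G), (e = 1 ∨ e = z) ∧ w = m ^ j * e := by
    intro w hw
    obtain ⟨j, hj⟩ := mem_zpowers_iff.1 (hngen ⟨π w, hw⟩)
    have hj' : π m ^ j = π w := congrArg Subtype.val hj
    rw [← map_zpow] at hj'
    exact ⟨j, (m ^ j)⁻¹ * w, hzor _ (QuotientGroup.eq.1 hj'), by rw [mul_inv_cancel_left]⟩
  have htop : closure ({g} : Set G) ⊔ M = ⊤ := by
    refine eq_top_iff.2 fun x _ => ?_
    obtain ⟨j, hj⟩ := mem_zpowers_iff.1 (hg0 (QuotientGroup.mk' N (π x)))
    rw [← map_zpow, ← map_zpow] at hj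
    have hmem : (g ^ j)⁻¹ * x ∈ M := by
      show π ((g ^ j)⁻¹ * x) ∈ N
      rw [map_mul, map_inv]
      exact QuotientGroup.eq.1 hj
    rw [show x = g ^ j * ((g ^ j)⁻¹ * x) by group]
    exact Subgroup.mul_mem_sup (zpow_mem (subset_closure (Set.mem_singleton g)) j) hmem
  by_cases hMc : IsCyclic M
  · exact isMetacyclic_of_gen hMn hMc htop
  exfalso
  have hzm : z ∉ zpowers m := by
    intro hzm
    refine hMc (isCyclic_of_injective (inclusion (show M ≤ zpowers m from fun w hw => ?_))
      (inclusion_injective _))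
    obtain ⟨j, e, he, rfl⟩ := hMel w hw
    refine mul_mem (zpow_mem (mem_zpowers m) j) ?_
    rcases he with rfl | rfl
    exacts [one_mem _, hzm]
  have hm1 : m ≠ 1 := by
    intro h
    refine hMc (isCyclic_of_injective (inclusion (show M ≤ zpowers z from fun w hw => ?_))
      (inclusion_injective _))
    obtain ⟨j, e, he, rfl⟩ := hMel w hw
    rw [h, one_zpow, one_mul]
    rcases he with rfl | rfl
    exacts [one_mem _, mem_zpowers _]
  exact notMem_lowK_of_split hG hMn hmM hzmem hzc hz2 hzor hMel htop hzm hm1 hzK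

/-- A 2-group is metacyclic as soon as its quotient by `K` is. -/
theorem metacyclic_of_quot (hX : IsPGroup 2 X) (h : Cfsg.IsMetacyclic (X ⧸ lowK X)) :
    Cfsg.IsMetacyclic X :=
  metacyclic_of_quot_aux _ X le_rfl hX h

/-- In a noncyclic bicyclic 2-group the Frattini subgroup consists of the products of even
powers. -/
theorem frattini_bicyclic (hX : IsPGroup 2 X) {x y : X} (h : ∀ g, ∃ i j : ℤ, g = x ^ i * y ^ j)
    (hnc : ¬ IsCyclic X) :
    closure ({x, y} : Set X) = ⊤ ∧ x ∉ frattini X ∧ y ∉ frattini X ∧ x * y ∉ frattini X ∧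
      ∀ i j : ℤ, x ^ i * y ^ j ∈ frattini X → 2 ∣ i ∧ 2 ∣ j := by
  have hgen : closure ({x, y} : Set X) = ⊤ := eq_top_iff.2 fun g _ => by
    obtain ⟨i, j, rfl⟩ := h g
    exact mul_mem (zpow_mem (subset_closure (by simp)) i) (zpow_mem (subset_closure (by simp)) j)
  have hone : ∀ w : X, closure ({w} : Set X) ⊔ frattini X ≠ ⊤ := fun w hw => by
    have h1 : closure ({w} : Set X) = ⊤ := frattini_nongenerating hw
    rw [← zpowers_eq_closure] at h1
    exact hnc ⟨⟨w, fun g => h1.ge (mem_top g)⟩⟩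
  have hk : ∀ w v : X, closure ({w, v} : Set X) = ⊤ → v ∉ frattini X := by
    intro w v hwv hv
    refine hone w (eq_top_iff.2 ?_)
    rw [← hwv, closure_le]
    rintro u (rfl | rfl)
    exacts [mem_sup_left (subset_closure rfl), mem_sup_right hv]
  have hx : x ∉ frattini X := hk y x (by rwa [Set.pair_comm])
  have hy : y ∉ frattini X := hk x y hgen
  have hxy : x * y ∉ frattini X := by
    refine hk x (x * y) (eq_top_iff.2 ?_)
    rw [← hgen, closure_le]
    rintro u (rfl | rfl)
    · exact subset_closure (by simp)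
    · have h1 := mul_mem (inv_mem (subset_closure (Set.mem_insert x {x * u}))) (subset_closure
        (Set.mem_insert_of_mem x (Set.mem_singleton (x * u))))
      rwa [inv_mul_cancel_left] at h1
  refine ⟨hgen, hx, hy, hxy, fun i j hm => ?_⟩
  have hsq : ∀ (w : X) (l : ℤ), w ^ (2 * l) ∈ frattini X := fun w l => by
    rw [zpow_mul, zpow_two, ← pow_two]; exact zpow_mem (sq_mem_frattini hX w) l
  have hfn : (frattini X).Normal := inferInstance
  rcases Int.even_or_odd' i with ⟨i', rfl | rfl⟩ <;> rcases Int.even_or_odd' j with ⟨j', rfl | rfl⟩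
  · exact ⟨dvd_mul_right 2 i', dvd_mul_right 2 j'⟩
  · exfalso
    have h1 := (mul_mem_cancel_left (hsq x i')).1 hm
    rw [zpow_add, zpow_one] at h1
    exact hy ((mul_mem_cancel_left (hsq y j')).1 h1)
  · exfalso
    have h1 := (mul_mem_cancel_right (hsq y j')).1 hm
    rw [zpow_add, zpow_one] at h1
    exact hx ((mul_mem_cancel_left (hsq x i')).1 h1)
  · exfalso
    rw [zpow_add, zpow_one, zpow_add, zpow_one, mul_assoc] at hm
    have h1 := (mul_mem_cancel_left (hsq x i')).1 hm
    rw [← mul_assoc, show x * y ^ (2 * j') = x * y ^ (2 * j') * x⁻¹ * x by group,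
      mul_assoc] at h1
    exact hxy ((mul_mem_cancel_left (hfn.conj_mem _ (hsq y j') x)).1 h1)

/-- Generators with the properties used throughout. -/
structure Gens (X : Type u) [Group X] where
  /-- The generator of large order modulo the derived subgroup. -/
  a : X
  /-- The generator whose square lies in `K`. -/
  b : X
  /-- The exponent. -/
  r : ℕ
  two_le : 2 ≤ r
  gen : closure ({a, b} : Set X) = ⊤
  sq : b ^ 2 ∈ lowK X
  apow : a ^ 2 ^ r ∈ lowK X
  abpow : (a * b) ^ 2 ^ r ∈ lowK X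
  span : ∀ g : X, ∃ i j : ℤ, (a ^ i * b ^ j)⁻¹ * g ∈ commutator X
  indep : ∀ i j : ℤ, a ^ i * b ^ j ∈ commutator X → (2 : ℤ) ^ r ∣ i ∧ 2 ∣ j
  notmem : ⁅a, b⁆ ∉ lowK X
  notpow : ∀ i : ℤ, ⁅a, b⁆⁻¹ * a ^ i ∉ lowK X

theorem exists_gens (hX : IsPGroup 2 X) (hb : IsBicyclic X) (hm : ¬ Cfsg.IsMetacyclic X) :
    Nonempty (Gens X) := by
  obtain ⟨x, y, hxy⟩ := hb
  have hnc : ¬ IsCyclic X := fun h => hm (isMetacyclic_of_isCyclic h)
  obtain ⟨hgen, hx, hy, hxyΦ, hpar⟩ := frattini_bicyclic hX hxy hnc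
  let π := QuotientGroup.mk' (lowK X)
  have hk : ∀ u, π u = 1 ↔ u ∈ lowK X := fun u => QuotientGroup.eq_one_iff u
  have hcent : ∀ u ∈ commutator X, ∀ q : X ⧸ lowK X, Commute (π u) q := by
    intro u hu q
    obtain ⟨g, rfl⟩ := QuotientGroup.mk'_surjective _ q
    exact commutatorElement_eq_one_iff_mul_comm.1 (by
      rw [← map_commutatorElement]; exact (hk _).2 (comm_mem_lowK hu g))
  have hsq1 : ∀ u ∈ commutator X, π u * π u = 1 := fun u hu => by
    rw [← map_mul, ← pow_two]; exact (hk _).2 (sq_mem_lowK hu)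
  have hsqc : ∀ (g : X) (q : X ⧸ lowK X), Commute (π g ^ 2) q := by
    intro g q
    obtain ⟨h, rfl⟩ := QuotientGroup.mk'_surjective _ q
    have hu := comm_mem_commutator g h
    refine commutatorElement_eq_one_iff_mul_comm.1 ?_
    calc ⁅π g ^ 2, π h⁆ = π g * ⁅π g, π h⁆ * (π g)⁻¹ * ⁅π g, π h⁆ := by
          rw [pow_two, commutatorElement_def, commutatorElement_def]; group
      _ = ⁅π g, π h⁆ * ⁅π g, π h⁆ := by
          rw [← map_commutatorElement, ← (hcent _ hu (π g)).eq, mul_inv_cancel_right]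
      _ = 1 := by rw [← map_commutatorElement]; exact hsq1 _ hu
  obtain ⟨c, hc⟩ : ∃ c, π ⁅x, y⁆ = c := ⟨_, rfl⟩
  have hcc : ∀ q, Commute c q := fun q => hc ▸ hcent _ (comm_mem_commutator x y) q
  have hc2 : c * c = 1 := hc ▸ hsq1 _ (comm_mem_commutator x y)
  -- the derived subgroup modulo `K`
  have hder : ∀ u ∈ commutator X, π u = 1 ∨ π u = c := by
    haveI hn : (zpowers c).Normal := ⟨fun w hw q => by
      obtain ⟨j, rfl⟩ := mem_zpowers_iff.1 hw
      rw [← (((hcc q).zpow_left j)).eq, mul_inv_cancel_right]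
      exact zpow_mem (mem_zpowers c) j⟩
    intro u hu
    obtain ⟨j, hj⟩ := mem_zpowers_iff.1 (commutator_le_of_pair hgen ((zpowers c).comap π)
      (show π ⁅x, y⁆ ∈ zpowers c from hc ▸ mem_zpowers c) hu)
    have h2 : c ^ (2 : ℤ) = 1 := by rw [zpow_two]; exact hc2
    rcases Int.even_or_odd' j with ⟨l, rfl | rfl⟩
    · left; rw [← hj, zpow_mul, h2, one_zpow]
    · right; rw [← hj, zpow_add, zpow_mul, h2, one_zpow, one_mul, zpow_one]
  have hc1 : c ≠ 1 := by
    intro h
    have hbot := commutator_eq_bot_of_le_lowK hX fun u hu => (hk u).1 (by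
      rcases hder u hu with e | e
      exacts [e, e.trans h])
    -- an abelian group generated by two elements
    have hn : (zpowers x).Normal := ⟨fun w hw g => by
      have h1 : ⁅g, w⁆ = 1 := mem_bot.1 (hbot ▸ comm_mem_commutator g w)
      rw [commutatorElement_eq_one_iff_mul_comm] at h1
      rw [h1, mul_inv_cancel_right]; exact hw⟩
    refine hm (isMetacyclic_of_gen hn inferInstance (g := y) (eq_top_iff.2 ?_))
    rw [← hgen, closure_le]
    rintro u (rfl | rfl)
    exacts [mem_sup_right (mem_zpowers u), mem_sup_left (subset_closure rfl)]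
  have hnotin : ∀ w w' : X, closure ({w, w'} : Set X) = ⊤ → c ∉ zpowers (π w) := by
    intro w w' hww hcw
    have hn : (zpowers (π w)).Normal := ⟨fun v hv q => by
      obtain ⟨g, rfl⟩ := QuotientGroup.mk'_surjective _ q
      obtain ⟨j, rfl⟩ := mem_zpowers_iff.1 hv
      rw [← map_zpow, show π g * π (w ^ j) * (π g)⁻¹ = π ⁅g, w ^ j⁆ * π (w ^ j) by
        rw [commutatorElement_def]; simp only [map_mul, map_inv]; group, map_zpow]
      refine mul_mem ?_ (zpow_mem (mem_zpowers _) j)
      rcases hder _ (comm_mem_commutator g (w ^ j)) with e | e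
      · rw [e]; exact one_mem _
      · rw [e]; exact hcw⟩
    refine hm (metacyclic_of_quot hX (isMetacyclic_of_gen hn inferInstance (g := π w')
      (eq_top_iff.2 ?_)))
    rw [← map_top_of_surjective π (QuotientGroup.mk'_surjective _), ← hww, MonoidHom.map_closure,
      closure_le]
    rintro _ ⟨u, (rfl | rfl), rfl⟩
    exacts [mem_sup_right (mem_zpowers _), mem_sup_left (subset_closure rfl)]
  -- the involution outside the Frattini subgroup
  obtain ⟨a, b, hab, hbK⟩ : ∃ a b : X, closure ({a, b} : Set X) = ⊤ ∧ π b * π b = 1 := by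
    obtain ⟨i, j, hij⟩ := hxy ⁅x, y⁆
    obtain ⟨⟨i', rfl⟩, ⟨j', rfl⟩⟩ :=
      hpar i j (hij ▸ commutator_le_frattini hX (comm_mem_commutator x y))
    have hij' : c = (π x ^ 2) ^ i' * (π y ^ 2) ^ j' := by
      rw [← hc, hij, map_mul, map_zpow, map_zpow, zpow_mul, zpow_mul, zpow_two, zpow_two, pow_two,
        pow_two]
    obtain ⟨k, α, β, rfl, rfl, hodd⟩ := exists_two_split i' j' (by
      rintro ⟨rfl, rfl⟩
      exact hc1 (by rw [hij', zpow_zero, zpow_zero, one_mul]))
    let w := x ^ α * y ^ β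
    have hgenw : closure ({x, w} : Set X) = ⊤ ∨ closure ({y, w} : Set X) = ⊤ := by
      have key : ∀ (u v : X) (e : ℤ), Odd e → closure ({u, v} : Set X) = ⊤ →
          ∀ s : Subgroup X, v ∈ s → u ^ e ∈ s → s = ⊤ := by
        intro u v e he huv s hv hu
        refine frattini_nongenerating (eq_top_iff.2 ?_)
        rw [← huv, closure_le]
        rintro t (rfl | rfl)
        · obtain ⟨l, rfl⟩ := he
          have h1 : t ^ (2 * l) ∈ frattini X := by
            rw [zpow_mul, zpow_two, ← pow_two]; exact zpow_mem (sq_mem_frattini hX t) l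
          rw [show t = (t ^ (2 * l))⁻¹ * t ^ (2 * l + 1) by group]
          exact mul_mem (mem_sup_right (inv_mem h1)) (mem_sup_left hu)
        · exact mem_sup_left hv
      rcases hodd with ho | ho
      · right
        refine key x y α ho hgen _ (subset_closure (by simp)) ?_
        rw [show x ^ α = w * (y ^ β)⁻¹ by simp [w]]
        exact mul_mem (subset_closure (by simp)) (inv_mem (zpow_mem (subset_closure (by simp)) β))
      · left
        refine key y x β ho (by rwa [Set.pair_comm]) _ (subset_closure (by simp)) ?_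
        rw [show y ^ β = (x ^ α)⁻¹ * w by simp [w]]
        exact mul_mem (inv_mem (zpow_mem (subset_closure (by simp)) α)) (subset_closure (by simp))
    have hcw : c ∉ zpowers (π w) := by
      rcases hgenw with h | h <;> exact hnotin w _ (by rwa [Set.pair_comm])
    -- the square of `w`
    have hw2 : π w * π w = (π x ^ 2) ^ α * (π y ^ 2) ^ β * c ^ (α * β) := by
      have hco : ∀ e f : ℤ, π y ^ f * π x ^ e = π x ^ e * π y ^ f * c ^ (e * f) := by
        have hci : c⁻¹ = c := inv_eq_of_mul_eq_one_right hc2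
        have h1 : π y * π x = π x * π y * c := by
          have h0 : c = π x * π y * (π x)⁻¹ * (π y)⁻¹ := by
            rw [← hc, map_commutatorElement, commutatorElement_def]
          calc π y * π x = c⁻¹ * (π x * π y) := by rw [h0]; group
            _ = π x * π y * c := by rw [hci, (hcc _).eq]
        have h2 : ∀ e : ℤ, π y * π x ^ e = π x ^ e * π y * c ^ e := by
          intro e
          have hs : π y * π x * (π y)⁻¹ = π x * c := by
            rw [h1, mul_assoc (π x), ← (hcc (π y)).eq, ← mul_assoc, mul_inv_cancel_right]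
          calc π y * π x ^ e = π y * π x ^ e * (π y)⁻¹ * π y := by group
            _ = (π x * c) ^ e * π y := by rw [← conj_zpow, hs]
            _ = π x ^ e * π y * c ^ e := by
              rw [(hcc (π x)).symm.mul_zpow, mul_assoc, ((hcc (π y)).zpow_left e).eq, ← mul_assoc]
        intro e f
        have hs : π x ^ (-e) * π y * π x ^ e = π y * c ^ e := by
          rw [mul_assoc, h2, ← mul_assoc, ← mul_assoc, ← zpow_add, neg_add_cancel, zpow_zero,
            one_mul]
        calc π y ^ f * π x ^ e = π x ^ e * (π x ^ (-e) * π y * (π x ^ (-e))⁻¹) ^ f := by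
              rw [conj_zpow]; group
          _ = π x ^ e * π y ^ f * c ^ (e * f) := by
              rw [← zpow_neg, neg_neg, hs, (((hcc (π y)).zpow_left e).symm).mul_zpow, ← zpow_mul,
                ← mul_assoc]
      have e1 : π w = π x ^ α * π y ^ β := by simp [w, map_mul, map_zpow]
      rw [e1, ← mul_assoc, mul_assoc (π x ^ α) (π y ^ β), hco, ← mul_assoc, ← mul_assoc,
        ← zpow_add, mul_assoc (π x ^ (α + α) * π y ^ β), ((hcc (π y ^ β)).zpow_left _).eq,
        ← mul_assoc, mul_assoc (π x ^ (α + α)), ← zpow_add, ← two_mul, ← two_mul, zpow_mul, zpow_mul,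
        zpow_two, zpow_two, pow_two, pow_two]
    have hzc : ∀ e : ℤ, (2 ∣ e → c ^ e = 1) ∧ (¬ 2 ∣ e → c ^ e = c) := by
      have h2 : c ^ (2 : ℤ) = 1 := by rw [zpow_two]; exact hc2
      intro e
      refine ⟨?_, fun he => ?_⟩
      · rintro ⟨l, rfl⟩
        rw [zpow_mul, h2, one_zpow]
      · rcases Int.even_or_odd' e with ⟨l, rfl | rfl⟩
        · exact absurd (dvd_mul_right 2 l) he
        · rw [zpow_add, zpow_mul, h2, one_zpow, one_mul, zpow_one]
    rcases Nat.eq_zero_or_pos k with rfl | hk0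
    · rw [pow_zero, one_mul, one_mul] at hij'
      rw [← hij'] at hw2
      by_cases he : 2 ∣ α * β
      · exfalso
        rw [(hzc _).1 he, mul_one] at hw2
        exact hcw (hw2 ▸ mul_mem (mem_zpowers _) (mem_zpowers _))
      · rw [(hzc _).2 he, hc2] at hw2
        rcases hgenw with h | h
        exacts [⟨x, w, h, hw2⟩, ⟨y, w, h, hw2⟩]
    · exfalso
      refine hcw ⟨(2 ^ k : ℤ) * 2, ?_⟩
      show π w ^ ((2 : ℤ) ^ k * 2) = c
      rw [mul_comm, zpow_mul, zpow_two, hw2, ((hcc _).symm.zpow_right _).mul_zpow, ← zpow_mul,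
        (hzc _).1 ((dvd_pow_self (2 : ℤ) hk0.ne').mul_left _), mul_one,
        ((hsqc x (π y ^ 2)).zpow_zpow α β).mul_zpow, ← zpow_mul, ← zpow_mul, mul_comm α, mul_comm β]
      exact hij'.symm
  -- the new generators
  have hcab : π ⁅a, b⁆ = c := by
    rcases hder _ (comm_mem_commutator a b) with h | h
    swap
    · exact h
    exact absurd (hc.symm.trans ((hk _).2 (commutator_le_of_pair hab (lowK X) ((hk _).1 h)
      (comm_mem_commutator x y)))) hc1
  have hnca : c ∉ zpowers (π a) := hnotin a b hab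
  have hbK' : b ^ 2 ∈ lowK X := (hk _).1 (by rw [pow_two, map_mul]; exact hbK)
  have hgen2 : closure ({a * b, b} : Set X) = ⊤ := by
    refine eq_top_iff.2 ?_
    rw [← hab, closure_le]
    rintro t (rfl | rfl)
    · rw [show t = t * b * b⁻¹ by rw [mul_inv_cancel_right]]
      exact mul_mem (subset_closure (by simp)) (inv_mem (subset_closure (by simp)))
    · exact subset_closure (by simp)
  -- the order of `a` modulo the derived subgroup
  let ab := QuotientGroup.mk' (commutator X)
  obtain ⟨r, hr⟩ := IsPGroup.iff_orderOf.1 (hX.to_quotient (commutator X)) (ab a)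
  have hpow : ∀ l : ℤ, a ^ l ∈ commutator X ↔ (2 : ℤ) ^ r ∣ l := by
    intro l
    rw [← QuotientGroup.eq_one_iff, QuotientGroup.mk_zpow,
      show ((a : X ⧸ commutator X)) = ab a from rfl, ← orderOf_dvd_iff_zpow_eq_one, hr]
    push_cast
    exact Iff.rfl
  have hquad : π (a * b) * π (a * b) = π a * π a * c := by
    have h1 : π b * π a = π a * π b * c := by
      have h0 : π a * π b * (π a)⁻¹ * (π b)⁻¹ = c := by
        rw [← hcab, map_commutatorElement, commutatorElement_def]
      calc π b * π a = (π a * π b * (π a)⁻¹ * (π b)⁻¹)⁻¹ * (π a * π b) := by group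
        _ = π a * π b * c := by rw [h0, inv_eq_of_mul_eq_one_right hc2, (hcc _).eq]
    rw [map_mul, ← mul_assoc, mul_assoc (π a) (π b), h1, ← mul_assoc, ← mul_assoc, mul_assoc _ c,
      (hcc (π b)).eq, ← mul_assoc, mul_assoc (π a * π a), hbK, mul_one]
  have hr2 : 2 ≤ r := by
    by_contra hlt
    have h2 : a ^ (2 : ℤ) ∈ commutator X := by
      rw [hpow]
      interval_cases r <;> norm_num
    rw [zpow_two] at h2
    rcases hder _ h2 with h | h <;> rw [map_mul] at h
    · refine hnotin (a * b) b hgen2 ?_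
      rw [← one_mul c, ← h, ← hquad]
      exact mul_mem (mem_zpowers _) (mem_zpowers _)
    · exact hnca (h ▸ mul_mem (mem_zpowers _) (mem_zpowers _))
  have hapow : π a ^ 2 ^ r = 1 := by
    have h1 : a ^ 2 ^ r ∈ commutator X := by
      rw [← zpow_natCast, hpow]; push_cast; exact dvd_rfl
    rcases hder _ h1 with h | h <;> rw [map_pow] at h
    · exact h
    · exact absurd (h ▸ pow_mem (mem_zpowers _) _) hnca
  obtain ⟨r', hr'⟩ : ∃ r', r = r' + 2 := ⟨r - 2, by omega⟩
  refine ⟨⟨a, b, r, hr2, hab, hbK', (hk _).1 (by rw [map_pow]; exact hapow), ?_, ?_, ?_, ?_, ?_⟩⟩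
  · refine (hk _).1 ?_
    rw [map_pow, show 2 ^ r = 2 * 2 ^ (r' + 1) by rw [hr', pow_succ']; , pow_mul, pow_two, hquad,
      (hcc _).symm.mul_pow, ← pow_two, ← pow_mul, ← pow_succ', show r' + 1 + 1 = r by omega, hapow,
      one_mul, pow_succ', pow_mul, pow_two, hc2, one_pow]
  · intro g
    haveI : IsMulCommutative (X ⧸ commutator X) :=
      Normal.quotient_commutative_iff_commutator_le.2 le_rfl
    have hg : ab g ∈ closure ({ab a, ab b} : Set (X ⧸ commutator X)) := by
      rw [← Set.image_pair, ← MonoidHom.map_closure, hab]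
      exact ⟨g, trivial, rfl⟩
    letI : CommGroup (X ⧸ commutator X) :=
      { (inferInstance : Group (X ⧸ commutator X)) with
        mul_comm := fun p q => (IsMulCommutative.is_comm (M := X ⧸ commutator X)).comm p q }
    obtain ⟨i, j, hij⟩ := mem_closure_pair.1 hg
    refine ⟨i, j, QuotientGroup.eq.1 ?_⟩
    show ab (a ^ i * b ^ j) = ab g
    rw [map_mul, map_zpow, map_zpow, hij]
  · intro i j hmem
    have hb2 : b ^ (2 : ℤ) ∈ commutator X := by
      rw [show b ^ (2 : ℤ) = b ^ 2 from zpow_natCast b 2]; exact lowK_le_commutator hbK'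
    rcases Int.even_or_odd' j with ⟨l, rfl | rfl⟩
    · refine ⟨(hpow i).1 ?_, dvd_mul_right 2 l⟩
      rw [zpow_mul] at hmem
      exact (mul_mem_cancel_right (zpow_mem hb2 l)).1 hmem
    · exfalso
      have h1 : a ^ i * b ∈ commutator X := by
        rw [zpow_add, zpow_one, zpow_mul, ← mul_assoc] at hmem
        have hn : (commutator X).Normal := inferInstance
        have h2 := hn.conj_mem _ (zpow_mem hb2 l) (a ^ i)
        rw [show a ^ i * (b ^ (2 : ℤ)) ^ l * b =
          a ^ i * (b ^ (2 : ℤ)) ^ l * (a ^ i)⁻¹ * (a ^ i * b) by group] at hmem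
        exact (mul_mem_cancel_left h2).1 hmem
      refine hnc ?_
      have htop : closure ({a} : Set X) = ⊤ := by
        refine frattini_nongenerating (eq_top_iff.2 ?_)
        rw [← hab, closure_le]
        rintro t (rfl | rfl)
        · exact mem_sup_left (subset_closure rfl)
        · rw [show t = (a ^ i)⁻¹ * (a ^ i * t) by group]
          exact mul_mem (mem_sup_left (inv_mem (zpow_mem (subset_closure (Set.mem_singleton a)) i)))
            (mem_sup_right (commutator_le_frattini hX h1))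
      rw [← zpowers_eq_closure] at htop
      exact ⟨⟨a, fun g => htop.ge (mem_top g)⟩⟩
  · exact fun h => hc1 (hcab.symm.trans ((hk _).2 h))
  · intro i h
    have h1 := (hk _).2 h
    rw [map_mul, map_inv, map_zpow, hcab, inv_mul_eq_one] at h1
    exact hnca (h1 ▸ zpow_mem (mem_zpowers _) i)

/-- The automorphism group is a 2-group. -/
theorem Gens.isPGroup_mulAut (G : Gens X) (hX : IsPGroup 2 X) : IsPGroup 2 (MulAut X) := by
  have hsqc : ∀ u ∈ commutator X, u ∈ frattini X := fun u hu => commutator_le_frattini hX hu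
  have hsq : ∀ (w : X) (l : ℤ), w ^ (2 * l) ∈ frattini X := fun w l => by
    rw [zpow_mul, zpow_two, ← pow_two]; exact zpow_mem (sq_mem_frattini hX w) l
  let q := QuotientGroup.mk' (frattini X)
  have hq : ∀ u, q u = 1 ↔ u ∈ frattini X := fun u => QuotientGroup.eq_one_iff u
  let ab := QuotientGroup.mk' (commutator X)
  haveI : IsMulCommutative (X ⧸ commutator X) :=
    Normal.quotient_commutative_iff_commutator_le.2 le_rfl
  have hcomm : ∀ p r : X ⧸ commutator X, Commute p r :=
    fun p r => (IsMulCommutative.is_comm (M := X ⧸ commutator X)).comm p r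
  have hqq : ∀ p : X ⧸ frattini X, p * p = 1 := fun p => by
    obtain ⟨u, rfl⟩ := QuotientGroup.mk'_surjective _ p
    rw [← map_mul, ← pow_two]; exact (hq _).2 (sq_mem_frattini hX u)
  have hzp : ∀ (p : X ⧸ frattini X) (l : ℤ), (2 ∣ l → p ^ l = 1) ∧ (¬ 2 ∣ l → p ^ l = p) := by
    intro p l
    have h2 : p ^ (2 : ℤ) = 1 := by rw [zpow_two]; exact hqq p
    rcases Int.even_or_odd' l with ⟨m, rfl | rfl⟩
    · exact ⟨fun _ => by rw [zpow_mul, h2, one_zpow], fun h => absurd (dvd_mul_right 2 m) h⟩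
    · exact ⟨fun h => absurd h (by omega),
        fun _ => by rw [zpow_add, zpow_mul, h2, one_zpow, one_mul, zpow_one]⟩
  have hspan : ∀ g, ∃ i j : ℤ, q g = q G.a ^ i * q G.b ^ j ∧
      (g ^ 2 ∈ commutator X → 2 ∣ i) := by
    intro g
    obtain ⟨i, j, h⟩ := G.span g
    refine ⟨i, j, ?_, fun h2 => ?_⟩
    · rw [← map_zpow, ← map_zpow, ← map_mul]
      exact (QuotientGroup.eq.2 (hsqc _ h)).symm
    · have h4 : G.a ^ (2 * i) * G.b ^ (2 * j) ∈ commutator X := by
        refine (QuotientGroup.eq_one_iff _).1 ?_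
        show ab (G.a ^ (2 * i) * G.b ^ (2 * j)) = 1
        have h5 : ab g = ab (G.a ^ i * G.b ^ j) := (QuotientGroup.eq.2 h).symm
        have h6 : ab g * ab g = 1 := by
          rw [← map_mul, ← pow_two]; exact (QuotientGroup.eq_one_iff _).2 h2
        rw [h5, map_mul, map_zpow, map_zpow, ((hcomm (ab G.a) (ab G.b)).zpow_zpow i j).symm.mul_mul_mul_comm (ab G.a ^ i) (ab G.b ^ j),
          ← zpow_add, ← zpow_add, ← two_mul, ← two_mul] at h6
        rw [map_mul, map_zpow, map_zpow, h6]
      obtain ⟨h5, -⟩ := G.indep _ _ h4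
      have := G.two_le
      have h6 : (4 : ℤ) ∣ 2 ^ G.r := by
        rw [show (4 : ℤ) = 2 ^ 2 by norm_num]; exact pow_dvd_pow 2 G.two_le
      have h7 := h6.trans h5
      omega
  have hb : G.b ∉ frattini X := by
    intro hb
    obtain ⟨i, j⟩ := G.indep 0 0 (by simp)
    have htop : closure ({G.a} : Set X) = ⊤ := by
      refine frattini_nongenerating (eq_top_iff.2 ?_)
      rw [← G.gen, closure_le]
      rintro t (rfl | rfl)
      exacts [mem_sup_left (subset_closure rfl), mem_sup_right hb]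
    rw [← zpowers_eq_closure] at htop
    obtain ⟨l, hl⟩ := mem_zpowers_iff.1 (htop.ge (mem_top G.b))
    have := (G.indep (-l) 1 (by rw [zpow_one, zpow_neg, hl, inv_mul_cancel]; exact one_mem _)).2
    omega
  have hqb : q G.b ≠ 1 := fun h => hb ((hq _).1 h)
  intro θ
  have h2 : θ ^ 2 ∈ MetacyclicAut.frattiniKernel X := by
    have hmap : ∀ u v, q u = q v → q (θ u) = q (θ v) := by
      intro u v h
      refine QuotientGroup.eq.2 ?_
      rw [← map_inv, ← map_mul]
      exact characteristic_iff_le_comap.1 frattini_characteristic θ (QuotientGroup.eq.1 h)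
    have hθb : q (θ G.b) = q G.b := by
      obtain ⟨i, j, h, h2⟩ := hspan (θ G.b)
      have hi := h2 (by
        rw [← map_pow]
        exact characteristic_iff_le_comap.1 inferInstance θ (lowK_le_commutator G.sq))
      rw [(hzp _ i).1 hi, one_mul] at h
      by_cases hj : 2 ∣ j
      · exfalso
        rw [(hzp _ j).1 hj] at h
        have h3 := hmap 1 (θ G.b) (by rw [h, map_one])
        apply hb
        have h4 := characteristic_iff_le_comap.1 frattini_characteristic θ.symm
          ((hq _).1 h)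
        rwa [mem_comap, MulEquiv.coe_toMonoidHom, θ.symm_apply_apply] at h4
      · rwa [(hzp _ j).2 hj] at h
    have hgens : ∀ u ∈ ({G.a, G.b} : Set X), q (θ (θ u)) = q u := by
      rintro u (rfl | rfl)
      swap
      · rw [hmap _ _ hθb, hθb]
      obtain ⟨i, j, h, -⟩ := hspan (θ G.a)
      by_cases hi : 2 ∣ i
      · exfalso
        rw [(hzp _ i).1 hi, one_mul] at h
        have h3 : ∀ e : ℤ, q G.b ^ e = q (θ (G.b ^ e)) := fun e => by
          rw [map_zpow, map_zpow, hθb]
        rw [h3] at h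
        have h4 := characteristic_iff_le_comap.1 frattini_characteristic θ.symm
          (QuotientGroup.eq.1 h)
        rw [mem_comap, MulEquiv.coe_toMonoidHom, map_mul, map_inv, θ.symm_apply_apply,
          θ.symm_apply_apply] at h4
        refine hqb ?_
        have htop : closure ({G.b} : Set X) = ⊤ := by
          refine frattini_nongenerating (eq_top_iff.2 ?_)
          rw [← G.gen, closure_le]
          rintro t (rfl | rfl)
          · have h5 := inv_mem (G := X) (mem_sup_right (S := closure ({G.b} : Set X)) h4)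
            rw [mul_inv_rev, inv_inv] at h5
            have h6 := mul_mem (mem_sup_left (T := frattini X)
              (zpow_mem (subset_closure (Set.mem_singleton G.b)) j)) h5
            rwa [mul_inv_cancel_left] at h6
          · exact mem_sup_left (subset_closure rfl)
        rw [← zpowers_eq_closure] at htop
        obtain ⟨l, hl⟩ := mem_zpowers_iff.1 (htop.ge (mem_top G.a))
        obtain ⟨h7, -⟩ := G.indep 1 (-l) (by
          rw [zpow_one, zpow_neg, hl, mul_inv_cancel]; exact one_mem _)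
        exfalso
        have h6 : (4 : ℤ) ∣ 2 ^ G.r := by
          rw [show (4 : ℤ) = 2 ^ 2 by norm_num]; exact pow_dvd_pow 2 G.two_le
        have := h6.trans h7
        omega
      · rw [(hzp _ i).2 hi, ← map_zpow, ← map_mul] at h
        rw [hmap _ _ h, map_mul θ, map_zpow θ, map_mul, map_zpow, hθb, h, map_mul, map_zpow,
          mul_assoc, ← zpow_add, ← two_mul, (hzp _ _).1 (dvd_mul_right 2 j), mul_one]
    intro x
    have hx : x ∈ closure ({G.a, G.b} : Set X) := G.gen.ge (mem_top x)
    rw [pow_two, MulAut.mul_apply, ← hq, map_mul, map_inv, mul_inv_eq_one]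
    induction hx using Subgroup.closure_induction with
    | mem u hu => exact hgens u hu
    | one => rw [map_one θ, map_one θ]
    | mul u v _ _ hu hv => rw [map_mul θ, map_mul θ, map_mul, map_mul, hu, hv]
    | inv u _ hu => rw [map_inv θ, map_inv θ, map_inv, map_inv, hu]
  obtain ⟨k, hk⟩ := MetacyclicAut.isPGroup_frattiniKernel (p := 2) hX ⟨θ ^ 2, h2⟩
  refine ⟨k + 1, ?_⟩
  have := congrArg Subtype.val hk
  rw [pow_succ', pow_mul]
  exact this

end CfsgLib.Bicyclic
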