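import Cfsg.Agent.Bicyclic.ConfigTools

/-!
An automorphism of order three of a proper centric subgroup, inverted by an element of the
normalizer: the derived subgroup of the whole group is cyclic.
-/

set_option autoImplicit false
set_option linter.unusedSectionVars false
set_option linter.style.haveILetI false

open scoped commutatorElement

namespace CfsgLib.Bicyclic

open Subgroup

universe u

/-- The configuration coming from an essential subgroup. -/
structure Cfg (X : Type u) [Group X] [Finite X] where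
  /-- The subgroup. -/
  P : Subgroup X
  /-- The automorphism of order three. -/
  θ : MulAut P
  /-- The element inverting it. -/
  t : X
  htN : t ∈ normalizer (P : Set X)
  htP : t ∉ P
  hproper : P ≠ ⊤
  hC : centralizer (P : Set X) ≤ P
  hN2 : ∀ n ∈ normalizer (P : Set X), n ∈ P ∨ t⁻¹ * n ∈ P
  h3 : ∀ p, θ (θ (θ p)) = p
  hne : θ ≠ 1
  hrel : ∀ p, θ (conjOn P t htN (θ p)) = conjOn P t htN p

variable {X : Type u} [Group X] [Finite X]

namespace Cfg

variable (g : Cfg X)

/-- `θ` is not trivial on the Frattini quotient. -/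
theorem not_triv (hX : IsPGroup 2 X) : ¬ ∀ p : g.P, g.θ p * p⁻¹ ∈ frattini g.P := by
  intro h
  haveI : Fact (Nat.Prime 2) := ⟨Nat.prime_two⟩
  obtain ⟨k, hk⟩ := MetacyclicAut.isPGroup_frattiniKernel (p := 2) (hX.to_subgroup g.P) ⟨g.θ, h⟩
  have h3 : g.θ ^ 3 = 1 := MulEquiv.ext fun p => by
    rw [pow_succ, pow_two, MulAut.mul_apply, MulAut.mul_apply, MulAut.one_apply, g.h3]
  exact g.hne (orderOf_eq_one_iff.1 (Nat.eq_one_of_dvd_coprimes
    (show Nat.Coprime (2 ^ k) 3 from Nat.Coprime.pow_left k (by norm_num))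
    (orderOf_dvd_of_pow_eq_one (congrArg Subtype.val hk)) (orderOf_dvd_of_pow_eq_one h3)))

/-- `t` is not trivial on the Frattini quotient. -/
theorem t_not_triv (hX : IsPGroup 2 X) :
    ¬ ∀ p : g.P, conjOn g.P g.t g.htN p * p⁻¹ ∈ frattini g.P := by
  intro h
  refine g.not_triv hX fun p => ?_
  let π := QuotientGroup.mk' (frattini g.P)
  have hk : ∀ u, π u = 1 ↔ u ∈ frattini g.P := fun u => QuotientGroup.eq_one_iff u
  have hc : ∀ q, π (conjOn g.P g.t g.htN q) = π q := fun q => by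
    rw [← mul_inv_eq_one, ← map_inv, ← map_mul, hk]; exact h q
  have hθ : ∀ q r, π q = π r → π (g.θ q) = π (g.θ r) := by
    intro q r e
    refine QuotientGroup.eq.2 ?_
    rw [← map_inv, ← map_mul]
    exact characteristic_iff_le_comap.1 frattini_characteristic g.θ (QuotientGroup.eq.1 e)
  rw [← hk, map_mul, map_inv, mul_inv_eq_one]
  have h1 : π p = π (g.θ (g.θ p)) := by
    rw [← hθ _ _ (hc (g.θ p)), g.hrel, hc]
  have h2 := hθ _ _ h1
  rwa [g.h3] at h2

/-- An invariant subgroup of the Frattini subgroup on which `θ` acts. -/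
theorem facts (hX : IsPGroup 2 X) (hΦ : Cfsg.IsMetacyclic ↥(frattini X)) {U : Subgroup X}
    (hU : U ≤ g.P) (hUΦ : U ≤ frattini X)
    (hinv : ∀ p : g.P, (p : X) ∈ U → ((g.θ p : g.P) : X) ∈ U)
    (hne : ∃ p : g.P, (p : X) ∈ U ∧ g.θ p ≠ p) :
    (∀ p q : g.P, (p : X) ∈ U → (q : X) ∈ U → p * q = q * p) ∧ frW X ≤ U ∧
      (∀ p : g.P, (p : X) ∈ U → g.θ p = p → p = 1) ∧
      (∀ p ∈ g.P, ∀ w ∈ frW X, Commute p w) ∧ ∃ w ∈ frW X, ¬ Commute g.t w := by
  have hne' : restr g.θ U hU hinv ≠ 1 := by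
    obtain ⟨p, hp, hpne⟩ := hne
    intro h
    apply hpne
    have := congrArg (fun α : MulAut U => ((α ⟨p, hp⟩ : U) : X)) h
    simp only [restr_coe, MulAut.one_apply] at this
    exact Subtype.ext this
  obtain ⟨hab, hW, hfix, w₀, hw₀, hw₀ne⟩ :=
    act_facts hX hΦ hUΦ (restr_pow_three g.h3 U hU hinv) hne'
  have hfix' : ∀ p : g.P, (p : X) ∈ U → g.θ p = p → p = 1 := by
    intro p hp h
    have h1 := hfix ⟨p, hp⟩ (Subtype.ext (by rw [restr_coe]; exact congrArg Subtype.val h))
    exact Subtype.ext (congrArg (fun z : U => (z : X)) h1)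
  have hθW : ∀ p : g.P, (p : X) ∈ frW X → ((g.θ p : g.P) : X) ∈ frW X := by
    intro p hp
    obtain ⟨-, hp2⟩ := (mem_frW hX hΦ).1 hp
    refine subset_closure ⟨hUΦ (hinv p (hW hp)), ?_⟩
    exact congrArg Subtype.val (show g.θ p * g.θ p = 1 by
      rw [← map_mul, show p * p = 1 from Subtype.ext hp2, map_one])
  refine ⟨fun p q hp hq => Subtype.ext (congrArg (fun z : U => (z : X))
    (hab ⟨p, hp⟩ ⟨q, hq⟩) :), hW, hfix', ?_, ?_⟩
  · intro p hp w hw
    let ρ := MulAut.conjNormal (G := X) (H := frW X)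
    have hWP : frW X ≤ g.P := hW.trans hU
    let σ := restr g.θ (frW X) hWP hθW
    have h1 : ρ p = 1 := by
      refine two_subgroup_trivial (card_frW hX hΦ) (T := ρ.range)
        (hX.of_surjective ρ.rangeRestrict ρ.rangeRestrict_surjective)
        (restr_pow_three g.h3 _ hWP hθW) (fun x hx => ?_) ⟨p, rfl⟩
        ⟨((g.θ ⟨p, hp⟩ : g.P) : X), ?_⟩
      · have h2 := hfix' ⟨x, hWP x.2⟩ (hW x.2) (Subtype.ext (by
          have := congrArg Subtype.val hx
          rwa [restr_coe] at this))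
        exact Subtype.ext (congrArg (fun z : g.P => (z : X)) h2)
      · refine MulEquiv.ext fun y => ?_
        obtain ⟨x, rfl⟩ := σ.surjective y
        rw [MulAut.mul_apply, MulAut.mul_apply, MulAut.inv_apply_self]
        refine Subtype.ext ?_
        rw [MulAut.conjNormal_apply, restr_coe, restr_coe, ← Subgroup.coe_inv, ← Subgroup.coe_mul,
          ← Subgroup.coe_mul, ← map_inv, ← map_mul, ← map_mul]
        refine congrArg (fun z : g.P => ((g.θ z : g.P) : X)) (Subtype.ext ?_)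
        rw [MulAut.conjNormal_apply]
        simp
    have h2 := congrArg Subtype.val (DFunLike.congr_fun h1 (⟨w, hw⟩ : frW X))
    rw [MulAut.conjNormal_apply] at h2
    exact mul_inv_eq_iff_eq_mul.1 h2
  · by_contra hcon
    push Not at hcon
    refine hw₀ne ?_
    let q : g.P := ⟨w₀, hU w₀.2⟩
    have hct : ∀ p : g.P, (p : X) ∈ frW X → conjOn g.P g.t g.htN p = p := fun p hp =>
      Subtype.ext (by rw [conjOn_coe, (hcon _ hp).eq, mul_inv_cancel_right])
    have h1 := g.hrel q
    rw [hct _ (hθW q hw₀), hct q hw₀] at h1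
    have h2 := congrArg g.θ h1
    rw [g.h3] at h2
    exact Subtype.ext ((restr_coe _ _ _ _ _).trans (congrArg Subtype.val h2).symm)

/-- When `t` moves the involutions, `P` is normal of index two with `Φ(X) ≤ P`. -/
theorem normal_of_moved (hX : IsPGroup 2 X) (hb : IsBicyclic X)
    (hΦ : Cfsg.IsMetacyclic ↥(frattini X))
    (hPW : ∀ p ∈ g.P, ∀ w ∈ frW X, Commute p w) (hmoved : ∃ w ∈ frW X, ¬ Commute g.t w) {x : X}
    (hx : x ∈ g.P) (hxΦ : x ∉ frattini X) :
    g.P.Normal ∧ (∀ n, n ∈ g.P ∨ g.t⁻¹ * n ∈ g.P) ∧ g.t * g.t ∈ g.P ∧ frattini X ≤ g.P := by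
  obtain ⟨w, hw, hwt⟩ := hmoved
  have htΦ : g.t ∉ frattini X := fun h => hwt (commute_frW hX hΦ h hw)
  have hxt : x⁻¹ * g.t ∉ frattini X := fun h => hwt (by
    have := (hPW x hx w hw).mul_left (commute_frW hX hΦ h hw)
    rwa [mul_inv_cancel_left] at this)
  have hgen := gen_of_classes hX hb hxΦ htΦ hxt
  have hn : g.P.Normal := by
    rw [← normalizer_eq_top_iff, ← top_le_iff, ← hgen, closure_le]
    rintro u (rfl | rfl)
    exacts [Subgroup.le_normalizer hx, g.htN]
  have hcov : ∀ n, n ∈ g.P ∨ g.t⁻¹ * n ∈ g.P := fun n =>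
    g.hN2 n (by rw [normalizer_eq_top_iff.2 hn]; exact mem_top n)
  have htt : g.t * g.t ∈ g.P := by
    rcases hcov (g.t * g.t) with h | h
    · exact h
    · exact absurd (by rwa [inv_mul_cancel_left] at h) g.htP
  refine ⟨hn, hcov, htt, ?_⟩
  rw [frattini_eq_closure_sq hX, closure_le]
  rintro _ ⟨n, rfl⟩
  show n ^ 2 ∈ g.P
  rcases hcov n with h | h
  · exact pow_mem h 2
  · rw [pow_two, show n * n = g.t * g.t * (g.t⁻¹ * (g.t⁻¹ * n) * g.t⁻¹⁻¹) * (g.t⁻¹ * n) by group]
    exact mul_mem (mul_mem htt (hn.conj_mem _ h g.t⁻¹)) h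

/-- `P` is not inside the Frattini subgroup. -/
theorem exists_outside (hX : IsPGroup 2 X) (hb : IsBicyclic X) (hm : ¬ Cfsg.IsMetacyclic X)
    (hΦ : Cfsg.IsMetacyclic ↥(frattini X)) : ∃ x ∈ g.P, x ∉ frattini X := by
  by_contra hcon
  push Not at hcon
  obtain ⟨-, hW, -, hPW, w, hw, hwt⟩ := g.facts hX hΦ le_rfl hcon (fun p _ => (g.θ p).2) (by
    by_contra hall
    push Not at hall
    exact g.hne (MulEquiv.ext fun p => hall p p.2))
  have htΦ : g.t ∉ frattini X := fun h => hwt (commute_frW hX hΦ h hw)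
  -- `P = Φ`
  have hPΦ : g.P = frattini X := by
    by_contra hne
    obtain ⟨n, hnΦ, hnP, hnN⟩ := exists_normalizer_grow hX hcon hne
    rcases g.hN2 n hnN with h | h
    · exact hnP h
    · refine htΦ ?_
      have := mul_mem hnΦ (inv_mem (hcon _ h))
      rwa [mul_inv_rev, inv_inv, mul_inv_cancel_left] at this
  refine hm (isMetacyclic_of_isCyclic ?_)
  have htop : closure ({g.t} : Set X) = ⊤ := by
    refine frattini_nongenerating (eq_top_iff.2 fun n _ => ?_)
    have hn : n ∈ normalizer (g.P : Set X) := by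
      rw [normalizer_eq_top_iff.2 (by rw [hPΦ]; infer_instance)]; exact mem_top n
    rcases g.hN2 n hn with h | h
    · exact mem_sup_right (hcon n h)
    · rw [show n = g.t * (g.t⁻¹ * n) by group]
      exact Subgroup.mul_mem_sup (subset_closure rfl) (hcon _ h)
  rw [← zpowers_eq_closure] at htop
  exact ⟨⟨g.t, fun n => htop.ge (mem_top n)⟩⟩

/-- The classes of `P` modulo the Frattini subgroup. -/
theorem inside_or (hX : IsPGroup 2 X) (hb : IsBicyclic X) {x y : X} (hx : x ∈ g.P)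
    (hxΦ : x ∉ frattini X) (hy : y ∈ g.P) : y ∈ frattini X ∨ x⁻¹ * y ∈ frattini X := by
  by_contra hcon
  push Not at hcon
  refine g.hproper (top_le_iff.1 ?_)
  rw [← gen_of_classes hX hb hxΦ hcon.1 hcon.2, closure_le]
  rintro u (rfl | rfl)
  exacts [hx, hy]

/-- `P ∩ Φ(X)` is not invariant. -/
theorem exists_moved_out (hX : IsPGroup 2 X) (hb : IsBicyclic X) (hm : ¬ Cfsg.IsMetacyclic X)
    (hΦ : Cfsg.IsMetacyclic ↥(frattini X)) :
    ∃ p : g.P, (p : X) ∈ frattini X ∧ ((g.θ p : g.P) : X) ∉ frattini X := by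
  by_contra hcon
  push Not at hcon
  obtain ⟨x, hx, hxΦ⟩ := g.exists_outside hX hb hm hΦ
  let P0 := g.P ⊓ frattini X
  have hinv : ∀ p : g.P, (p : X) ∈ P0 → ((g.θ p : g.P) : X) ∈ P0 :=
    fun p hp => ⟨(g.θ p).2, hcon p hp.2⟩
  have hθx : ((g.θ ⟨x, hx⟩ : g.P) : X) ∉ frattini X := fun h => hxΦ (by
    have := hcon _ (hcon _ h)
    rwa [g.h3] at this)
  have hne0 : ∃ p : g.P, (p : X) ∈ P0 ∧ g.θ p ≠ p := by
    by_contra hall
    push Not at hall
    obtain ⟨u, hu, hxu⟩ : ∃ u : g.P, (u : X) ∈ P0 ∧ g.θ ⟨x, hx⟩ = ⟨x, hx⟩ * u := by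
      refine ⟨⟨x, hx⟩⁻¹ * g.θ ⟨x, hx⟩, ⟨Subtype.coe_prop _, ?_⟩, by rw [mul_inv_cancel_left]⟩
      rcases g.inside_or hX hb hx hxΦ (g.θ ⟨x, hx⟩).2 with h | h
      exacts [absurd h hθx, h]
    have h3 := g.h3 ⟨x, hx⟩
    rw [hxu, map_mul, hxu, hall u hu, map_mul, map_mul, hxu, hall u hu, mul_assoc, mul_assoc,
      mul_eq_left] at h3
    have hu1 : u = 1 := by
      haveI : Fact (Nat.Prime 2) := ⟨Nat.prime_two⟩
      obtain ⟨k, hk⟩ := hX.to_subgroup g.P u
      refine orderOf_eq_one_iff.1 (Nat.eq_one_of_dvd_coprimes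
        (show Nat.Coprime (2 ^ k) 3 from Nat.Coprime.pow_left k (by norm_num))
        (orderOf_dvd_of_pow_eq_one hk) (orderOf_dvd_of_pow_eq_one ?_))
      rw [pow_succ, pow_two, mul_assoc]
      exact h3
    rw [hu1, mul_one] at hxu
    refine g.hne (MulEquiv.ext fun p => ?_)
    rcases g.inside_or hX hb hx hxΦ p.2 with h | h
    · exact hall p ⟨p.2, h⟩
    · rw [MulAut.one_apply, show p = ⟨x, hx⟩ * (⟨x, hx⟩⁻¹ * p) by group, map_mul, hxu,
        hall (⟨x, hx⟩⁻¹ * p) ⟨Subtype.coe_prop _, h⟩]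
  obtain ⟨hab, -, hfix, hPW, hmoved⟩ := g.facts hX hΦ (U := P0) inf_le_left inf_le_right hinv hne0
  obtain ⟨hn, hcov, htt, hΦP⟩ := g.normal_of_moved hX hb hΦ hPW hmoved hx hxΦ
  let L := (frattini ↥(frattini X)).map (frattini X).subtype
  haveI : L.Normal := inferInstance
  have hsqL : ∀ v ∈ frattini X, v * v ∈ L := fun v hv => ⟨⟨v, hv⟩ * ⟨v, hv⟩, by
    rw [← pow_two]; exact sq_mem_frattini (hX.to_subgroup _) _, rfl⟩
  have hθL : ∀ p : g.P, (p : X) ∈ L → ((g.θ p : g.P) : X) ∈ L := by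
    intro p hp
    let α := restr g.θ (frattini X) hΦP (fun q hq => hcon q hq)
    obtain ⟨v, hv, hvp⟩ := hp
    refine ⟨α v, characteristic_iff_le_comap.1 frattini_characteristic α hv, ?_⟩
    show ((α v : ↥(frattini X)) : X) = _
    rw [restr_coe]
    exact congrArg (fun z : g.P => ((g.θ z : g.P) : X)) (Subtype.ext hvp)
  -- `θ` is fixed point free modulo `L`
  have hfixL : ∀ p : g.P, (p : X) ∈ frattini X → ((g.θ p * p⁻¹ : g.P) : X) ∈ L → (p : X) ∈ L := by
    intro p hp hpL
    let π := QuotientGroup.mk' L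
    have hk : ∀ u, π u = 1 ↔ u ∈ L := fun u => QuotientGroup.eq_one_iff u
    have e1 : π (g.θ p : g.P) = π p := by
      rw [← mul_inv_eq_one, ← map_inv, ← map_mul, hk]; exact hpL
    have e2 : π (g.θ (g.θ p) : g.P) = π p := by
      refine Eq.trans ?_ e1
      rw [← mul_inv_eq_one, ← map_inv, ← map_mul, hk, ← Subgroup.coe_inv, ← Subgroup.coe_mul,
        ← map_inv, ← map_mul]
      exact hθL _ hpL
    have hp0 : ∀ r : g.P, (r : X) ∈ frattini X → (r : X) ∈ P0 := fun r hr => ⟨r.2, hr⟩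
    have hfx : g.θ (p * g.θ p * g.θ (g.θ p)) = p * g.θ p * g.θ (g.θ p) := by
      rw [map_mul, map_mul, g.h3, ← hab p (g.θ p * g.θ (g.θ p)) (hp0 p hp)
        (hp0 _ (mul_mem (hcon p hp) (hcon _ (hcon p hp)))), mul_assoc]
    have h1 := hfix _ (hp0 _ (mul_mem (mul_mem hp (hcon p hp)) (hcon _ (hcon p hp)))) hfx
    have h2 := congrArg (fun z : g.P => π (z : X)) h1
    simp only [Subgroup.coe_mul, Subgroup.coe_one, map_mul, map_one, e1, e2] at h2
    refine (hk _).1 ?_
    have h4 : π p * π p = 1 := by rw [← map_mul, hk]; exact hsqL _ hp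
    rwa [h4, one_mul] at h2
  -- `P` is abelian modulo `L`
  have hcommΦ : ∀ p ∈ g.P, ∀ v ∈ frattini X, ⁅p, v⁆ ∈ L := by
    intro p hp v hv
    haveI : (frattini ↥(frattini X)).Characteristic := frattini_characteristic
    have hcard : Nat.card (↥(frattini X) ⧸ frattini ↥(frattini X)) ≤ 4 :=
      MetacyclicAut.card_quotient_frattini_le (p := 2) (hX.to_subgroup _) hΦ
    let ρ : X →* MulAut (↥(frattini X) ⧸ frattini ↥(frattini X)) :=
      MonoidHom.mk' (fun s => QuotientGroup.congr _ _ (MulAut.conjNormal s)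
          (characteristic_iff_map_eq.1 inferInstance _))
        fun s r => MulEquiv.ext fun q => by
          induction q using QuotientGroup.induction_on with
          | H y =>
            show ((MulAut.conjNormal (s * r) y : ↥(frattini X)) : ↥(frattini X) ⧸ frattini ↥(frattini X)) = _
            rw [map_mul]; rfl
    let α := restr g.θ (frattini X) hΦP (fun q hq => hcon q hq)
    let σ : MulAut (↥(frattini X) ⧸ frattini ↥(frattini X)) :=
      QuotientGroup.congr _ _ α (characteristic_iff_map_eq.1 inferInstance α)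
    have hσ : σ ^ 3 = 1 := by
      refine MulEquiv.ext fun q => ?_
      induction q using QuotientGroup.induction_on with
      | H y =>
        show ((α (α (α y)) : ↥(frattini X)) : ↥(frattini X) ⧸ frattini ↥(frattini X)) = _
        have := DFunLike.congr_fun (restr_pow_three g.h3 (frattini X) hΦP fun q hq => hcon q hq) y
        rw [pow_succ, pow_two, MulAut.mul_apply, MulAut.mul_apply, MulAut.one_apply] at this
        rw [this]; rfl
    have h1 : ρ p = 1 := by
      refine two_subgroup_trivial hcard (T := ρ.range)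
        (hX.of_surjective ρ.rangeRestrict ρ.rangeRestrict_surjective) hσ (fun q hq => ?_) ⟨p, rfl⟩
        ⟨((g.θ ⟨p, hp⟩ : g.P) : X), ?_⟩
      · induction q using QuotientGroup.induction_on with
        | H y =>
          have hy1 : ((α y : ↥(frattini X)) : ↥(frattini X) ⧸ frattini ↥(frattini X)) = (y : ↥(frattini X) ⧸ frattini ↥(frattini X)) := hq
          have hy2 : y⁻¹ * α y ∈ frattini ↥(frattini X) := QuotientGroup.eq.1 hy1.symm
          refine (QuotientGroup.eq_one_iff y).2 ?_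
          obtain ⟨w, hw, hwy⟩ := hfixL ⟨y, hΦP y.2⟩ y.2 (by
            have hc : α y * y⁻¹ ∈ frattini ↥(frattini X) := by
              have := (inferInstance : (frattini ↥(frattini X)).Normal).conj_mem _ hy2 y
              rwa [mul_inv_cancel_left] at this
            exact ⟨_, hc, by simp [α, restr_coe]⟩)
          rwa [← show w = y from Subtype.ext hwy]
      · refine MulEquiv.ext fun q => ?_
        obtain ⟨q, rfl⟩ := σ.surjective q
        rw [MulAut.mul_apply, MulAut.mul_apply, MulAut.inv_apply_self]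
        induction q using QuotientGroup.induction_on with
        | H y =>
          refine congrArg (fun z : ↥(frattini X) => (z : ↥(frattini X) ⧸ frattini ↥(frattini X))) (Subtype.ext ?_)
          show ((MulAut.conjNormal ((g.θ ⟨p, hp⟩ : g.P) : X) (α y) : ↥(frattini X)) : X) =
            ((α (MulAut.conjNormal p y) : ↥(frattini X)) : X)
          rw [MulAut.conjNormal_apply, restr_coe, restr_coe, ← Subgroup.coe_inv, ← Subgroup.coe_mul,
            ← Subgroup.coe_mul, ← map_inv, ← map_mul, ← map_mul]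
          refine congrArg (fun z : g.P => ((g.θ z : g.P) : X)) (Subtype.ext ?_)
          rw [MulAut.conjNormal_apply]
          simp
    have h2 := DFunLike.congr_fun h1 ((⟨v, hv⟩ : ↥(frattini X)) : ↥(frattini X) ⧸ frattini ↥(frattini X))
    have h3 : ((MulAut.conjNormal p (⟨v, hv⟩ : ↥(frattini X)) : ↥(frattini X)) : ↥(frattini X) ⧸ frattini ↥(frattini X)) =
      ((⟨v, hv⟩ : ↥(frattini X)) : ↥(frattini X) ⧸ frattini ↥(frattini X)) := h2
    have h4 : (⟨v, hv⟩ : ↥(frattini X))⁻¹ * MulAut.conjNormal p (⟨v, hv⟩ : ↥(frattini X)) ∈ frattini ↥(frattini X) :=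
      QuotientGroup.eq.1 h3.symm
    have h5 := (inferInstance : (frattini ↥(frattini X)).Normal).conj_mem _ h4 ⟨v, hv⟩
    rw [mul_inv_cancel_left] at h5
    refine ⟨_, h5, ?_⟩
    simp [commutatorElement_def]
  have hcomm : ∀ p ∈ g.P, ∀ q ∈ g.P, ⁅p, q⁆ ∈ L := by
    intro p hp q hq
    let π := QuotientGroup.mk' L
    have hk : ∀ u, π u = 1 ↔ u ∈ L := fun u => QuotientGroup.eq_one_iff u
    have hab2 : ∀ r ∈ g.P, ∀ v ∈ frattini X, Commute (π r) (π v) := fun r hr v hv =>
      commutatorElement_eq_one_iff_mul_comm.1 (by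
        rw [← map_commutatorElement]; exact (hk _).2 (hcommΦ r hr v hv))
    have hsplit : ∀ r ∈ g.P, ∃ e : Bool, ∃ v ∈ frattini X, r = (if e then x else 1) * v := by
      intro r hr
      rcases g.inside_or hX hb hx hxΦ hr with h | h
      exacts [⟨false, r, h, by simp⟩, ⟨true, _, h, by simp⟩]
    rw [← hk, map_commutatorElement, commutatorElement_eq_one_iff_mul_comm]
    obtain ⟨e, v, hv, rfl⟩ := hsplit p hp
    obtain ⟨e', v', hv', rfl⟩ := hsplit q hq
    have hc1 : Commute (π (if e then x else 1)) (π (if e' then x else 1)) := by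
      cases e <;> cases e' <;> simp
    have hmem : ∀ d : Bool, (if d then x else 1) ∈ g.P := fun d => by cases d <;> simp [hx]
    rw [map_mul, map_mul]
    exact (hc1.mul_right (hab2 _ (hmem e) v' hv')).mul_left
      ((hab2 _ (hmem e') v hv).symm.mul_right (hab2 v (hΦP hv) v' hv'))
  have hcen : ∀ v ∈ frattini X, g.t * v * g.t⁻¹ * v⁻¹ ∈ L := fun v hv =>
    centralizes_frattini_mod hX hn hcov htt hcomm (fun p hp => by
      have h := commutator_le_frattini hX (comm_mem_commutator g.t p)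
      exact ⟨hΦP h, hsqL _ h⟩) hv
  -- `θ` and its inverse agree modulo `L`
  obtain ⟨p, hp, hpne⟩ := hne0
  apply hpne
  have hfull : ∀ q : g.P, (q : X) ∈ frattini X → (q : X) ∈ L := by
    intro q hq
    refine hfixL q hq ?_
    let π := QuotientGroup.mk' L
    have hk : ∀ u, π u = 1 ↔ u ∈ L := fun u => QuotientGroup.eq_one_iff u
    have hct : ∀ r : g.P, (r : X) ∈ frattini X →
        π (conjOn g.P g.t g.htN r : g.P) = π r := fun r hr => by
      rw [← mul_inv_eq_one, ← map_inv, ← map_mul, hk, conjOn_coe]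
      exact hcen _ hr
    have hθπ : ∀ r s : g.P, π (r : X) = π (s : X) → π (g.θ r : g.P) = π (g.θ s : g.P) := by
      intro r s e
      refine QuotientGroup.eq.2 ?_
      rw [← Subgroup.coe_inv, ← Subgroup.coe_mul, ← map_inv, ← map_mul]
      exact hθL _ (QuotientGroup.eq.1 e)
    have h1 : π (q : X) = π (g.θ (g.θ q) : g.P) := by
      rw [← hθπ _ _ (hct (g.θ q) (hcon q hq)), g.hrel, hct q hq]
    have h2 := hθπ _ _ h1
    rw [g.h3] at h2
    rw [Subgroup.coe_mul, Subgroup.coe_inv, ← hk, map_mul, map_inv, h2, mul_inv_cancel]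
  haveI : Fact (Nat.Prime 2) := ⟨Nat.prime_two⟩
  have hF : frattini ↥(frattini X) = ⊤ := eq_top_iff.2 fun v _ => by
    obtain ⟨w, hw, hwv⟩ := hfull ⟨v, hΦP v.2⟩ v.2
    rwa [← show w = v from Subtype.ext hwv]
  have hbot : (⊥ : Subgroup ↥(frattini X)) = ⊤ :=
    frattini_nongenerating (by rw [bot_sup_eq, hF])
  have hp1 : (⟨p, hp.2⟩ : ↥(frattini X)) = 1 := mem_bot.1 (hbot.ge (mem_top _))
  rw [show p = 1 from Subtype.ext (congrArg (fun z : ↥(frattini X) => (z : X)) hp1), map_one]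

end Cfg

end CfsgLib.Bicyclic
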