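import Cfsg.Agent.Bicyclic.Config

/-!
The case in which the automorphism of order three acts nontrivially on the Frattini subgroup of
the subgroup.
-/

set_option autoImplicit false
set_option linter.unusedSectionVars false
set_option linter.style.haveILetI false

open scoped commutatorElement

namespace CfsgLib.Bicyclic

open Subgroup

universe u

/-- The derived subgroup of a two-generated group modulo `K`. -/
theorem mem_lowK_or_of_pair {Y : Type u} [Group Y] [Finite Y] {a b : Y}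
    (hgen : closure ({a, b} : Set Y) = ⊤) {u : Y} (hu : u ∈ commutator Y) :
    u ∈ lowK Y ∨ ⁅a, b⁆⁻¹ * u ∈ lowK Y := by
  let π := QuotientGroup.mk' (lowK Y)
  have hcc : ∀ q, Commute (π ⁅a, b⁆) q := fun q => by
    obtain ⟨g, rfl⟩ := QuotientGroup.mk'_surjective _ q
    exact commutatorElement_eq_one_iff_mul_comm.1 (by
      rw [← map_commutatorElement]
      exact (QuotientGroup.eq_one_iff _).2 (comm_mem_lowK (comm_mem_commutator _ _) g))
  haveI hn : (zpowers (π ⁅a, b⁆)).Normal := ⟨fun w hw q => by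
    obtain ⟨j, rfl⟩ := mem_zpowers_iff.1 hw
    rw [← (((hcc q).zpow_left j)).eq, mul_inv_cancel_right]
    exact zpow_mem (mem_zpowers _) j⟩
  obtain ⟨j, hj⟩ := mem_zpowers_iff.1 (commutator_le_of_pair hgen
    ((zpowers (π ⁅a, b⁆)).comap π) (mem_zpowers _) hu)
  have h2 : π ⁅a, b⁆ ^ (2 : ℤ) = 1 := by
    rw [zpow_two, ← map_mul, ← pow_two]
    exact (QuotientGroup.eq_one_iff _).2 (sq_mem_lowK (comm_mem_commutator _ _))
  rcases Int.even_or_odd' j with ⟨l, rfl | rfl⟩
  · left
    rw [zpow_mul, h2, one_zpow] at hj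
    exact (QuotientGroup.eq_one_iff _).1 hj.symm
  · right
    rw [zpow_add, zpow_mul, h2, one_zpow, one_mul, zpow_one] at hj
    exact QuotientGroup.eq.1 hj

variable {X : Type u} [Group X] [Finite X]

namespace Cfg

variable (g : Cfg X)

/-- The Frattini subgroup of `P` inside the group. -/
def U : Subgroup X := (frattini ↥g.P).map g.P.subtype

theorem mem_U {p : g.P} : (p : X) ∈ g.U ↔ p ∈ frattini ↥g.P :=
  mem_map_iff_mem Subtype.val_injective

theorem U_le : g.U ≤ g.P := map_subtype_le _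

theorem U_le_frattini (hX : IsPGroup 2 X) : g.U ≤ frattini X := by
  rintro _ ⟨p, hp, rfl⟩
  exact mem_frattini_of_sq hX hp

theorem U_inv (p : g.P) (hp : (p : X) ∈ g.U) : ((g.θ p : g.P) : X) ∈ g.U :=
  g.mem_U.2 (characteristic_iff_le_comap.1 frattini_characteristic g.θ (g.mem_U.1 hp))

/-- The Frattini quotient of `P` has order at most eight. -/
theorem card_quot_le (hX : IsPGroup 2 X) (hb : IsBicyclic X)
    (hΦ : Cfsg.IsMetacyclic ↥(frattini X)) {x : X} (hx : x ∈ g.P) (hxΦ : x ∉ frattini X) :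
    Nat.card (↥g.P ⧸ frattini ↥g.P) ≤ 8 := by
  let π := QuotientGroup.mk' (frattini ↥g.P)
  let P0 := g.P ⊓ frattini X
  obtain ⟨p, hp, q, hq, hpq⟩ := Cfsg.Agent.S4419.two_generated hΦ (P0.subgroupOf (frattini X))
  rw [mem_subgroupOf] at hp hq
  let I := ((frattini X).subgroupOf g.P).map π
  have hel : ∀ y ∈ I, y * y = 1 := by
    rintro _ ⟨r, -, rfl⟩
    rw [← map_mul, ← pow_two]
    exact (QuotientGroup.eq_one_iff _).2 (sq_mem_frattini (hX.to_subgroup _) r)
  have hI : Nat.card I ≤ 4 := by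
    refine card_le_four_of_pair (p := π ⟨p, hp.1⟩) (q := π ⟨q, hq.1⟩)
      ⟨_, mem_subgroupOf.2 p.2, rfl⟩ ⟨_, mem_subgroupOf.2 q.2, rfl⟩ ?_ hel
    rintro _ ⟨r, hr, rfl⟩
    rw [← Set.image_pair, ← MonoidHom.map_closure]
    refine ⟨r, ?_, rfl⟩
    have hrΦ : (r : X) ∈ frattini X := hr
    have h1 := hpq (show (⟨r, hrΦ⟩ : ↥(frattini X)) ∈ P0.subgroupOf _ from ⟨r.2, hrΦ⟩)
    have h2 : (r : X) ∈ (closure ({p, q} : Set ↥(frattini X))).map (frattini X).subtype :=
      ⟨_, h1, rfl⟩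
    rw [MonoidHom.map_closure, Set.image_pair] at h2
    have h3 : (r : X) ∈
        (closure ({⟨(p : X), hp.1⟩, ⟨(q : X), hq.1⟩} : Set g.P)).map g.P.subtype := by
      rw [MonoidHom.map_closure, Set.image_pair]; exact h2
    exact (mem_map_iff_mem Subtype.val_injective).1 h3
  let f : Bool × I → ↥g.P ⧸ frattini ↥g.P := fun s =>
    (if s.1 then π ⟨x, hx⟩ else 1) * s.2
  have hf : Function.Surjective f := by
    intro y
    obtain ⟨r, rfl⟩ := QuotientGroup.mk'_surjective _ y
    rcases g.inside_or hX hb hx hxΦ r.2 with h | h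
    · exact ⟨(false, ⟨π r, r, h, rfl⟩), by simp [f, π]⟩
    · refine ⟨(true, ⟨π (⟨x, hx⟩⁻¹ * r), _, h, rfl⟩), ?_⟩
      show π ⟨x, hx⟩ * π (⟨x, hx⟩⁻¹ * r) = _
      rw [← map_mul, mul_inv_cancel_left]
  have := Nat.card_le_card_of_surjective f hf
  rw [Nat.card_prod, Nat.card_eq_fintype_card (α := Bool), Fintype.card_bool] at this
  omega

/-- Without fixed points the Frattini quotient has order at most four. -/
theorem card_quot_le_four (hX : IsPGroup 2 X) (h8 : Nat.card (↥g.P ⧸ frattini ↥g.P) ≤ 8)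
    (hfree : ∀ p : g.P, g.θ p * p⁻¹ ∈ frattini g.P → p ∈ frattini g.P) :
    Nat.card (↥g.P ⧸ frattini ↥g.P) ≤ 4 := by
  classical
  by_contra hlt
  haveI : Fact (Nat.Prime 2) := ⟨Nat.prime_two⟩
  haveI : Fact (Nat.Prime 3) := ⟨Nat.prime_three⟩
  have hc : Nat.card (↥g.P ⧸ frattini ↥g.P) = 8 := by
    obtain ⟨k, hk⟩ := IsPGroup.iff_card.1 ((hX.to_subgroup g.P).to_quotient (frattini ↥g.P))
    rw [hk] at h8 hlt ⊢
    have : k ≤ 3 := (Nat.pow_le_pow_iff_right (by norm_num : 1 < 2)).1 (h8.trans_eq (by norm_num))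
    interval_cases k <;> simp_all
  let σ : MulAut (↥g.P ⧸ frattini ↥g.P) :=
    QuotientGroup.congr _ _ g.θ (characteristic_iff_map_eq.1 frattini_characteristic g.θ)
  have hσ : ∀ q, σ (σ (σ q)) = q := fun q => by
    induction q using QuotientGroup.induction_on with
    | H p => exact congrArg _ (g.h3 p)
  haveI := Fintype.ofFinite (↥g.P ⧸ frattini ↥g.P)
  let τ : Equiv.Perm {q : ↥g.P ⧸ frattini ↥g.P // q ≠ 1} :=
    σ.toEquiv.subtypeEquiv fun q => by simp
  have h7 : ¬ 3 ∣ Fintype.card {q : ↥g.P ⧸ frattini ↥g.P // q ≠ 1} := by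
    rw [Fintype.card_subtype_compl, Fintype.card_subtype_eq, ← Nat.card_eq_fintype_card, hc]
    norm_num
  obtain ⟨⟨q, hq⟩, hfix⟩ := Equiv.Perm.exists_fixed_point_of_prime (p := 3) (n := 1) h7 (σ := τ) (by
    rw [pow_one, pow_succ, pow_two]
    exact Equiv.ext fun q => Subtype.ext (hσ q.1))
  obtain ⟨p, rfl⟩ := QuotientGroup.mk'_surjective _ q
  apply hq
  refine (QuotientGroup.eq_one_iff p).2 (hfree p ?_)
  have h1 : ((g.θ p : g.P) : ↥g.P ⧸ frattini ↥g.P) = (p : ↥g.P ⧸ frattini ↥g.P) :=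
    congrArg Subtype.val hfix
  rw [← QuotientGroup.eq_one_iff, QuotientGroup.mk_mul, QuotientGroup.mk_inv, h1, mul_inv_cancel]

/-- The case of a nontrivial action on `Φ(P)`. -/
theorem cyclic_of_action (hX : IsPGroup 2 X) (hb : IsBicyclic X)
    (hΦ : Cfsg.IsMetacyclic ↥(frattini X)) {x₀ : g.P} (hx₀ : (x₀ : X) ∈ frattini X)
    (hx₀' : ((g.θ x₀ : g.P) : X) ∉ frattini X)
    (hne : ∃ p : g.P, (p : X) ∈ g.U ∧ g.θ p ≠ p) : IsCyclic ↥(commutator X) := by
  obtain ⟨hab, -, hfix, hPW, hmoved⟩ :=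
    g.facts hX hΦ g.U_le (g.U_le_frattini hX) g.U_inv hne
  obtain ⟨hn, hcov, htt, hΦP⟩ := g.normal_of_moved hX hb hΦ hPW hmoved (g.θ x₀).2 hx₀'
  haveI := hn
  haveI hUn : g.U.Normal := inferInstanceAs ((frattini ↥g.P).map g.P.subtype).Normal
  have hPp := hX.to_subgroup g.P
  let π := QuotientGroup.mk' (frattini ↥g.P)
  have hk : ∀ u, π u = 1 ↔ u ∈ frattini ↥g.P := fun u => QuotientGroup.eq_one_iff u
  have hsq : ∀ q : ↥g.P ⧸ frattini ↥g.P, q * q = 1 := fun q => by
    obtain ⟨p, rfl⟩ := QuotientGroup.mk'_surjective _ q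
    rw [← map_mul, ← pow_two, hk]; exact sq_mem_frattini hPp p
  have hcom : ∀ p q : g.P, Commute (π p) (π q) := fun p q =>
    commutatorElement_eq_one_iff_mul_comm.1 (by
      rw [← map_commutatorElement, hk]
      exact commutator_le_frattini hPp (comm_mem_commutator p q))
  have hθπ : ∀ p q : g.P, π p = π q → π (g.θ p) = π (g.θ q) := by
    intro p q e
    refine QuotientGroup.eq.2 ?_
    rw [← map_inv, ← map_mul]
    exact characteristic_iff_le_comap.1 frattini_characteristic g.θ (QuotientGroup.eq.1 e)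
  let ct := conjOn g.P g.t g.htN
  -- no fixed point inside the Frattini subgroup
  have hin : ∀ d : g.P, (d : X) ∈ frattini X → π (g.θ d) = π d → d ∈ frattini ↥g.P := by
    intro d hd hdθ
    let E : Subgroup ↥g.P :=
      MonoidHom.eqLocus (π.comp g.θ.toMonoidHom) π ⊓ (frattini X).subgroupOf g.P
    let U1 : Subgroup X := E.map g.P.subtype
    have hU1 : ∀ p : g.P, (p : X) ∈ U1 ↔ π (g.θ p) = π p ∧ (p : X) ∈ frattini X := fun p =>
      mem_map_iff_mem Subtype.val_injective
    have hUE : ∀ p : g.P, π (g.θ p) = π p → (p : X) ∈ frattini X →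
        ((g.θ p : g.P) : X) ∈ frattini X := by
      intro p hp hpΦ
      have h1 : p⁻¹ * g.θ p ∈ frattini ↥g.P := QuotientGroup.eq.1 hp.symm
      have h2 := mul_mem hpΦ (mem_frattini_of_sq hX h1)
      rwa [Subgroup.coe_mul, Subgroup.coe_inv, mul_inv_cancel_left] at h2
    obtain ⟨u, hu, hune⟩ := hne
    have hsub : ∀ v : g.P, (v : X) ∈ g.U → (v : X) ∈ U1 := fun v hv => by
      rw [hU1]
      refine ⟨?_, g.U_le_frattini hX hv⟩
      rw [(hk v).2 (g.mem_U.1 hv), hk]
      exact g.mem_U.1 (g.U_inv v hv)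
    obtain ⟨hab1, -, hfix1, -⟩ := g.facts hX hΦ (U := U1) (map_subtype_le _)
      (by rintro _ ⟨p, hp, rfl⟩; exact hp.2) (fun p hp => by
        rw [hU1] at hp ⊢
        exact ⟨hθπ _ _ hp.1, hUE p hp.1 hp.2⟩) ⟨u, hsub u hu, hune⟩
    have hd1 : (d : X) ∈ U1 := (hU1 d).2 ⟨hdθ, hd⟩
    have hdd : π (g.θ (g.θ d)) = π d := (hθπ _ _ hdθ).trans hdθ
    have hθd : ((g.θ d : g.P) : X) ∈ U1 := (hU1 _).2 ⟨hθπ _ _ hdθ, hUE d hdθ hd⟩
    have hθθd : ((g.θ (g.θ d) : g.P) : X) ∈ U1 :=
      (hU1 _).2 ⟨hθπ _ _ (hθπ _ _ hdθ), hUE _ (hθπ _ _ hdθ) (hUE d hdθ hd)⟩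
    have hp1 := hfix1 (d * g.θ d * g.θ (g.θ d)) (mul_mem (mul_mem hd1 hθd) hθθd) (by
      rw [map_mul, map_mul, g.h3, ← hab1 d (g.θ d * g.θ (g.θ d)) hd1 (mul_mem hθd hθθd),
        mul_assoc])
    have h2 := congrArg π hp1
    rw [map_mul, map_mul, map_one, hdθ, hdd, hsq, one_mul] at h2
    exact (hk d).1 h2
  -- `t` centralizes `Φ(X)` modulo `Φ(P)`
  have hcen : ∀ p : g.P, (p : X) ∈ frattini X → π (ct p) = π p := by
    intro p hp
    have h1 := centralizes_frattini_mod (L := g.U) hX hn hcov htt (fun a ha b hb => by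
      have h := commutator_le_frattini hPp (comm_mem_commutator (⟨a, ha⟩ : g.P) ⟨b, hb⟩)
      exact g.mem_U.2 h) (fun a ha => by
      have h := hΦP (commutator_le_frattini hX (comm_mem_commutator g.t a))
      refine ⟨h, ?_⟩
      have h2 := g.mem_U.2 (sq_mem_frattini hPp (⟨_, h⟩ : g.P))
      rw [Subgroup.coe_pow, pow_two] at h2
      exact h2) hp
    rw [← mul_inv_eq_one, ← map_inv, ← map_mul, hk, ← g.mem_U]
    exact h1
  -- no fixed point in the quotient
  have hfree : ∀ p : g.P, g.θ p * p⁻¹ ∈ frattini g.P → p ∈ frattini g.P := by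
    intro f hf
    have hfπ : π (g.θ f) = π f := by
      rw [← mul_inv_eq_one, ← map_inv, ← map_mul, hk]; exact hf
    by_contra hfU
    have hfΦ : (f : X) ∉ frattini X := fun h => hfU (hin f h hfπ)
    have hcf : π (ct f) = π f := by
      have hdΦ : ((ct f * f⁻¹ : g.P) : X) ∈ frattini X := by
        have h := commutator_le_frattini hX (comm_mem_commutator g.t (f : X))
        rw [commutatorElement_def] at h
        exact h
      have hd : π (g.θ (ct f * f⁻¹)) = π (ct f * f⁻¹) := by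
        have h1 : π (g.θ (ct f)) = π (ct f) := by
          have e : π (ct f) = π (ct (g.θ f)) := by
            refine QuotientGroup.eq.2 ?_
            rw [← map_inv, ← map_mul]
            exact characteristic_iff_le_comap.1 frattini_characteristic ct
              (QuotientGroup.eq.1 hfπ.symm)
          rw [hθπ _ _ e, g.hrel]
        rw [map_mul g.θ, map_inv g.θ, map_mul, map_inv, h1, hfπ, map_mul, map_inv]
      rw [← mul_inv_eq_one, ← map_inv, ← map_mul, hk]
      exact hin _ hdΦ hd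
    refine g.t_not_triv hX fun p => ?_
    rw [← hk, map_mul, map_inv, mul_inv_eq_one]
    rcases g.inside_or hX hb f.2 hfΦ p.2 with h | h
    · exact hcen p h
    · rw [show p = f * (f⁻¹ * p) by group, map_mul (conjOn g.P g.t g.htN), map_mul π, map_mul π f]
      show π (ct f) * π (ct (f⁻¹ * p)) = _
      rw [hcf, hcen _ h]
  -- generators of `P`
  have h4 := g.card_quot_le_four hX (g.card_quot_le hX hb hΦ (g.θ x₀).2 hx₀') hfree
  have hx1 : π x₀ ≠ 1 := fun h => hx₀' (g.U_le_frattini hX (g.mem_U.2 (by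
    rw [← hk]
    have := hθπ x₀ 1 (by rw [h, map_one])
    rwa [map_one g.θ, map_one] at this)))
  have hxne : π (g.θ x₀) ≠ π x₀ := fun h => hx1 ((hk _).2 (hfree x₀ (by
    rw [← hk, map_mul, map_inv, h, mul_inv_cancel])))
  have hgen2 : ∀ v w : g.P, π v ≠ 1 → π w ≠ 1 → π w ≠ π v →
      closure ({v, w} : Set g.P) = ⊤ := by
    intro v w hv hw hvw
    refine frattini_nongenerating (eq_top_iff.2 fun p _ => ?_)
    let H := (closure ({v, w} : Set g.P)).map π
    have htop : H = ⊤ := by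
      refine Subgroup.eq_top_of_card_eq _ ?_
      have hs : ({1, π v, π w} : Set (↥g.P ⧸ frattini ↥g.P)) ⊆ H := by
        rintro z (rfl | rfl | rfl)
        exacts [one_mem H, ⟨v, subset_closure (by simp), rfl⟩, ⟨w, subset_closure (by simp), rfl⟩]
      have h := Set.ncard_le_ncard hs (Set.toFinite _)
      have hcard : ({1, π v, π w} : Set (↥g.P ⧸ frattini ↥g.P)).ncard = 3 :=
        Set.ncard_eq_three.2 ⟨1, π v, π w, hv.symm, hw.symm, hvw.symm, rfl⟩
      rw [hcard, ← Nat.card_coe_set_eq] at h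
      change 3 ≤ Nat.card H at h
      obtain ⟨d, hd⟩ := Subgroup.card_subgroup_dvd_card H
      have hpos := Nat.card_pos (α := ↥g.P ⧸ frattini ↥g.P)
      rcases Nat.lt_or_ge d 2 with hlt | hge
      · interval_cases d <;> omega
      · exfalso
        have : Nat.card H * 2 ≤ Nat.card H * d := Nat.mul_le_mul_left _ hge
        omega
    obtain ⟨y, hy, hyp⟩ := htop.ge (mem_top (π p))
    rw [show p = y * (y⁻¹ * p) by group]
    exact Subgroup.mul_mem_sup hy (QuotientGroup.eq.1 hyp)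
  -- `P` is abelian
  have hgenx : closure ({x₀, g.θ x₀} : Set g.P) = ⊤ := by
    refine hgen2 _ _ hx1 (fun h => hx₀' ?_) hxne
    exact g.U_le_frattini hX (g.mem_U.2 ((hk _).1 h))
  have hPab : ∀ p q : g.P, Commute p q := by
    suffices h : commutator ↥g.P ≤ lowK ↥g.P by
      intro p q
      exact commutatorElement_eq_one_iff_mul_comm.1
        (mem_bot.1 (commutator_eq_bot_of_le_lowK hPp h ▸ comm_mem_commutator p q))
    let ρ := QuotientGroup.mk' (lowK ↥g.P)
    have hρ : ∀ u, ρ u = 1 ↔ u ∈ lowK ↥g.P := fun u => QuotientGroup.eq_one_iff u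
    have hθK : ∀ u ∈ lowK ↥g.P, g.θ u ∈ lowK ↥g.P := fun u hu =>
      map_lowK_le g.θ.toMonoidHom ⟨u, hu, rfl⟩
    have hθD : ∀ u ∈ commutator ↥g.P, g.θ u ∈ commutator ↥g.P := fun u hu =>
      characteristic_iff_le_comap.1 inferInstance g.θ hu
    obtain ⟨c, hc⟩ : ∃ c, ⁅x₀, g.θ x₀⁆ = c := ⟨_, rfl⟩
    have hcD : c ∈ commutator ↥g.P := hc ▸ comm_mem_commutator _ _
    have hcU : ∀ u ∈ commutator ↥g.P, (u : X) ∈ g.U := fun u hu =>
      g.mem_U.2 (commutator_le_frattini hPp hu)
    suffices hcK : c ∈ lowK ↥g.P by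
      intro u hu
      rcases mem_lowK_or_of_pair hgenx hu with h | h
      · exact h
      · rw [hc] at h
        have := mul_mem hcK h
        rwa [mul_inv_cancel_left] at this
    by_contra hcK
    have e1 : ρ (g.θ c) = ρ c := by
      rcases mem_lowK_or_of_pair hgenx (hθD c hcD) with h | h
      · exfalso
        apply hcK
        have := hθK _ (hθK _ h)
        rwa [g.h3] at this
      · exact (QuotientGroup.eq.2 (hc ▸ h)).symm
    have e2 : ρ (g.θ (g.θ c)) = ρ c := by
      refine Eq.trans ?_ e1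
      refine QuotientGroup.eq.2 ?_
      rw [← map_inv, ← map_mul]
      exact hθK _ (QuotientGroup.eq.1 e1)
    have hm := hfix (c * g.θ c * g.θ (g.θ c))
      (mul_mem (mul_mem (hcU c hcD) (g.U_inv c (hcU c hcD))) (g.U_inv _ (g.U_inv c (hcU c hcD))))
      (by
        rw [map_mul, map_mul, g.h3, ← hab c (g.θ c * g.θ (g.θ c)) (hcU c hcD)
          (mul_mem (g.U_inv c (hcU c hcD)) (g.U_inv _ (g.U_inv c (hcU c hcD)))), mul_assoc])
    have h2 := congrArg ρ hm
    rw [map_mul, map_mul, map_one, e1, e2, show ρ c * ρ c = 1 by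
      rw [← map_mul, hρ, ← pow_two]; exact sq_mem_lowK hcD, one_mul] at h2
    exact hcK ((hρ _).1 h2)
  -- a generator fixed by `t`
  obtain ⟨p₀, hp₀⟩ : ∃ p : g.P, π (ct p) ≠ π p := by
    by_contra hcon
    push Not at hcon
    exact g.t_not_triv hX fun p => by rw [← hk, map_mul, map_inv, hcon, mul_inv_cancel]
  have hct2 : ∀ p : g.P, ct (ct p) = p := by
    intro p
    refine Subtype.ext ?_
    rw [conjOn_coe, conjOn_coe, show g.t * (g.t * (p : X) * g.t⁻¹) * g.t⁻¹ =
      g.t * g.t * p * (g.t * g.t)⁻¹ by group,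
      show g.t * g.t * (p : X) = p * (g.t * g.t) from
        congrArg Subtype.val (hPab ⟨_, htt⟩ p).eq, mul_inv_cancel_right]
  obtain ⟨v, hvdef⟩ : ∃ v, p₀ * ct p₀ = v := ⟨_, rfl⟩
  have hv : ct v = v := by rw [← hvdef, map_mul, hct2, (hPab _ _).eq]
  have hv1 : π v ≠ 1 := by
    rw [← hvdef, map_mul]
    intro h
    exact hp₀ ((eq_inv_of_mul_eq_one_right h).trans (inv_eq_of_mul_eq_one_right (hsq _)))
  have hv2 : π (g.θ v) ≠ π v := fun h => hv1 ((hk _).2 (hfree v (by
    rw [← hk, map_mul, map_inv, h, mul_inv_cancel])))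
  have hv3 : π (g.θ v) ≠ 1 := fun h => hv1 (by
    have h1 := hθπ _ 1 (by rw [h, map_one])
    have h2 := hθπ _ 1 (by rw [h1, map_one g.θ, map_one])
    rw [g.h3, map_one g.θ, map_one] at h2
    exact h2)
  have hgenv := hgen2 v (g.θ v) hv1 hv3 hv2
  obtain ⟨w, hw⟩ : ∃ w : g.P, g.θ v = w := ⟨_, rfl⟩
  rw [hw] at hgenv
  -- the derived subgroup
  have hgenX : closure ({g.t, (v : X), (w : X)} : Set X) = ⊤ := by
    refine eq_top_iff.2 fun n _ => ?_
    have hPle : g.P ≤ closure ({g.t, (v : X), (w : X)} : Set X) := by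
      intro p hp
      have h1 : ((⟨p, hp⟩ : g.P) : X) ∈ (closure ({v, w} : Set g.P)).map g.P.subtype :=
        ⟨⟨p, hp⟩, hgenv.ge (mem_top _), rfl⟩
      rw [MonoidHom.map_closure, Set.image_pair] at h1
      exact closure_mono (fun y hy => Set.mem_insert_of_mem _ hy) h1
    rcases hcov n with h | h
    · exact hPle h
    · rw [show n = g.t * (g.t⁻¹ * n) by group]
      exact mul_mem (subset_closure (by simp)) (hPle h)
  obtain ⟨d, hd⟩ : ∃ d : g.P, ct w * w⁻¹ = d := ⟨_, rfl⟩
  have hdt : g.t * (d : X) * g.t⁻¹ = (d : X)⁻¹ := by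
    have : ct d = d⁻¹ := by rw [← hd, map_mul, map_inv, hct2, mul_inv_rev, inv_inv]
    exact congrArg Subtype.val this
  haveI hdn : (zpowers (d : X)).Normal := by
    rw [zpowers_eq_closure]
    refine normal_of_gens hgenX ?_
    intro s hs y hy
    rw [Set.mem_singleton_iff] at hy
    subst hy
    simp only [Set.mem_insert_iff, Set.mem_singleton_iff] at hs
    rcases hs with rfl | rfl | rfl
    · rw [hdt]; exact inv_mem (subset_closure rfl)
    · rw [show (v : X) * d = d * v from congrArg Subtype.val (hPab v d).eq, mul_inv_cancel_right]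
      exact subset_closure rfl
    · rw [show (w : X) * d = d * w from congrArg Subtype.val (hPab w d).eq, mul_inv_cancel_right]
      exact subset_closure rfl
  have hle : commutator X ≤ zpowers (d : X) := by
    refine commutator_le_of_gens hgenX _ ?_
    have h1 : ⁅g.t, (v : X)⁆ = 1 := by
      rw [commutatorElement_def, show g.t * (v : X) * g.t⁻¹ = v from congrArg Subtype.val hv,
        mul_inv_cancel]
    have h2 : ⁅g.t, (w : X)⁆ ∈ zpowers (d : X) := by
      rw [commutatorElement_def, ← hd]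
      exact mem_zpowers _
    have h3 : ⁅(v : X), (w : X)⁆ = 1 :=
      commutatorElement_eq_one_iff_mul_comm.2 (congrArg Subtype.val (hPab v w).eq)
    intro a ha b hb
    simp only [Set.mem_insert_iff, Set.mem_singleton_iff] at ha hb
    rcases ha with rfl | rfl | rfl <;> rcases hb with rfl | rfl | rfl
    all_goals first
      | (rw [commutatorElement_self]; exact one_mem _)
      | (rw [h1]; exact one_mem _)
      | (rw [h3]; exact one_mem _)
      | exact h2
      | (rw [← commutatorElement_inv, h1, inv_one]; exact one_mem _)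
      | (rw [← commutatorElement_inv, h3, inv_one]; exact one_mem _)
      | (rw [← commutatorElement_inv]; exact inv_mem h2)
  exact isCyclic_of_injective (inclusion hle) (inclusion_injective hle)

end Cfg

end CfsgLib.Bicyclic
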