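import Cfsg.Agent.Bicyclic.ConfigAction

/-!
The case in which the automorphism of order three centralizes the Frattini subgroup of the
subgroup: a quotient satisfies the hypotheses of the counting lemma.
-/

set_option autoImplicit false
set_option linter.unusedSectionVars false
set_option linter.style.haveILetI false

open scoped commutatorElement

namespace CfsgLib.Bicyclic

open Subgroup

universe u

variable {X : Type u} [Group X] [Finite X]

namespace Cfg

variable (g : Cfg X)

/-- The displacement `y⁻¹ θ(y)`. -/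
def disp (y : g.P) : g.P := y⁻¹ * g.θ y

theorem disp_theta (y : g.P) : g.disp (g.θ y) = g.θ (g.disp y) := by
  simp [disp, map_mul, map_inv]

theorem disp_cycle (y : g.P) :
    g.disp y * g.θ (g.disp y) * g.θ (g.θ (g.disp y)) = 1 := by
  simp only [disp, map_mul, map_inv, g.h3]
  group

/-- The conjugate by `t` of a displacement. -/
theorem conj_disp (y : g.P) :
    conjOn g.P g.t g.htN (g.disp y) =
      g.disp (conjOn g.P g.t g.htN y) * g.disp (g.θ (conjOn g.P g.t g.htN y)) := by
  have h1 : conjOn g.P g.t g.htN (g.θ y) = g.θ (g.θ (conjOn g.P g.t g.htN y)) := by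
    rw [← g.hrel y, g.h3]
  simp only [disp, map_mul, map_inv, h1]
  group

/-- The subgroup generated by two displacements, and the central involution. -/
structure Quad where
  /-- The first displacement. -/
  b : g.P
  /-- Its square. -/
  z : g.P
  sq : b * b = z
  z2 : z * z = 1
  swap : g.θ b * b = z * (b * g.θ b)
  zc : ∀ y, Commute z (g.disp y)
  classes : ∀ y, ∃ e r : g.P, (e = 1 ∨ e = z) ∧
    (r = 1 ∨ r = b ∨ r = g.θ b ∨ r = b * g.θ b) ∧ g.disp y = e * r

theorem eq_one_of_pow_odd (hX : IsPGroup 2 X) {u : g.P} {m : ℕ} (hm : Odd m) (h : u ^ m = 1) :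
    u = 1 := by
  obtain ⟨k, hk⟩ := hX.to_subgroup g.P u
  exact orderOf_eq_one_iff.1 (Nat.eq_one_of_dvd_coprimes
    (Nat.Coprime.pow_left k (Nat.coprime_two_left.2 hm))
    (orderOf_dvd_of_pow_eq_one hk) (orderOf_dvd_of_pow_eq_one h))

theorem exists_quad (hX : IsPGroup 2 X) (hb : IsBicyclic X)
    (hΦ : Cfsg.IsMetacyclic ↥(frattini X)) (hfix : ∀ p : g.P, p ∈ frattini ↥g.P → g.θ p = p)
    {x : g.P} (hx : ((g.disp x : g.P) : X) ∉ frattini X) :
    ∃ Q : g.Quad, Q.b = g.disp x ∧ Q.z ∈ frattini ↥g.P ∧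
      (Q.b ∉ frattini ↥g.P) ∧ (g.θ Q.b ∉ frattini ↥g.P) ∧ (Q.b * g.θ Q.b ∉ frattini ↥g.P) := by
  have hPp := hX.to_subgroup g.P
  let π := QuotientGroup.mk' (frattini ↥g.P)
  have hk : ∀ u, π u = 1 ↔ u ∈ frattini ↥g.P := fun u => QuotientGroup.eq_one_iff u
  have hsq : ∀ q : ↥g.P ⧸ frattini ↥g.P, q * q = 1 := fun q => by
    obtain ⟨p, rfl⟩ := QuotientGroup.mk'_surjective _ q
    rw [← map_mul, ← pow_two, hk]; exact sq_mem_frattini hPp p
  have hcom : ∀ p q : g.P, Commute (π p) (π q) := fun p q =>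
    commutatorElement_eq_one_iff_mul_comm.1 (by
      rw [← map_commutatorElement, hk]
      exact commutator_le_frattini hPp (comm_mem_commutator p q))
  have hinv : ∀ q : ↥g.P ⧸ frattini ↥g.P, q⁻¹ = q := fun q => inv_eq_of_mul_eq_one_right (hsq q)
  -- displacements centralize the Frattini subgroup
  have hcU : ∀ y, ∀ u ∈ frattini ↥g.P, Commute (g.disp y) u := by
    intro y u hu
    have h1 := hfix _ ((inferInstance : (frattini ↥g.P).Normal).conj_mem u hu y)
    rw [map_mul, map_mul, map_inv, hfix u hu] at h1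
    show y⁻¹ * g.θ y * u = u * (y⁻¹ * g.θ y)
    calc y⁻¹ * g.θ y * u = y⁻¹ * (g.θ y * u * (g.θ y)⁻¹) * g.θ y := by group
      _ = u * (y⁻¹ * g.θ y) := by rw [h1]; group
  obtain ⟨b, hbdef⟩ : ∃ b, g.disp x = b := ⟨_, rfl⟩
  rw [hbdef] at hx
  obtain ⟨B, hBdef⟩ : ∃ B, g.θ b = B := ⟨_, rfl⟩
  obtain ⟨C, hCdef⟩ : ∃ C, g.θ B = C := ⟨_, rfl⟩
  have hbBC : b * B * C = 1 := by rw [← hCdef, ← hBdef, ← hbdef]; exact g.disp_cycle x
  have hBd : g.disp (g.θ x) = B := by rw [disp_theta, hbdef, hBdef]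
  obtain ⟨z, hzdef⟩ : ∃ z, b * b = z := ⟨_, rfl⟩
  have hzF : z ∈ frattini ↥g.P := by rw [← hzdef, ← pow_two]; exact sq_mem_frattini hPp b
  have hzc : ∀ y, Commute z (g.disp y) := fun y => (hcU y z hzF).symm
  have hB2 : B * B = z := by rw [← hBdef, ← map_mul, hzdef, hfix z hzF]
  have hC2 : C * C = z := by rw [← hCdef, ← map_mul, hB2, hfix z hzF]
  obtain ⟨d, hddef⟩ : ∃ d, B * b * B⁻¹ * b⁻¹ = d := ⟨_, rfl⟩
  have hdF : d ∈ frattini ↥g.P := by
    rw [← hddef, ← commutatorElement_def]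
    exact commutator_le_frattini hPp (comm_mem_commutator B b)
  have hdb : Commute d b := by rw [← hbdef]; exact (hcU x d hdF).symm
  have hdz : Commute d z := hzdef ▸ hdb.mul_right hdb
  have hBz : Commute z B := hBd ▸ hzc (g.θ x)
  have hBb : B * b = d * (b * B) := by rw [← hddef]; group
  have hd2 : d * d = 1 := by
    have h1 : B * (b * b) * B⁻¹ = d * b * (d * b) := by rw [← hddef]; group
    rw [hzdef, ← hBz.eq, mul_inv_cancel_right, hdb.symm.mul_mul_mul_comm, hzdef] at h1
    exact right_eq_mul.1 h1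
  have hC' : C = (b * B)⁻¹ := eq_inv_of_mul_eq_one_right hbBC
  have hdz3 : d * (z * z) = z⁻¹ := by
    have h1 : (b * B) * (b * B) = z⁻¹ := by rw [← hC2, hC']; group
    rw [← h1]
    calc d * (z * z) = d * (b * b) * (B * B) := by rw [hzdef, hB2, mul_assoc]
      _ = b * (d * (b * B)) * B := by rw [← mul_assoc b d, ← hdb.eq]; group
      _ = b * B * (b * B) := by rw [← hBb]; group
  have hz6 : z * z * z * (z * z * z) = 1 := by
    have h1 : d = z⁻¹ * (z * z)⁻¹ := eq_mul_inv_of_mul_eq hdz3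
    rw [h1] at hd2
    calc z * z * z * (z * z * z) = (z⁻¹ * (z * z)⁻¹ * (z⁻¹ * (z * z)⁻¹))⁻¹ := by simp [mul_assoc]
      _ = 1 := by rw [hd2, inv_one]
  have hz2 : z * z = 1 := by
    refine g.eq_one_of_pow_odd hX (m := 3) (by decide) ?_
    rw [← hz6]; simp [pow_succ, mul_assoc]
  have hdz' : d = z := by
    rw [hz2, mul_one] at hdz3
    rw [hdz3]; exact inv_eq_of_mul_eq_one_right hz2
  -- the classes
  have hbπ : π b ≠ 1 := fun h => hx (mem_frattini_of_sq hX ((hk _).1 h))
  have hBπ : π B ≠ 1 := fun h => by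
    have h1 := (hk B).1 h
    have h2 := hfix B h1
    rw [hCdef] at h2
    apply hbπ
    have := congrArg π hbBC
    rw [map_mul, map_mul, map_one, h2, h, mul_one, mul_one] at this
    exact this
  have hbBne : π b ≠ π B := fun h => by
    have h1 : π C = π B := by
      refine QuotientGroup.eq.2 ?_
      rw [← hCdef]
      nth_rewrite 2 [← hBdef]
      rw [← map_inv, ← map_mul]
      exact characteristic_iff_le_comap.1 frattini_characteristic g.θ (QuotientGroup.eq.1 h.symm)
    apply hbπ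
    have := congrArg π hbBC
    rw [map_mul, map_mul, map_one, h1, h, hsq, one_mul] at this
    rw [h, this]
  have hbB : π (b * B) ≠ 1 := fun h => hbBne (by
    rw [map_mul] at h
    exact (eq_inv_of_mul_eq_one_left h).trans (hinv _))
  let δ : ↥g.P →* ↥g.P ⧸ frattini ↥g.P := MonoidHom.mk' (fun y => π (g.disp y)) fun p q => by
    simp only [disp, map_mul, map_inv, mul_inv_rev, hinv]
    rw [(hcom q p).eq, (hcom q (g.θ p)).mul_mul_mul_comm]
  have hrange : ∀ y, π (g.disp y) ∈ ({1, π b, π B, π (b * B)} : Set (↥g.P ⧸ frattini ↥g.P)) := by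
    intro y
    have hs : ({1, π b, π B, π (b * B)} : Set (↥g.P ⧸ frattini ↥g.P)) ⊆ δ.range := by
      rintro q (rfl | rfl | rfl | rfl)
      · exact one_mem δ.range
      · exact ⟨x, by show π (g.disp x) = π b; rw [hbdef]⟩
      · exact ⟨g.θ x, by show π (g.disp (g.θ x)) = π B; rw [hBd]⟩
      · rw [map_mul]
        exact mul_mem (S := Subgroup (↥g.P ⧸ frattini ↥g.P)) (s := δ.range)
          ⟨x, by show π (g.disp x) = π b; rw [hbdef]⟩
          ⟨g.θ x, by show π (g.disp (g.θ x)) = π B; rw [hBd]⟩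
    have h4 : ({1, π b, π B, π (b * B)} : Set (↥g.P ⧸ frattini ↥g.P)).ncard = 4 := by
      rw [Set.ncard_eq_four]
      refine ⟨1, π b, π B, π (b * B), hbπ.symm, hBπ.symm, hbB.symm, hbBne, ?_, ?_, rfl⟩
      · rw [map_mul]; exact fun h => hBπ (mul_eq_left.1 h.symm)
      · rw [map_mul]; exact fun h => hbπ (mul_eq_right.1 h.symm)
    have h8 := g.card_quot_le hX hb hΦ b.2 hx
    have hle : Nat.card δ.range ≤ 4 := by
      by_cases h4' : Nat.card (↥g.P ⧸ frattini ↥g.P) ≤ 4
      · exact (Subgroup.card_le_card_group _).trans h4'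
      obtain ⟨p, hp, hpF⟩ : ∃ p : g.P, g.θ p * p⁻¹ ∈ frattini ↥g.P ∧ p ∉ frattini ↥g.P := by
        by_contra hcon
        push Not at hcon
        exact h4' (g.card_quot_le_four hX h8 hcon)
      have hker : frattini ↥g.P < δ.ker := by
        refine SetLike.lt_iff_le_and_exists.2 ⟨fun u hu => ?_, p, ?_, hpF⟩
        · show π (g.disp u) = 1
          rw [disp, hfix u hu, inv_mul_cancel, map_one]
        · show π (g.disp p) = 1
          rw [disp, map_mul, map_inv, ← map_inv, hcom, map_inv, ← map_inv, ← map_mul, hk]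
          exact hp
      have hlt := Subgroup.index_strictAnti hker
      rw [Subgroup.index_ker, Subgroup.index_eq_card] at hlt
      obtain ⟨j, hj⟩ := Subgroup.card_subgroup_dvd_card δ.range
      have h8' := Nat.card_pos (α := δ.range)
      rcases Nat.lt_or_ge j 2 with hj2 | hj2
      · interval_cases j <;> omega
      · have : Nat.card δ.range * 2 ≤ Nat.card δ.range * j := Nat.mul_le_mul_left _ hj2
        omega
    rw [Set.eq_of_subset_of_ncard_le hs (by
      rw [h4, ← Nat.card_coe_set_eq]; exact hle) (Set.toFinite _)]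
    exact ⟨y, rfl⟩
  have hclasses : ∀ y, ∃ e r : g.P, (e = 1 ∨ e = z) ∧
      (r = 1 ∨ r = b ∨ r = B ∨ r = b * B) ∧ g.disp y = e * r := by
    intro y
    obtain ⟨r, hr, hπr⟩ : ∃ r : g.P, (r = 1 ∨ r = b ∨ r = B ∨ r = b * B) ∧
        π (g.disp y) = π r := by
      rcases hrange y with h | h | h | h
      exacts [⟨1, Or.inl rfl, h.trans (map_one π).symm⟩, ⟨b, by simp, h⟩, ⟨B, by simp, h⟩,
        ⟨b * B, by simp, h⟩]
    have hrc : ∀ u ∈ frattini ↥g.P, Commute u r := by
      intro u hu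
      have e1 : Commute u b := hbdef ▸ (hcU x u hu).symm
      have e2 : Commute u B := hBd ▸ (hcU (g.θ x) u hu).symm
      rcases hr with h | h | h | h <;> rw [h]
      exacts [Commute.one_right u, e1, e2, e1.mul_right e2]
    obtain ⟨u, hu, hyu⟩ : ∃ u ∈ frattini ↥g.P, g.disp y = u * r := by
      refine ⟨g.disp y * r⁻¹, ?_, by rw [inv_mul_cancel_right]⟩
      rw [← hk, map_mul, map_inv, hπr, mul_inv_cancel]
    have hrθc : Commute u (g.θ r) ∧ Commute u (g.θ (g.θ r)) := by
      constructor <;> rw [← hfix u hu]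
      · exact (hrc u hu).map g.θ
      · rw [← hfix u hu]; exact ((hrc u hu).map g.θ).map g.θ
    obtain ⟨w, hw, hrot⟩ : ∃ w, (w = 1 ∨ w = z) ∧ r * g.θ r * g.θ (g.θ r) = w := by
      rcases hr with h | h | h | h <;> rw [h]
      · exact ⟨1, Or.inl rfl, by simp⟩
      · exact ⟨1, Or.inl rfl, by rw [hBdef, hCdef]; exact hbBC⟩
      · refine ⟨1, Or.inl rfl, ?_⟩
        have hCb : g.θ C = b := by rw [← hCdef, ← hBdef, g.h3]
        rw [hCdef, hCb]
        calc B * C * b = b⁻¹ * (b * B * C) * b := by group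
          _ = 1 := by rw [hbBC]; group
      · refine ⟨z, Or.inr rfl, ?_⟩
        have hCb : g.θ C = b := by rw [← hCdef, ← hBdef, g.h3]
        have hBC : B * C = b⁻¹ := eq_inv_of_mul_eq_one_right (by rw [← mul_assoc]; exact hbBC)
        rw [map_mul, hBdef, hCdef, hBC, map_inv, hBdef]
        calc b * B * b⁻¹ * B⁻¹ = (B * b * B⁻¹ * b⁻¹)⁻¹ := by group
          _ = z := by rw [hddef, hdz', inv_eq_of_mul_eq_one_right hz2]
    have h1 := g.disp_cycle y
    rw [hyu, map_mul, map_mul, hfix u hu, hfix u hu] at h1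
    have h2 : u * u * u * w = 1 := by
      rw [← hrot, ← h1]
      rw [(hrc u hu).symm.mul_mul_mul_comm,
        ((hrc u hu).symm.mul_left hrθc.1.symm).mul_mul_mul_comm]
    have hu6 : u * u = 1 := by
      refine g.eq_one_of_pow_odd hX (m := 3) (by decide) ?_
      have hu3 : u * u * u = w⁻¹ := eq_inv_of_mul_eq_one_left h2
      calc (u * u) ^ 3 = (u * u * u) * (u * u * u) := by simp [pow_succ, mul_assoc]
        _ = 1 := by
          rw [hu3]
          rcases hw with rfl | rfl
          · simp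
          · rw [← mul_inv_rev, hz2, inv_one]
    refine ⟨u, r, ?_, hr, hyu⟩
    rw [hu6, one_mul] at h2
    rw [eq_inv_of_mul_eq_one_left h2]
    rcases hw with rfl | rfl
    exacts [Or.inl inv_one, Or.inr (inv_eq_of_mul_eq_one_right hz2)]
  refine ⟨⟨b, z, hzdef, hz2, ?_, hzc, ?_⟩, hbdef.symm, hzF, ?_, ?_, ?_⟩
  · rw [hBdef, hBb, hdz']
  · intro y
    rw [hBdef]
    exact hclasses y
  · exact fun h => hbπ ((hk _).2 h)
  · exact fun h => hBπ ((hk _).2 (hBdef ▸ h))
  · exact fun h => hbB ((hk _).2 (hBdef ▸ h))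

/-- The case of a trivial action on `Φ(P)`. -/
theorem cyclic_of_fixed (hX : IsPGroup 2 X) (hb : IsBicyclic X) (hm : ¬ Cfsg.IsMetacyclic X)
    (hΦ : Cfsg.IsMetacyclic ↥(frattini X)) (hfix : ∀ p : g.P, p ∈ frattini ↥g.P → g.θ p = p)
    {x : g.P} (hx : ((g.disp x : g.P) : X) ∉ frattini X)
    (hmov : (g.disp x)⁻¹ * conjOn g.P g.t g.htN (g.disp x) ∉ frattini ↥g.P) :
    IsCyclic ↥(commutator X) := by
  obtain ⟨Q, hQb, hzF, hbF, hBF, hbBF⟩ := g.exists_quad hX hb hΦ hfix hx
  obtain ⟨b, z, hsq, hz2, hswap, hzc, hclasses⟩ := Q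
  dsimp only at hQb hzF hbF hBF hbBF
  have hbdef : g.disp x = b := hQb.symm
  rw [hbdef] at hx hmov
  have hPn : (frattini ↥g.P).Normal := inferInstance
  have hzb : Commute z b := hbdef ▸ hzc x
  have hzB : Commute z (g.θ b) := by rw [← hbdef, ← disp_theta]; exact hzc (g.θ x)
  have hzbB : ∀ e : g.P, (e = 1 ∨ e = z) → Commute e b ∧ Commute e (g.θ b) := by
    rintro e (rfl | rfl)
    exacts [⟨Commute.one_left _, Commute.one_left _⟩, ⟨hzb, hzB⟩]
  have hB2 : g.θ b * g.θ b = z := by rw [← map_mul, hsq, hfix z hzF]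
  -- the subgroup generated by the two displacements
  let R : Subgroup g.P := closure {b, g.θ b}
  have hR : ∀ r ∈ R, ∃ e s : g.P, (e = 1 ∨ e = z) ∧
      (s = 1 ∨ s = b ∨ s = g.θ b ∨ s = b * g.θ b) ∧ r = e * s := by
    have hstep : ∀ r : g.P, (∃ e s : g.P, (e = 1 ∨ e = z) ∧
        (s = 1 ∨ s = b ∨ s = g.θ b ∨ s = b * g.θ b) ∧ r = e * s) → ∀ v : g.P, v = b ∨ v = g.θ b →
          ∃ e s : g.P, (e = 1 ∨ e = z) ∧
            (s = 1 ∨ s = b ∨ s = g.θ b ∨ s = b * g.θ b) ∧ v * r = e * s := by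
      rintro r ⟨e, s, he, hs, rfl⟩ v hv
      obtain ⟨heb, heB⟩ := hzbB e he
      have hve : v * (e * s) = e * (v * s) := by
        rcases hv with rfl | rfl
        · rw [← mul_assoc, ← heb.eq, mul_assoc]
        · rw [← mul_assoc, ← heB.eq, mul_assoc]
      have hez : e * z = 1 ∨ e * z = z := by
        rcases he with rfl | rfl
        exacts [Or.inr (one_mul z), Or.inl hz2]
      rw [hve]
      rcases hv with h | h <;> rcases hs with h' | h' | h' | h' <;> rw [h, h']
      · exact ⟨e, b, he, by simp, by rw [mul_one]⟩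
      · exact ⟨e * z, 1, hez, by simp, by rw [hsq, mul_one]⟩
      · exact ⟨e, b * g.θ b, he, by simp, rfl⟩
      · exact ⟨e * z, g.θ b, hez, by simp, by rw [← mul_assoc b, hsq, mul_assoc]⟩
      · exact ⟨e, g.θ b, he, by simp, by rw [mul_one]⟩
      · exact ⟨e * z, b * g.θ b, hez, by simp, by rw [hswap, mul_assoc]⟩
      · exact ⟨e * z, 1, hez, by simp, by rw [hB2, mul_one]⟩
      · refine ⟨e, b, he, by simp, ?_⟩
        rw [← mul_assoc (g.θ b), hswap, mul_assoc z, mul_assoc b, hB2, ← hzb.eq, ← mul_assoc z, hz2,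
          one_mul]
    intro r hr
    induction hr using Subgroup.closure_induction_left with
    | one => exact ⟨1, 1, Or.inl rfl, Or.inl rfl, by simp⟩
    | mul_left v hv y _ ih => exact hstep y ih v hv
    | inv_mul_cancel v hv y _ ih =>
      have hvz : v * v = z := by rcases hv with rfl | rfl; exacts [hsq, hB2]
      have hvi : v⁻¹ = z * v := by
        refine inv_eq_of_mul_eq_one_left ?_
        rw [mul_assoc, hvz, hz2]
      obtain ⟨e, s, he, hs, hys⟩ := hstep y ih v hv
      refine ⟨z * e, s, ?_, hs, by rw [hvi, mul_assoc z v y, hys, mul_assoc]⟩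
      rcases he with rfl | rfl
      exacts [Or.inr (mul_one z), Or.inl hz2]
  have hzR : z ∈ R := hsq ▸ mul_mem (subset_closure (by simp)) (subset_closure (by simp))
  have hDR : ∀ y, g.disp y ∈ R := by
    intro y
    obtain ⟨e, s, he, hs, hy⟩ := hclasses y
    rw [hy]
    refine mul_mem ?_ ?_
    · rcases he with rfl | rfl
      exacts [one_mem R, hzR]
    · rcases hs with rfl | rfl | rfl | rfl
      exacts [one_mem R, subset_closure (by simp), subset_closure (by simp),
        mul_mem (subset_closure (by simp)) (subset_closure (by simp))]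
  have hRF : ∀ r ∈ R, r ∈ frattini ↥g.P → r = 1 ∨ r = z := by
    intro r hr hrF
    obtain ⟨e, s, he, hs, rfl⟩ := hR r hr
    have heF : e ∈ frattini ↥g.P := by rcases he with rfl | rfl; exacts [one_mem _, hzF]
    have hsF := (mul_mem_cancel_left heF).1 hrF
    rcases hs with rfl | rfl | rfl | rfl
    · rwa [mul_one]
    exacts [absurd hsF hbF, absurd hsF hBF, absurd hsF hbBF]
  -- `P` centralizes `b` modulo `⟨z⟩`, and centralizes `z`
  have hcentb : ∀ p : g.P, p * b * p⁻¹ * b⁻¹ = 1 ∨ p * b * p⁻¹ * b⁻¹ = z := by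
    intro p
    refine hRF _ (mul_mem ?_ (inv_mem (subset_closure (by simp)))) ?_
    · have h1 : p * b * p⁻¹ = g.disp (x * p⁻¹) * (g.disp p⁻¹)⁻¹ := by
        rw [← hbdef]
        simp only [disp, map_mul, map_inv]
        group
      rw [h1]
      exact mul_mem (hDR _) (inv_mem (hDR _))
    · rw [← commutatorElement_def]
      exact commutator_le_frattini (hX.to_subgroup _) (comm_mem_commutator p b)
  have hcentz : ∀ p : g.P, Commute p z := by
    intro p
    obtain ⟨e, he, hpb⟩ : ∃ e, (e = 1 ∨ e = z) ∧ p * b * p⁻¹ = e * b :=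
      ⟨_, hcentb p, by rw [inv_mul_cancel_right]⟩
    obtain ⟨heb, -⟩ := hzbB e he
    have he2 : e * e = 1 := by rcases he with rfl | rfl; exacts [mul_one 1, hz2]
    refine mul_inv_eq_iff_eq_mul.1 ?_
    rw [← hsq, show p * (b * b) * p⁻¹ = p * b * p⁻¹ * (p * b * p⁻¹) by group, hpb,
      heb.symm.mul_mul_mul_comm, he2, one_mul]
  -- the commutator with `t`
  obtain ⟨i, hidef⟩ : ∃ i, conjOn g.P g.t g.htN b * b⁻¹ = i := ⟨_, rfl⟩
  have hiF : i ∉ frattini ↥g.P := by
    intro h
    apply hmov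
    have := hPn.conj_mem _ h b⁻¹
    rwa [← hidef, inv_inv, show b⁻¹ * (conjOn g.P g.t g.htN b * b⁻¹) * b =
      b⁻¹ * conjOn g.P g.t g.htN b by group] at this
  have hi2 : i * i = z := by
    have hiR : i ∈ R := by
      rw [← hidef, ← hbdef, g.conj_disp, hbdef]
      exact mul_mem (mul_mem (hDR _) (hDR _)) (inv_mem (subset_closure (by simp)))
    obtain ⟨e, s, he, hs, hes⟩ := hR i hiR
    obtain ⟨heb, heB⟩ := hzbB e he
    have he2 : e * e = 1 := by rcases he with rfl | rfl; exacts [mul_one 1, hz2]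
    rw [hes]
    rcases hs with rfl | rfl | rfl | rfl
    · exfalso
      apply hiF
      rw [hes, mul_one]
      rcases he with rfl | rfl; exacts [one_mem _, hzF]
    · rw [heb.symm.mul_mul_mul_comm, he2, one_mul, hsq]
    · rw [heB.symm.mul_mul_mul_comm, he2, one_mul, hB2]
    · rw [(heb.mul_right heB).symm.mul_mul_mul_comm, he2, one_mul,
        show b * g.θ b * (b * g.θ b) = b * (g.θ b * b) * g.θ b by group, hswap, ← mul_assoc b z,
        ← hzb.eq, show z * b * (b * g.θ b) * g.θ b = z * (b * b) * (g.θ b * g.θ b) by group, hsq,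
        hB2, hz2, one_mul]
  -- pass to the ambient group
  let bX : X := (b : X)
  let zX : X := (z : X)
  have hzW : zX ∈ frW X := subset_closure ⟨mem_frattini_of_sq hX hzF, congrArg Subtype.val hz2⟩
  have hbΦ : bX ∉ frattini X := hx
  have hsplit : ∀ p ∈ g.P, ∃ v ∈ frattini X, p = v ∨ p = bX * v := by
    intro p hp
    rcases g.inside_or hX hb b.2 hbΦ hp with h | h
    · exact ⟨p, h, Or.inl rfl⟩
    · exact ⟨bX⁻¹ * p, h, Or.inr (by group)⟩
  let N0 : Subgroup X := normalClosure {zX}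
  haveI hN0n : N0.Normal := normalClosure_normal
  have hN0W : N0 ≤ frW X := normalClosure_le_normal (Set.singleton_subset_iff.2 hzW)
  have hN0c : N0 ≤ centralizer (g.P : Set X) := by
    refine (closure_le _).2 ?_
    intro w hw
    obtain ⟨a, ha, hwa⟩ := Group.mem_conjugatesOfSet_iff.1 hw
    rw [Set.mem_singleton_iff] at ha
    subst ha
    obtain ⟨q, rfl⟩ := isConj_iff.1 hwa
    refine mem_centralizer_iff.2 fun p hp => ?_
    have hwW : q * zX * q⁻¹ ∈ frW X := (frW_normal (X := X)).conj_mem _ hzW q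
    have hbw : Commute bX (q * zX * q⁻¹) := by
      have h1 : bX⁻¹ * (q⁻¹ * bX * q) ∈ frattini X := by
        have h := commutator_le_frattini hX (comm_mem_commutator bX⁻¹ q⁻¹)
        rw [commutatorElement_def, inv_inv, inv_inv] at h
        rwa [show bX⁻¹ * (q⁻¹ * bX * q) = bX⁻¹ * q⁻¹ * bX * q by group]
      have h2 : Commute (q⁻¹ * bX * q) zX := by
        rw [show q⁻¹ * bX * q = bX * (bX⁻¹ * (q⁻¹ * bX * q)) by group]
        exact (show Commute bX zX from congrArg Subtype.val (hcentz b).eq).mul_left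
          (commute_frW hX hΦ h1 hzW)
      have h3 := h2.map (MulAut.conj q).toMonoidHom
      simp only [MulEquiv.coe_toMonoidHom, MulAut.conj_apply] at h3
      rwa [show q * (q⁻¹ * bX * q) * q⁻¹ = bX by group] at h3
    obtain ⟨v, hv, hpv | hpv⟩ := hsplit p hp
    · rw [hpv]; exact (commute_frW hX hΦ hv hwW).eq
    · rw [hpv]; exact (hbw.mul_left (commute_frW hX hΦ hv hwW)).eq
  have hN0P : N0 ≤ g.P := hN0c.trans g.hC
  let Y := X ⧸ N0
  let π : X →* Y := QuotientGroup.mk' N0
  have hk : ∀ u, π u = 1 ↔ u ∈ N0 := fun u => QuotientGroup.eq_one_iff u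
  have hπs : Function.Surjective π := QuotientGroup.mk'_surjective N0
  have hzN : zX ∈ N0 := subset_normalClosure rfl
  have hb2 : π bX * π bX = 1 := by
    rw [← map_mul, show bX * bX = zX from congrArg Subtype.val hsq]; exact (hk _).2 hzN
  -- the centralizer of the image of `b`
  let H : Subgroup X := (centralizer ({π bX} : Set Y)).comap π
  have hH : ∀ n, n ∈ H ↔ Commute (π n) (π bX) := fun n => mem_centralizer_singleton_iff
  have hPH : g.P ≤ H := by
    intro p hp
    rw [hH]
    refine commutatorElement_eq_one_iff_mul_comm.1 ?_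
    rw [← map_commutatorElement, commutatorElement_def]
    refine (hk _).2 ?_
    rcases hcentb ⟨p, hp⟩ with h | h
    · rw [show p * bX * p⁻¹ * bX⁻¹ = 1 from congrArg Subtype.val h]; exact one_mem _
    · rw [show p * bX * p⁻¹ * bX⁻¹ = zX from congrArg Subtype.val h]; exact hzN
  have htH : g.t ∉ H := by
    intro h
    rw [hH] at h
    have h1 : (i : X) ∈ N0 := by
      rw [← hidef]
      refine (hk _).1 ?_
      show π (g.t * bX * g.t⁻¹ * bX⁻¹) = 1
      rw [← commutatorElement_def, map_commutatorElement]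
      exact commutatorElement_eq_one_iff_mul_comm.2 h
    have hz1 : z = 1 := by
      rw [← hi2]
      exact Subtype.ext ((mem_frW hX hΦ).1 (hN0W h1)).2
    have hbot : N0 = ⊥ := by
      refine le_bot_iff.1 (normalClosure_le_normal ?_)
      rintro w rfl
      show (z : X) ∈ (⊥ : Subgroup X)
      rw [hz1]; exact one_mem _
    apply hiF
    rw [hbot, mem_bot] at h1
    rw [show i = 1 from Subtype.ext h1]
    exact one_mem _
  have hHP : H = g.P := by
    by_contra hne
    obtain ⟨n, hnH, hnP, hnN⟩ := exists_normalizer_grow hX hPH (Ne.symm hne)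
    rcases g.hN2 n hnN with h | h
    · exact hnP h
    · refine htH ?_
      have := mul_mem hnH (inv_mem (hPH h))
      rwa [mul_inv_rev, inv_inv, mul_inv_cancel_left] at this
  -- a second generator
  obtain ⟨a, haΦ, hab⟩ : ∃ a, a ∉ frattini X ∧ bX⁻¹ * a ∉ frattini X := by
    by_contra hcon
    push Not at hcon
    refine hm (isMetacyclic_of_isCyclic ?_)
    have htop : closure ({bX} : Set X) = ⊤ := by
      refine frattini_nongenerating (eq_top_iff.2 fun n _ => ?_)
      by_cases hn : n ∈ frattini X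
      · exact mem_sup_right hn
      · rw [show n = bX * (bX⁻¹ * n) by group]
        exact Subgroup.mul_mem_sup (subset_closure rfl) (hcon n hn)
    rw [← zpowers_eq_closure] at htop
    exact ⟨⟨bX, fun n => htop.ge (mem_top n)⟩⟩
  have hgen := gen_of_classes hX hb hbΦ haΦ hab
  have hgenY : closure ({π a, π bX} : Set Y) = ⊤ := by
    rw [← Set.image_pair, ← MonoidHom.map_closure, Set.pair_comm, hgen,
      map_top_of_surjective π hπs]
  have hcycY : IsCyclic ↥(commutator Y) := by
    refine derived_cyclic_of_involution (hX.to_quotient N0) (metacyclic_frattini_map hX π hπs hΦ)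
      hgenY hb2 ?_ ?_
    · intro y hy
      obtain ⟨n, rfl⟩ := hπs y
      have hn : n ∈ g.P := hHP ▸ (hH n).2 hy
      rcases g.inside_or hX hb b.2 hbΦ hn with h | h
      · exact Or.inl ((map_frattini_eq hX π hπs).le ⟨n, h, rfl⟩)
      · right
        refine (map_frattini_eq hX π hπs).le ⟨bX * bX * (bX⁻¹ * n), ?_, ?_⟩
        · exact mul_mem (by rw [← pow_two]; exact sq_mem_frattini hX bX) h
        · rw [show bX * bX * (bX⁻¹ * n) = bX * n by group, map_mul]
    · intro y₁ y₂ h₁ h₂ h₁' h₂'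
      obtain ⟨s₁, rfl⟩ := hπs y₁
      obtain ⟨s₂, rfl⟩ := hπs y₂
      have hnor : ∀ s, π s ∈ normalizer (centralizer {π bX} : Set Y) →
          s ∈ normalizer (g.P : Set X) := by
        intro s hs
        refine mem_normalizer_of_conj fun p hp => ?_
        rw [← hHP] at hp ⊢
        show π (s * p * s⁻¹) ∈ centralizer ({π bX} : Set Y)
        rw [map_mul, map_mul, map_inv]
        exact (Subgroup.mem_normalizer_iff.1 hs _).1 hp
      have hout : ∀ s, ¬ Commute (π s) (π bX) → s ∉ g.P := fun s hs h => hs ((hH s).1 (hPH h))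
      have hcl : ∀ s, π s ∈ normalizer (centralizer {π bX} : Set Y) →
          ¬ Commute (π s) (π bX) → g.t⁻¹ * s ∈ g.P := fun s hs hs' =>
        (g.hN2 s (hnor s hs)).resolve_left (hout s hs')
      have h := hPH (mul_mem (inv_mem (hcl s₁ h₁ h₁')) (hcl s₂ h₂ h₂'))
      rw [hH, show (g.t⁻¹ * s₁)⁻¹ * (g.t⁻¹ * s₂) = s₁⁻¹ * s₂ by group, map_mul, map_inv] at h
      exact h
  -- lift a generator
  obtain ⟨⟨c₁, hc₁⟩, hcgen⟩ := IsCyclic.exists_generator (α := ↥(commutator Y))
  have hmapD : (commutator X).map π = commutator Y := by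
    rw [_root_.commutator_def, map_commutator, map_top_of_surjective π hπs, _root_.commutator_def]
  obtain ⟨c, hc, rfl⟩ := hmapD.ge hc₁
  have hsplitD : ∀ u ∈ commutator X, ∃ k : ℤ, ∃ n ∈ N0, u = c ^ k * n := by
    intro u hu
    obtain ⟨k, hk'⟩ := mem_zpowers_iff.1 (hcgen ⟨π u, hmapD.le ⟨u, hu, rfl⟩⟩)
    have hk2 : π (c ^ k) = π u := by rw [map_zpow]; exact congrArg Subtype.val hk'
    exact ⟨k, _, QuotientGroup.eq.1 hk2, by rw [mul_inv_cancel_left]⟩
  have hcn : ∀ n ∈ N0, ∀ k : ℤ, Commute (c ^ k) n := fun n hn k =>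
    (commute_frW hX hΦ (commutator_le_frattini hX hc) (hN0W hn)).zpow_left k
  have hn2 : ∀ n ∈ N0, n * n = 1 := fun n hn => ((mem_frW hX hΦ).1 (hN0W hn)).2
  have hsqc : ∀ u ∈ commutator X, u * u ∈ zpowers (c * c) := by
    intro u hu
    obtain ⟨k, n, hn, rfl⟩ := hsplitD u hu
    rw [(hcn n hn k).symm.mul_mul_mul_comm, hn2 n hn, mul_one, ← (Commute.refl c).mul_zpow]
    exact zpow_mem (mem_zpowers _) k
  have hiD : (i : X) ∈ commutator X := by
    rw [← hidef]
    show g.t * bX * g.t⁻¹ * bX⁻¹ ∈ commutator X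
    rw [← commutatorElement_def]
    exact comm_mem_commutator _ _
  have hzsq : ∀ q : X, q * zX * q⁻¹ ∈ zpowers (c * c) := by
    intro q
    have h1 : q * zX * q⁻¹ = q * (i : X) * q⁻¹ * (q * (i : X) * q⁻¹) := by
      rw [show zX = (i : X) * i from (congrArg Subtype.val hi2).symm]; group
    rw [h1]
    exact hsqc _ ((inferInstance : (commutator X).Normal).conj_mem _ hiD q)
  have hN0le : N0 ≤ zpowers c := by
    refine le_trans ((closure_le _).2 ?_) (zpowers_le.2 (mul_mem (mem_zpowers c) (mem_zpowers c)))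
    intro w hw
    obtain ⟨a', ha', hwa⟩ := Group.mem_conjugatesOfSet_iff.1 hw
    rw [Set.mem_singleton_iff] at ha'
    subst ha'
    obtain ⟨q, rfl⟩ := isConj_iff.1 hwa
    exact hzsq q
  have hle : commutator X ≤ zpowers c := fun u hu => by
    obtain ⟨k, n, hn, rfl⟩ := hsplitD u hu
    exact mul_mem (zpow_mem (mem_zpowers c) k) (hN0le hn)
  exact isCyclic_of_injective (inclusion hle) (inclusion_injective hle)

end Cfg

end CfsgLib.Bicyclic
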