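import Cfsg.Agent.Bicyclic.ConfigFixed

/-!
The configuration of an automorphism of order three inverted in the normalizer forces a cyclic
derived subgroup.
-/

set_option autoImplicit false
set_option linter.unusedSectionVars false
set_option linter.style.haveILetI false

open scoped commutatorElement

namespace CfsgLib.Bicyclic

open Subgroup

universe u

variable {X : Type u} [Group X] [Finite X]

theorem Cfg.isCyclic_commutator (g : Cfg X) (hX : IsPGroup 2 X) (hb : IsBicyclic X)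
    (hm : ¬ Cfsg.IsMetacyclic X) : IsCyclic ↥(commutator X) := by
  have hΦ := frattini_metacyclic hX hb hm
  obtain ⟨x₀, hx₀, hx₀'⟩ := g.exists_moved_out hX hb hm hΦ
  by_cases hne : ∃ p : g.P, (p : X) ∈ g.U ∧ g.θ p ≠ p
  · exact g.cyclic_of_action hX hb hΦ hx₀ hx₀' hne
  push Not at hne
  have hfix : ∀ p : g.P, p ∈ frattini ↥g.P → g.θ p = p := fun p hp => hne p (g.mem_U.2 hp)
  obtain ⟨b, hbdef⟩ : ∃ b, g.disp x₀ = b := ⟨_, rfl⟩
  have hbΦ : (b : X) ∉ frattini X := by
    intro h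
    apply hx₀'
    have := mul_mem hx₀ h
    rwa [← hbdef, Cfg.disp, Subgroup.coe_mul, Subgroup.coe_inv, mul_inv_cancel_left] at this
  by_cases hmov : b⁻¹ * conjOn g.P g.t g.htN b ∉ frattini ↥g.P
  · exact g.cyclic_of_fixed hX hb hm hΦ hfix (x := x₀) (hbdef ▸ hbΦ) (hbdef ▸ hmov)
  push Not at hmov
  let π := QuotientGroup.mk' (frattini ↥g.P)
  let ct := conjOn g.P g.t g.htN
  have hctb : π (ct b) = π b := (QuotientGroup.eq.2 hmov).symm
  have hctθ : ∀ p, ct (g.θ p) = g.θ (g.θ (ct p)) := fun p => by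
    show conjOn g.P g.t g.htN (g.θ p) = g.θ (g.θ (conjOn g.P g.t g.htN p))
    rw [← g.hrel p, g.h3]
  have hθπ : ∀ p q, π p = π q → π (g.θ p) = π (g.θ q) := by
    intro p q e
    refine QuotientGroup.eq.2 ?_
    rw [← map_inv, ← map_mul]
    exact characteristic_iff_le_comap.1 frattini_characteristic g.θ (QuotientGroup.eq.1 e)
  have hcyc : b * g.θ b * g.θ (g.θ b) = 1 := hbdef ▸ g.disp_cycle x₀
  have hsep : π (g.θ (g.θ b)) ≠ π (g.θ b) := by
    intro h
    have h1 := hθπ _ _ h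
    rw [g.h3] at h1
    have h2 : π b = π (g.θ b) := h1.trans h
    have h3 := congrArg π hcyc
    rw [map_mul, map_mul, map_one, h, ← h2, ← map_mul, ← pow_two,
      show π (b ^ 2) = 1 from (QuotientGroup.eq_one_iff _).2 (sq_mem_frattini (hX.to_subgroup _) b),
      one_mul] at h3
    exact hbΦ (mem_frattini_of_sq hX ((QuotientGroup.eq_one_iff _).1 h3))
  by_cases hBΦ : ((g.θ b : g.P) : X) ∈ frattini X
  · have hCΦ : ((g.θ (g.θ b) : g.P) : X) ∉ frattini X := fun h => hbΦ (by
      have e : (b : X) = (((g.θ b : g.P) : X) * ((g.θ (g.θ b) : g.P) : X))⁻¹ :=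
        eq_inv_of_mul_eq_one_left (by rw [← mul_assoc]; exact congrArg Subtype.val hcyc)
      rw [e]
      exact inv_mem (mul_mem hBΦ h))
    refine g.cyclic_of_fixed hX hb hm hΦ hfix (x := g.θ (g.θ x₀))
      (by rw [g.disp_theta, g.disp_theta, hbdef]; exact hCΦ) ?_
    rw [g.disp_theta, g.disp_theta, hbdef]
    intro h
    refine hsep ((QuotientGroup.eq.2 h).trans ?_)
    show π (ct (g.θ (g.θ b))) = π (g.θ b)
    rw [hctθ, hctθ, g.h3]
    exact hθπ _ _ hctb
  · refine g.cyclic_of_fixed hX hb hm hΦ hfix (x := g.θ x₀)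
      (by rw [g.disp_theta, hbdef]; exact hBΦ) ?_
    rw [g.disp_theta, hbdef]
    intro h
    refine hsep ?_
    refine Eq.trans ?_ (QuotientGroup.eq.2 h).symm
    show π (g.θ (g.θ b)) = π (ct (g.θ b))
    rw [hctθ]
    exact (hθπ _ _ (hθπ _ _ hctb)).symm

end CfsgLib.Bicyclic
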