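import Cfsg.Agent.Bicyclic.Counting

/-!
Tools for the analysis of an automorphism of order three of a proper subgroup.
-/

set_option autoImplicit false
set_option linter.unusedSectionVars false
set_option linter.style.haveILetI false

open scoped commutatorElement

namespace CfsgLib.Bicyclic

open Subgroup

universe u v

variable {X : Type u} [Group X] [Finite X]

/-- Conjugation by a normalizing element. -/
def conjOn (P : Subgroup X) (t : X) (ht : t ∈ normalizer (P : Set X)) : MulAut P where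
  toFun p := ⟨t * p * t⁻¹, (Subgroup.mem_normalizer_iff.1 ht p).1 p.2⟩
  invFun p := ⟨t⁻¹ * p * t, (Subgroup.mem_normalizer_iff.1 ht _).2 (by
    rw [show t * (t⁻¹ * (p : X) * t) * t⁻¹ = p by group]; exact p.2)⟩
  left_inv p := Subtype.ext (by simp [mul_assoc])
  right_inv p := Subtype.ext (by simp [mul_assoc])
  map_mul' p q := Subtype.ext (by simp [mul_assoc])

theorem conjOn_coe (P : Subgroup X) (t : X) (ht : t ∈ normalizer (P : Set X)) (p : P) :
    ((conjOn P t ht p : P) : X) = t * p * t⁻¹ := rfl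

/-- The restriction of an automorphism to an invariant subgroup. -/
noncomputable def restr {P : Subgroup X} (θ : MulAut P) (U : Subgroup X) (hU : U ≤ P)
    (hinv : ∀ p : P, (p : X) ∈ U → ((θ p : P) : X) ∈ U) : MulAut U :=
  MulEquiv.ofBijective
    (((P.subtype.comp θ.toMonoidHom).comp (inclusion hU)).codRestrict U
      fun u => hinv (inclusion hU u) u.2)
    (Finite.injective_iff_bijective.1 fun a b h => by
      have h1 : ((θ (inclusion hU a) : P) : X) = ((θ (inclusion hU b) : P) : X) :=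
        congrArg (fun z : U => (z : X)) h
      exact inclusion_injective hU (θ.injective (Subtype.ext h1)))

theorem restr_coe {P : Subgroup X} (θ : MulAut P) (U : Subgroup X) (hU : U ≤ P)
    (hinv : ∀ p : P, (p : X) ∈ U → ((θ p : P) : X) ∈ U) (u : U) :
    ((restr θ U hU hinv u : U) : X) = ((θ ⟨u, hU u.2⟩ : P) : X) := rfl

theorem restr_pow_three {P : Subgroup X} {θ : MulAut P} (h3 : ∀ p, θ (θ (θ p)) = p)
    (U : Subgroup X) (hU : U ≤ P) (hinv : ∀ p : P, (p : X) ∈ U → ((θ p : P) : X) ∈ U) :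
    restr θ U hU hinv ^ 3 = 1 := by
  refine MulEquiv.ext fun u => Subtype.ext ?_
  rw [pow_succ, pow_two, MulAut.mul_apply, MulAut.mul_apply, MulAut.one_apply, restr_coe]
  exact congrArg Subtype.val (h3 ⟨u, hU u.2⟩)

/-- A proper subgroup grows inside any larger one. -/
theorem exists_normalizer_grow (hX : IsPGroup 2 X) {H K : Subgroup X} (h : H ≤ K) (hne : H ≠ K) :
    ∃ n ∈ K, n ∉ H ∧ n ∈ normalizer (H : Set X) := by
  haveI := (hX.to_subgroup K).isNilpotent
  have hlt : H.subgroupOf K < ⊤ := lt_top_iff_ne_top.2 fun e => hne (le_antisymm h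
    (Subgroup.subgroupOf_eq_top.1 e))
  obtain ⟨n, hn, hnH⟩ := SetLike.exists_of_lt
    (Group.normalizerCondition_of_isNilpotent (G := K) _ hlt)
  refine ⟨n, n.2, hnH, mem_normalizer_of_conj fun x hx => ?_⟩
  exact (Subgroup.mem_normalizer_iff.1 hn ⟨x, h hx⟩).1 hx

/-- The quotient by the Frattini subgroup of a bicyclic noncyclic group: three classes. -/
theorem card_frattini_quot_le (hX : IsPGroup 2 X) (hb : IsBicyclic X) :
    Nat.card (X ⧸ frattini X) ≤ 4 := by
  obtain ⟨x, y, h⟩ := hb
  haveI : Fact (Nat.Prime 2) := ⟨Nat.prime_two⟩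
  have hgen : closure ({x, y} : Set X) = ⊤ := eq_top_iff.2 fun g _ => by
    obtain ⟨i, j, rfl⟩ := h g
    exact mul_mem (zpow_mem (subset_closure (by simp)) i) (zpow_mem (subset_closure (by simp)) j)
  obtain ⟨r, hr, hi⟩ := Cfsg.Agent.S4419.frattini_index_le (p := 2) hX hgen
  rw [← Subgroup.index_eq_card, hi]
  calc 2 ^ r ≤ 2 ^ 2 := Nat.pow_le_pow_right (by norm_num) hr
    _ = 4 := rfl

/-- Two elements in distinct nontrivial classes modulo the Frattini subgroup generate. -/
theorem gen_of_classes (hX : IsPGroup 2 X) (hb : IsBicyclic X) {p q : X} (hp : p ∉ frattini X)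
    (hq : q ∉ frattini X) (hpq : p⁻¹ * q ∉ frattini X) : closure ({p, q} : Set X) = ⊤ := by
  classical
  refine frattini_nongenerating (eq_top_iff.2 fun g _ => ?_)
  let π := QuotientGroup.mk' (frattini X)
  let H := (closure ({p, q} : Set X)).map π
  have hpH : π p ∈ H := ⟨p, subset_closure (by simp), rfl⟩
  have hqH : π q ∈ H := ⟨q, subset_closure (by simp), rfl⟩
  have h3 : 3 ≤ Nat.card H := by
    have hs : ({1, π p, π q} : Set (X ⧸ frattini X)) ⊆ H := by
      rintro z (rfl | rfl | rfl)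
      exacts [one_mem H, hpH, hqH]
    have h := Set.ncard_le_ncard hs (Set.toFinite _)
    have hcard : ({1, π p, π q} : Set (X ⧸ frattini X)).ncard = 3 := by
      rw [Set.ncard_eq_three]
      exact ⟨1, π p, π q, fun e => hp ((QuotientGroup.eq_one_iff p).1 e.symm),
        fun e => hq ((QuotientGroup.eq_one_iff q).1 e.symm),
        fun e => hpq (QuotientGroup.eq.1 e), rfl⟩
    rw [hcard, ← Nat.card_coe_set_eq] at h
    exact h
  have htop : H = ⊤ := by
    refine Subgroup.eq_top_of_card_eq _ ?_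
    have h4 := card_frattini_quot_le hX hb
    obtain ⟨d, hd⟩ := Subgroup.card_subgroup_dvd_card H
    have hpos := Nat.card_pos (α := X ⧸ frattini X)
    rcases Nat.lt_or_ge d 2 with hlt | hge
    · interval_cases d <;> omega
    · exfalso
      have : Nat.card H * 2 ≤ Nat.card H * d := Nat.mul_le_mul_left _ hge
      omega
  obtain ⟨w, hw, hwg⟩ := htop.ge (mem_top (π g))
  rw [show g = w * (w⁻¹ * g) by group]
  exact Subgroup.mul_mem_sup hw (QuotientGroup.eq.1 hwg)

/-- An element acts trivially on the Frattini subgroup modulo `L`. -/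
theorem centralizes_frattini_mod (hX : IsPGroup 2 X) {P L : Subgroup X} [hL : L.Normal]
    (hPn : P.Normal) {t : X} (hcov : ∀ g, g ∈ P ∨ t⁻¹ * g ∈ P) (htt : t * t ∈ P)
    (hcomm : ∀ p ∈ P, ∀ q ∈ P, ⁅p, q⁆ ∈ L) (hu : ∀ p ∈ P, ⁅t, p⁆ ∈ P ∧ ⁅t, p⁆ * ⁅t, p⁆ ∈ L)
    {f : X} (hf : f ∈ frattini X) : t * f * t⁻¹ * f⁻¹ ∈ L := by
  let π := QuotientGroup.mk' L
  have hk : ∀ u, π u = 1 ↔ u ∈ L := fun u => QuotientGroup.eq_one_iff u
  have hab : ∀ p ∈ P, ∀ q ∈ P, Commute (π p) (π q) := fun p hp q hq =>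
    commutatorElement_eq_one_iff_mul_comm.1 (by
      rw [← map_commutatorElement]; exact (hk _).2 (hcomm p hp q hq))
  suffices h : Commute (π t) (π f) by
    refine (hk _).1 ?_
    rw [map_mul, map_mul, map_mul, map_inv, map_inv, h.eq, mul_inv_cancel_right, mul_inv_cancel]
  -- the conjugate of an element of `P`
  have hkey : ∀ p ∈ P, ∃ u ∈ P, π t * π p * (π t)⁻¹ = π u * π p ∧ π u * π u = 1 ∧
      Commute (π t) (π u) := by
    intro p hp
    obtain ⟨hup, hu2⟩ := hu p hp
    refine ⟨⁅t, p⁆, hup, by rw [map_commutatorElement, commutatorElement_def]; group,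
      by rw [← map_mul]; exact (hk _).2 hu2, ?_⟩
    have e1 : π t * π ⁅t, p⁆ * (π t)⁻¹ =
        π (t * t) * π p * (π (t * t))⁻¹ * (π t * π p * (π t)⁻¹)⁻¹ := by
      rw [map_commutatorElement, commutatorElement_def, map_mul]; group
    have e2 : π t * π ⁅t, p⁆ * (π t)⁻¹ = (π ⁅t, p⁆)⁻¹ := by
      rw [e1, (hab _ htt p hp).eq, mul_inv_cancel_right, map_commutatorElement,
        commutatorElement_def]
      group
    rw [inv_eq_of_mul_eq_one_right (show π ⁅t, p⁆ * π ⁅t, p⁆ = 1 by
      rw [← map_mul]; exact (hk _).2 hu2)] at e2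
    exact mul_inv_eq_iff_eq_mul.1 e2
  have hsqP : ∀ p ∈ P, Commute (π t) (π p * π p) := by
    intro p hp
    obtain ⟨u, huP, hu1, hu2, -⟩ := hkey p hp
    refine mul_inv_eq_iff_eq_mul.1 ?_
    rw [show π t * (π p * π p) * (π t)⁻¹ = π t * π p * (π t)⁻¹ * (π t * π p * (π t)⁻¹) by group,
      hu1, (hab p hp u huP).mul_mul_mul_comm, hu2, one_mul]
  rw [frattini_eq_closure_sq hX] at hf
  induction hf using Subgroup.closure_induction with
  | one => rw [map_one]; exact Commute.one_right _
  | mul x y _ _ hx hy => rw [map_mul]; exact hx.mul_right hy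
  | inv x _ hx => rw [map_inv]; exact hx.inv_right
  | mem x hx =>
    obtain ⟨g, rfl⟩ := hx
    show Commute (π t) (π (g ^ 2))
    rw [pow_two]
    rcases hcov g with hg | hg
    · rw [map_mul]; exact hsqP g hg
    · obtain ⟨p, hp, rfl⟩ : ∃ p ∈ P, g = t * p := ⟨t⁻¹ * g, hg, by group⟩
      obtain ⟨u, huP, hu1, hu2, hu3⟩ := hkey p hp
      have e : π (t * p * (t * p)) = π u * π (t * t) * (π p * π p) := by
        have hpt := hab p hp _ htt
        rw [map_mul, map_mul, show π t * π p * (π t * π p) =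
          π t * π p * (π t)⁻¹ * (π t * π t) * π p by group, hu1, ← map_mul π t t,
          mul_assoc (π u) (π p), hpt.eq, ← mul_assoc, mul_assoc _ (π p) (π p)]
      rw [e]
      refine (hu3.mul_right ?_).mul_right (hsqP p hp)
      rw [map_mul]
      exact (Commute.refl _).mul_right (Commute.refl _)

end CfsgLib.Bicyclic
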