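import Mathlib

/-!
Cyclic extensions of a group by an automorphism with an inner power.
-/

set_option autoImplicit false

namespace CfsgLib.Bicyclic

open Subgroup

/-- An extension of `K` by a cyclic group of order `N` realizing `κ`, with `A ^ N = x`. -/
theorem exists_cyclic_ext {K : Type} [Group K] [Finite K] (κ : MulAut K) {N : ℕ} (hN : 0 < N)
    {x : K} (hx : κ x = x) (hκ : κ ^ N = MulAut.conj x) :
    ∃ (G : Type) (_ : Group G) (_ : Finite G) (j : K →* G) (A : G),
      Function.Injective j ∧ (∀ k, A * j k * A⁻¹ = j (κ k)) ∧ A ^ N = j x ∧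
      Nat.card G = Nat.card K * N ∧
      ∀ (k k' : K) (t t' : ℕ), t < N → t' < N → j k * A ^ t = j k' * A ^ t' → k = k' ∧ t = t' := by
  let φ : Multiplicative ℤ →* MulAut K := zpowersHom (MulAut K) κ
  let o : Multiplicative ℤ := Multiplicative.ofAdd 1
  let u : K ⋊[φ] Multiplicative ℤ := ⟨x⁻¹, Multiplicative.ofAdd (N : ℤ)⟩
  have hxpow : ∀ t : ℤ, (κ ^ t) x⁻¹ = x⁻¹ := by
    intro t
    have h : κ x⁻¹ = x⁻¹ := by rw [map_inv, hx]
    induction t using Int.induction_on with
    | zero => rfl
    | succ t ih => rw [zpow_add, zpow_one, MulAut.mul_apply, h, ih]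
    | pred t ih =>
      rw [zpow_sub, zpow_one, MulAut.mul_apply,
        show κ⁻¹ x⁻¹ = x⁻¹ from κ.injective (by rw [MulAut.apply_inv_self, h]), ih]
  have hu : u ∈ center (K ⋊[φ] Multiplicative ℤ) := by
    refine mem_center_iff.2 fun g => ?_
    refine SemidirectProduct.ext ?_ (mul_comm _ _)
    show g.left * φ g.right x⁻¹ = x⁻¹ * φ (Multiplicative.ofAdd (N : ℤ)) g.left
    have e1 : φ g.right x⁻¹ = x⁻¹ := hxpow _
    have e2 : φ (Multiplicative.ofAdd (N : ℤ)) g.left = x * g.left * x⁻¹ := by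
      show (κ ^ (N : ℤ)) g.left = _
      rw [zpow_natCast, hκ, MulAut.conj_apply]
    rw [e1, e2]
    group
  let Z : Subgroup (K ⋊[φ] Multiplicative ℤ) := zpowers u
  have hZn : Z.Normal := ⟨fun z hz g => by
    have hzc : z ∈ center (K ⋊[φ] Multiplicative ℤ) := (zpowers_le.2 hu) hz
    rwa [mem_center_iff.1 hzc g, mul_inv_cancel_right]⟩
  let q := QuotientGroup.mk' Z
  have hZ : ∀ z : K ⋊[φ] Multiplicative ℤ, z ∈ Z →
      (N : ℤ) ∣ Multiplicative.toAdd z.right ∧ (Multiplicative.toAdd z.right = 0 → z = 1) := by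
    rintro _ ⟨l, rfl⟩
    have hr : Multiplicative.toAdd (u ^ l).right = l * N := by
      rw [← SemidirectProduct.rightHom_eq_right, map_zpow, toAdd_zpow]
      simp [u]
    refine ⟨⟨l, by rw [hr, mul_comm]⟩, fun h => ?_⟩
    rw [hr] at h
    have : l = 0 := by
      rcases mul_eq_zero.1 h with h | h
      · exact h
      · omega
    rw [this]
    exact zpow_zero u
  let j : K →* (K ⋊[φ] Multiplicative ℤ) ⧸ Z := q.comp SemidirectProduct.inl
  let A : (K ⋊[φ] Multiplicative ℤ) ⧸ Z := q (SemidirectProduct.inr o)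
  have hpow : ∀ (k : K) (t : ℕ), j k * A ^ t = q ⟨k, Multiplicative.ofAdd (t : ℤ)⟩ := by
    intro k t
    show q _ * q _ ^ t = _
    rw [← map_pow, ← map_mul, ← map_pow SemidirectProduct.inr, ← SemidirectProduct.mk_eq_inl_mul_inr]
    congr
    show Multiplicative.ofAdd (1 : ℤ) ^ t = _
    rw [← ofAdd_nsmul]; simp
  have hbij : Function.Bijective fun p : K × Fin N => j p.1 * A ^ (p.2 : ℕ) := by
    constructor
    · rintro ⟨k, t⟩ ⟨k', t'⟩ h
      change j k * A ^ (t : ℕ) = j k' * A ^ (t' : ℕ) at h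
      rw [hpow, hpow] at h
      have h1 := hZ _ (QuotientGroup.eq.1 h)
      simp only [SemidirectProduct.mul_right, SemidirectProduct.inv_right, toAdd_mul, toAdd_inv,
        toAdd_ofAdd] at h1
      obtain ⟨⟨d, hd⟩, h2⟩ := h1
      have ht := t.isLt
      have ht' := t'.isLt
      have hd0 : d = 0 := by
        have h3 : -(N : ℤ) < N * d ∧ (N : ℤ) * d < N := ⟨by omega, by omega⟩
        rcases lt_trichotomy d 0 with hneg | h0 | hpos
        · have : (N : ℤ) * d ≤ N * (-1) := Int.mul_le_mul_of_nonneg_left (by omega) (by omega)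
          omega
        · exact h0
        · have : (N : ℤ) * 1 ≤ N * d := Int.mul_le_mul_of_nonneg_left (by omega) (by omega)
          omega
      rw [hd0, mul_zero] at hd
      have h4 := inv_mul_eq_one.1 (h2 hd)
      exact Prod.ext (congrArg SemidirectProduct.left h4) (Fin.ext (show (t : ℕ) = t' by omega))
    · intro y
      obtain ⟨g, rfl⟩ := QuotientGroup.mk'_surjective Z y
      let l : ℤ := Multiplicative.toAdd g.right / N
      let g' := g * u ^ (-l)
      have hg' : q g' = q g := by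
        rw [map_mul, show q (u ^ (-l)) = 1 from
          (QuotientGroup.eq_one_iff _).2 (zpow_mem (mem_zpowers u) _), mul_one]
      have hr : Multiplicative.toAdd g'.right = Multiplicative.toAdd g.right % N := by
        show Multiplicative.toAdd (g.right * (u ^ (-l)).right) = _
        rw [show (u ^ (-l)).right = SemidirectProduct.rightHom (u ^ (-l)) from rfl, map_zpow, toAdd_mul, toAdd_zpow]
        have := Int.mul_ediv_add_emod (Multiplicative.toAdd g.right) (N : ℤ)
        simp [u, l]
        linarith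
      refine ⟨(g'.left, ⟨(Multiplicative.toAdd g.right % N).toNat, ?_⟩), ?_⟩
      · have h1 := Int.emod_lt_of_pos (Multiplicative.toAdd g.right) (b := (N : ℤ)) (by omega)
        omega
      · rw [← hg']
        simp only [hpow]
        congr 1
        refine SemidirectProduct.ext rfl ?_
        apply Multiplicative.toAdd.injective
        rw [hr, toAdd_ofAdd]
        exact Int.toNat_of_nonneg (Int.emod_nonneg _ (by omega))
  have hcard : Nat.card ((K ⋊[φ] Multiplicative ℤ) ⧸ Z) = Nat.card K * N := by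
    rw [← Nat.card_eq_of_bijective _ hbij, Nat.card_prod, Nat.card_eq_fintype_card (α := Fin N),
      Fintype.card_fin]
  refine ⟨_, QuotientGroup.Quotient.group Z, Nat.finite_of_card_ne_zero
    (by rw [hcard]; exact mul_ne_zero (Nat.card_pos.ne') hN.ne'), j, A, ?_, ?_, ?_, hcard, ?_⟩
  · intro k k' h
    have := @hbij.1 (k, ⟨0, hN⟩) (k', ⟨0, hN⟩)
      (show j k * A ^ 0 = j k' * A ^ 0 by rw [h])
    exact congrArg Prod.fst (this : ((k, ⟨0, hN⟩) : K × Fin N) = (k', ⟨0, hN⟩))
  · intro k
    show q _ * q _ * (q _)⁻¹ = q _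
    rw [← map_inv q, ← map_mul, ← map_mul, ← map_inv SemidirectProduct.inr,
      ← SemidirectProduct.inl_aut]
    have : φ o = κ := zpow_one κ
    rw [this]
  · rw [← one_mul (A ^ N), ← map_one j, hpow]
    refine QuotientGroup.eq.2 ⟨-1, ?_⟩
    show u ^ (-1 : ℤ) = _
    rw [zpow_neg_one]
    refine SemidirectProduct.ext ?_ ?_
    · rw [SemidirectProduct.mul_left, SemidirectProduct.inv_left, SemidirectProduct.inv_left,
        SemidirectProduct.left_inl]
      show φ _ _ = φ _ _ * φ _ _
      simp only [inv_one, map_one, one_mul, inv_inv, SemidirectProduct.inv_right, ← ofAdd_neg]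
      rw [show u.left⁻¹ = x from inv_inv x]
      rfl
    · simp [u]
  · intro k k' t t' ht ht' h
    have := @hbij.1 (k, ⟨t, ht⟩) (k', ⟨t', ht'⟩) h
    exact ⟨congrArg Prod.fst (this : ((k, ⟨t, ht⟩) : K × Fin N) = (k', ⟨t', ht'⟩)),
      congrArg (fun p : K × Fin N => (p.2 : ℕ)) (this : ((k, ⟨t, ht⟩) : K × Fin N) = (k', ⟨t', ht'⟩))⟩

end CfsgLib.Bicyclic
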