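import Cfsg.Agent.Bicyclic.Field
import Cfsg.Agent.Bicyclic.CyclicExt
import Cfsg.Agent.SL2C.Basic

/-!
The model: a cyclic extension of a quotient of `SL₂(q)` by a semilinear diagonal automorphism.
-/

set_option autoImplicit false
set_option linter.style.haveILetI false

open CfsgLib.SL2C

namespace CfsgLib.Bicyclic

variable {F : Type} [Field F]

/-- The diagonal elements. -/
def diagHom : Fˣ →* SL F where
  toFun u := ⟨!![(u : F), 0; 0, ((u⁻¹ : Fˣ) : F)], by simp [Matrix.det_fin_two_of]⟩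
  map_one' := Subtype.ext (by ext a b; fin_cases a <;> fin_cases b <;> simp)
  map_mul' u v := Subtype.ext (by
    show _ = SL2C.mt _ * SL2C.mt _
    ext a b
    fin_cases a <;> fin_cases b <;> simp [Matrix.mul_apply, Fin.sum_univ_two, mul_comm])

theorem mt_diagHom (u : Fˣ) : SL2C.mt (diagHom u) = !![(u : F), 0; 0, ((u⁻¹ : Fˣ) : F)] := rfl

/-- The semilinear diagonal automorphism. -/
def twist (ω : Fˣ) (σ : F ≃+* F) : MulAut (SL F) where
  toFun M := ⟨!![σ (SL2C.mt M 0 0), (ω : F) * σ (SL2C.mt M 0 1);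
      ((ω⁻¹ : Fˣ) : F) * σ (SL2C.mt M 1 0), σ (SL2C.mt M 1 1)], by
    have h : SL2C.mt M 0 0 * SL2C.mt M 1 1 - SL2C.mt M 0 1 * SL2C.mt M 1 0 = 1 := by
      rw [← Matrix.det_fin_two]; exact M.2
    have h2 := congrArg σ h
    rw [map_sub, map_mul, map_mul, map_one] at h2
    rw [Matrix.det_fin_two_of, ← h2]
    have := Units.mul_inv ω
    linear_combination (-(σ (SL2C.mt M 0 1) * σ (SL2C.mt M 1 0))) * this⟩
  invFun M := ⟨!![σ.symm (SL2C.mt M 0 0), σ.symm (((ω⁻¹ : Fˣ) : F) * SL2C.mt M 0 1);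
      σ.symm ((ω : F) * SL2C.mt M 1 0), σ.symm (SL2C.mt M 1 1)], by
    have h : SL2C.mt M 0 0 * SL2C.mt M 1 1 - SL2C.mt M 0 1 * SL2C.mt M 1 0 = 1 := by
      rw [← Matrix.det_fin_two]; exact M.2
    rw [Matrix.det_fin_two_of, ← map_mul, ← map_mul, ← map_sub]
    refine σ.injective ?_
    rw [σ.apply_symm_apply, map_one, ← h]
    have := Units.mul_inv ω
    linear_combination (-(SL2C.mt M 0 1 * SL2C.mt M 1 0)) * this⟩
  left_inv M := Subtype.ext (by
    ext a b; fin_cases a <;> fin_cases b <;> simp)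
  right_inv M := Subtype.ext (by
    ext a b; fin_cases a <;> fin_cases b <;> simp)
  map_mul' M N := Subtype.ext (by
    show _ = SL2C.mt _ * SL2C.mt _
    have := Units.mul_inv ω
    ext a b
    fin_cases a <;> fin_cases b <;>
      simp [Matrix.mul_apply, Fin.sum_univ_two, mul_add, mul_comm, mul_left_comm])

theorem twist_pow (ω : Fˣ) (σ : F ≃+* F) {i : ℤ} (hσ : σ (ω : F) = ((ω ^ i : Fˣ) : F)) (l : ℕ)
    (M : SL F) :
    SL2C.mt ((twist ω σ ^ l) M) =
      !![σ^[l] (SL2C.mt M 0 0), ((ω ^ ∑ t ∈ Finset.range l, i ^ t : Fˣ) : F) * σ^[l] (SL2C.mt M 0 1);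
        ((ω ^ (-∑ t ∈ Finset.range l, i ^ t) : Fˣ) : F) * σ^[l] (SL2C.mt M 1 0),
        σ^[l] (SL2C.mt M 1 1)] := by
  induction l with
  | zero => ext a b; fin_cases a <;> fin_cases b <;> simp
  | succ l ih =>
    have hσz : ∀ e : ℤ, σ ((ω ^ e : Fˣ) : F) = ((ω ^ (i * e) : Fˣ) : F) := fun e => by
      rw [_root_.zpow_mul, Units.val_zpow_eq_zpow_val, map_zpow₀, hσ,
        Units.val_zpow_eq_zpow_val (ω ^ i)]
    rw [pow_succ', MulAut.mul_apply]
    show !![_, _; _, _] = _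
    rw [ih]
    simp only [Matrix.cons_val', Matrix.cons_val_zero, Matrix.cons_val_one, Matrix.of_apply,
      Matrix.cons_val_fin_one, map_mul, hσz, Function.iterate_succ_apply', geom_sum_succ,
      ← mul_assoc, ← Units.val_mul]
    have e1 : ω * ω ^ (i * ∑ t ∈ Finset.range l, i ^ t) =
        ω ^ (i * (∑ t ∈ Finset.range l, i ^ t) + 1) := by rw [zpow_add, zpow_one, mul_comm]
    have e2 : ω⁻¹ * ω ^ (i * -∑ t ∈ Finset.range l, i ^ t) =
        ω ^ (-(i * (∑ t ∈ Finset.range l, i ^ t) + 1)) := by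
      rw [mul_neg, neg_add, zpow_add, zpow_neg_one, mul_comm]
    rw [e1, e2]

theorem conj_diagHom (u : Fˣ) (M : SL F) :
    SL2C.mt (diagHom u * M * (diagHom u)⁻¹) =
      !![SL2C.mt M 0 0, ((u ^ (2 : ℤ) : Fˣ) : F) * SL2C.mt M 0 1;
        ((u ^ (-2 : ℤ) : Fˣ) : F) * SL2C.mt M 1 0, SL2C.mt M 1 1] := by
  rw [← map_inv, mt_mul, mt_mul, mt_diagHom, mt_diagHom, inv_inv,
    show u ^ (2 : ℤ) = u * u by rw [zpow_two], show u ^ (-2 : ℤ) = u⁻¹ * u⁻¹ by
      rw [show (-2 : ℤ) = -1 + -1 by norm_num, zpow_add, zpow_neg_one]]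
  ext a b
  fin_cases a <;> fin_cases b <;>
    simp [Matrix.mul_apply, Matrix.vecMul, dotProduct, Fin.sum_univ_two, mul_comm,
      mul_left_comm, mul_assoc]

theorem neg_one_of_orderOf {ω : Fˣ} {m : ℕ} (hm : 1 ≤ m) (hω : orderOf ω = 2 ^ m) :
    ((ω ^ 2 ^ (m - 1) : Fˣ) : F) = -1 := by
  set u := ω ^ 2 ^ (m - 1) with hu
  have hsq : (u : F) ^ 2 = 1 := by
    rw [← Units.val_pow_eq_pow_val, hu, ← pow_mul, ← pow_succ, Nat.sub_add_cancel hm, ← hω,
      pow_orderOf_eq_one, Units.val_one]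
  refine (sq_eq_one_iff.1 hsq).resolve_left fun h => ?_
  have h1 : ω ^ 2 ^ (m - 1) = 1 := Units.ext (h.trans Units.val_one.symm)
  exact pow_ne_one_of_lt_orderOf (pow_ne_zero _ (by norm_num))
    (by rw [hω]; exact Nat.pow_lt_pow_right (by norm_num) (by omega)) h1

/-- The model. -/
theorem exists_model {n m r : ℕ} {i s : ℤ} (hn : 1 ≤ n) (hm : 2 ≤ m) (hnm : n ≤ m)
    (hmn : m ≤ n + 1) (hi4 : i % 4 = 1) (hi : (2 : ℤ) ^ m ∣ i ^ 2 ^ r - 1)
    (hS : (2 : ℤ) ^ m ∣ (∑ t ∈ Finset.range (2 ^ r), i ^ t) - 2 * s)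
    (his : (2 : ℤ) ^ n ∣ (i - 1) * s) :
    ∃ (G : Type) (_ : Group G) (_ : Finite G) (c w A : G),
      c ^ 2 ^ n = 1 ∧ w ^ 2 = c ^ 2 ^ (m - 1) ∧ w * c * w⁻¹ = c⁻¹ ∧ A * c * A⁻¹ = c ^ i ∧
      A * w * A⁻¹ = c * w ∧ A ^ 2 ^ r = c ^ s ∧
      (∃ g : G, g * c ^ 2 ^ (m - 2) * g⁻¹ = w) ∧
      Function.Injective (fun x : (Fin (2 ^ n) × Fin 2) × Fin (2 ^ r) =>
        c ^ (x.1.1 : ℕ) * w ^ (x.1.2 : ℕ) * A ^ (x.2 : ℕ)) ∧
      ¬ 2 ^ (n + 2 + r) ∣ Nat.card G := by
  obtain ⟨F, instF, instFin, ω, σ, hω, hσ, hiter, hq1, hq2⟩ := exists_field hm hi4 hi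
  let d : SL F := diagHom ω
  let w0 : SL F := ⟨!![0, 1; -1, 0], by simp [Matrix.det_fin_two_of]⟩
  have hmm : 2 ^ n * 2 ^ (m - n) = 2 ^ m := by rw [← pow_add, Nat.add_sub_cancel' hnm]
  have hd : orderOf d = 2 ^ m := by
    rw [orderOf_injective diagHom (fun u v h => Units.ext (by
      simpa [mt_diagHom] using congrFun (congrFun (congrArg SL2C.mt h) 0) 0)), hω]
  have hneg := neg_one_of_orderOf (le_trans (by norm_num) hm) hω
  have h2F : (2 : F) ≠ 0 := fun h => by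
    have h1 : ω ^ 2 ^ (m - 1) = 1 := Units.ext (by
      rw [hneg, Units.val_one]; linear_combination -h)
    exact pow_ne_one_of_lt_orderOf (pow_ne_zero _ (by norm_num))
      (by rw [hω]; exact Nat.pow_lt_pow_right (by norm_num) (by omega)) h1
  -- the central subgroup
  let Z : Subgroup (SL F) := Subgroup.zpowers (d ^ 2 ^ n)
  have hcen : d ^ 2 ^ n ∈ Subgroup.center (SL F) := by
    refine Subgroup.mem_center_iff.2 fun M => ?_
    rcases (show n = m ∨ n + 1 = m by omega) with rfl | rfl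
    · rw [← hd, pow_orderOf_eq_one, mul_one, one_mul]
    · apply mt_injective
      rw [mt_mul, mt_mul, ← map_pow, mt_diagHom]
      rw [show n + 1 - 1 = n by omega] at hneg
      rw [Units.val_inv_eq_inv_val, hneg]
      ext a b
      fin_cases a <;> fin_cases b <;> simp [Matrix.mul_apply, Fin.sum_univ_two]
  haveI hZn : Z.Normal := ⟨fun z hz M => by
    have hzc : z ∈ Subgroup.center (SL F) := (Subgroup.zpowers_le.2 hcen) hz
    rwa [Subgroup.mem_center_iff.1 hzc M, mul_inv_cancel_right]⟩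
  let π := QuotientGroup.mk' Z
  have hκd : twist ω σ d = d ^ i := by
    apply mt_injective
    rw [← map_zpow, mt_diagHom]
    show !![_, _; _, _] = _
    rw [mt_diagHom]
    simp only [Matrix.cons_val', Matrix.cons_val_zero, Matrix.cons_val_one, Matrix.of_apply,
      Matrix.cons_val_fin_one, map_zero, mul_zero, hσ]
    rw [Units.val_inv_eq_inv_val, Units.val_inv_eq_inv_val, map_inv₀, hσ]
  have hdi : (d ^ 2 ^ n) ^ i = d ^ 2 ^ n := by
    rw [← zpow_natCast, ← zpow_mul]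
    refine zpow_eq_zpow_iff_modEq.2 ?_
    rw [hd]; push_cast
    refine Int.modEq_iff_dvd.2 ?_
    rw [show (2 : ℤ) ^ n - 2 ^ n * i = 2 ^ n * (1 - i) by ring]
    exact (pow_dvd_pow 2 hmn).trans (by
      rw [pow_succ]; exact mul_dvd_mul_left _ (by omega))
  have hZmap : Z.map (twist ω σ).toMonoidHom = Z := by
    rw [MonoidHom.map_zpowers]
    congr 1
    show twist ω σ (d ^ 2 ^ n) = _
    rw [map_pow, hκd]
    conv_rhs => rw [← hdi]
    rw [← zpow_natCast, ← zpow_natCast, ← zpow_mul, ← zpow_mul, mul_comm]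
  let κ : MulAut (SL F ⧸ Z) := QuotientGroup.congr Z Z (twist ω σ) hZmap
  have hκπ : ∀ M, κ (π M) = π (twist ω σ M) := fun _ => rfl
  have hκpow : ∀ (l : ℕ) M, (κ ^ l) (π M) = π ((twist ω σ ^ l) M) := by
    intro l
    induction l with
    | zero => intro M; rfl
    | succ l ih => intro M; rw [pow_succ', pow_succ', MulAut.mul_apply, MulAut.mul_apply, ih, hκπ]
  have hπd : ∀ e : ℤ, π d ^ e = 1 ↔ (2 : ℤ) ^ n ∣ e := by
    intro e
    rw [← map_zpow, QuotientGroup.mk'_apply, QuotientGroup.eq_one_iff]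
    constructor
    · intro h
      obtain ⟨l, hl⟩ := Subgroup.mem_zpowers_iff.1 h
      rw [← zpow_natCast, ← zpow_mul, zpow_eq_zpow_iff_modEq, hd] at hl
      push_cast at hl
      have h1 : (2 : ℤ) ^ n ∣ e - 2 ^ n * l :=
        (pow_dvd_pow 2 hnm).trans (Int.modEq_iff_dvd.1 hl)
      exact (dvd_sub_left (dvd_mul_right _ _)).1 h1
    · rintro ⟨l, rfl⟩
      refine Subgroup.mem_zpowers_iff.2 ⟨l, ?_⟩
      rw [← zpow_natCast, ← zpow_mul]; push_cast; rfl
  have hκN : κ ^ 2 ^ r = MulAut.conj (π d ^ s) := by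
    refine MulEquiv.ext fun y => ?_
    obtain ⟨M, rfl⟩ := QuotientGroup.mk'_surjective Z y
    rw [hκpow, MulAut.conj_apply, ← map_zpow, ← map_inv, ← map_mul, ← map_mul]
    congr 1
    apply mt_injective
    rw [twist_pow ω σ hσ, ← map_zpow, conj_diagHom, hiter, hiter, hiter, hiter]
    have e : ω ^ (∑ t ∈ Finset.range (2 ^ r), i ^ t) = (ω ^ s) ^ (2 : ℤ) := by
      rw [← zpow_mul]
      refine zpow_eq_zpow_iff_modEq.2 ?_
      rw [hω]; push_cast
      refine Int.modEq_iff_dvd.2 ?_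
      rw [mul_comm s, ← neg_sub, dvd_neg]
      exact hS
    rw [zpow_neg, e, ← zpow_neg]
  have hκx : κ (π d ^ s) = π d ^ s := by
    rw [map_zpow, hκπ, hκd, map_zpow, ← zpow_mul, ← mul_inv_eq_one, ← zpow_neg, ← zpow_add, hπd]
    rwa [show i * s + -s = (i - 1) * s by ring]
  obtain ⟨G, instG, instGf, j, A, hj, hA, hAN, hcard, huniq⟩ :=
    exists_cyclic_ext κ (pow_pos (by norm_num : 0 < 2) r) hκx hκN
  have hwd : w0 * d * w0⁻¹ = d⁻¹ := by
    rw [mul_inv_eq_iff_eq_mul]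
    apply mt_injective
    rw [mt_mul, mt_mul, ← map_inv, mt_diagHom, mt_diagHom, inv_inv]
    ext a b; fin_cases a <;> fin_cases b <;> simp [w0, Matrix.mul_apply, Fin.sum_univ_two]
  have hκw : twist ω σ w0 = d * w0 := by
    apply mt_injective
    rw [mt_mul, mt_diagHom]
    show !![_, _; _, _] = _
    ext a b; fin_cases a <;> fin_cases b <;> simp [w0, Matrix.mul_apply, Fin.sum_univ_two]
  have hw2 : w0 ^ 2 = d ^ 2 ^ (m - 1) := by
    apply mt_injective
    rw [pow_two, mt_mul, ← map_pow, mt_diagHom, Units.val_inv_eq_inv_val, hneg]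
    ext a b; fin_cases a <;> fin_cases b <;> simp [w0, Matrix.mul_apply, Fin.sum_univ_two]
  refine ⟨G, instG, instGf, j (π d), j (π w0), A, ?_, ?_, ?_, ?_, ?_, ?_, ?_, ?_, ?_⟩
  · rw [← map_pow, ← zpow_natCast, (hπd _).2 (by push_cast; rfl), map_one]
  · rw [← map_pow, ← map_pow, hw2, map_pow, map_pow]
  · rw [← map_inv, ← map_mul, ← map_mul, ← map_inv, ← map_mul, ← map_mul, hwd, map_inv, map_inv]
  · rw [hA, hκπ, hκd, map_zpow, map_zpow]
  · rw [hA, hκπ, hκw, map_mul, map_mul]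
  · rw [hAN, map_zpow]
  · -- the fusion
    let ι0 : Fˣ := ω ^ 2 ^ (m - 2)
    have hι : (ι0 : F) ^ 2 = -1 := by
      rw [← Units.val_pow_eq_pow_val, ← pow_mul, ← pow_succ,
        show m - 2 + 1 = m - 1 by omega, hneg]
    let t : F := 1 / (-2 * (ι0 : F))
    have ht : -2 * (ι0 : F) * t = 1 :=
      mul_one_div_cancel (mul_ne_zero (neg_ne_zero.2 h2F) ι0.ne_zero)
    let M : SL F := ⟨!![1, t; (ι0 : F), -((ι0 : F) * t)], by
      rw [Matrix.det_fin_two_of]; linear_combination ht⟩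
    have hM : M * d ^ 2 ^ (m - 2) * M⁻¹ = w0 := by
      rw [mul_inv_eq_iff_eq_mul]
      apply mt_injective
      rw [mt_mul, mt_mul, show d ^ 2 ^ (m - 2) = diagHom ι0 from (map_pow diagHom ω _).symm,
        mt_diagHom, Units.val_inv_eq_inv_val,
        show (ι0 : F)⁻¹ = -(ι0 : F) from
          inv_eq_of_mul_eq_one_right (by linear_combination -hι)]
      ext a b
      fin_cases a <;> fin_cases b <;> simp [w0, M, -Units.val_pow_eq_pow_val, Matrix.mul_apply,
        Fin.sum_univ_two]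
      all_goals first
        | ring1
        | linear_combination hι
        | linear_combination t * hι
        | linear_combination (-t) * hι
    refine ⟨j (π M), ?_⟩
    rw [← map_pow, ← map_pow, ← map_inv, ← map_inv, ← map_mul, ← map_mul, ← map_mul, ← map_mul,
      hM]
  · rintro ⟨⟨u, v⟩, t⟩ ⟨⟨u', v'⟩, t'⟩ h
    simp only [← map_pow, ← map_mul] at h
    obtain ⟨h1, h2⟩ := huniq _ _ _ _ t.isLt t'.isLt h
    rw [QuotientGroup.mk'_apply, QuotientGroup.mk'_apply, QuotientGroup.eq] at h1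
    obtain ⟨l, hl⟩ := Subgroup.mem_zpowers_iff.1 h1
    have hdiag : ∃ e : ℤ, w0 ^ (v : ℕ) = d ^ e * w0 ^ (v' : ℕ) := by
      refine ⟨-(u : ℤ) + u' - 2 ^ n * l, ?_⟩
      have h3 : (d ^ (u : ℕ) * w0 ^ (v : ℕ)) = (d ^ (u' : ℕ) * w0 ^ (v' : ℕ)) *
          ((d ^ 2 ^ n) ^ l)⁻¹ := by
        rw [hl]; group
      rw [← inv_zpow, Subgroup.mem_center_iff.1
        (zpow_mem (inv_mem hcen) l) (d ^ (u' : ℕ) * w0 ^ (v' : ℕ))] at h3
      rw [eq_inv_mul_iff_mul_eq.2 h3, inv_zpow, ← zpow_natCast d (2 ^ n), ← zpow_mul, ← zpow_neg,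
        ← zpow_natCast d (u' : ℕ), ← zpow_natCast d (u : ℕ), ← zpow_neg]
      simp only [← mul_assoc, ← zpow_add]
      push_cast
      congr 2
      ring
    have hv : v = v' := by
      obtain ⟨e, he⟩ := hdiag
      have h00 := congrFun (congrFun (congrArg SL2C.mt he) 0) 0
      rw [mt_mul, ← map_zpow, mt_diagHom] at h00
      have hv2 := v.isLt
      have hv2' := v'.isLt
      refine Fin.ext ?_
      rcases (show (v : ℕ) = 0 ∨ (v : ℕ) = 1 by omega) with h0 | h0 <;>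
        rcases (show (v' : ℕ) = 0 ∨ (v' : ℕ) = 1 by omega) with h0' | h0' <;>
        first
        | omega
        | (rw [h0, h0', pow_zero, pow_one, SL2C.mt_one] at h00
           simp [w0, Matrix.mul_apply, Fin.sum_univ_two, eq_comm, zpow_ne_zero e ω.ne_zero] at h00)
    subst hv
    rw [mul_inv_rev, mul_assoc] at hl
    have h4 : (w0 ^ (v : ℕ))⁻¹ * ((d ^ (u : ℕ))⁻¹ * d ^ (u' : ℕ)) * w0 ^ (v : ℕ) = (d ^ 2 ^ n) ^ l := by
      rw [hl]; group
    have h5 : (d ^ (u : ℕ))⁻¹ * d ^ (u' : ℕ) ∈ Z := by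
      have h6 := hZn.conj_mem _ (Subgroup.zpow_mem_zpowers (d ^ 2 ^ n) l) (w0 ^ (v : ℕ))
      rw [← h4] at h6
      convert h6 using 1
      group
    rw [← QuotientGroup.eq_one_iff, ← QuotientGroup.mk'_apply, map_mul, map_inv, map_pow, map_pow,
      ← zpow_natCast, ← zpow_natCast, ← zpow_neg, ← zpow_add, hπd] at h5
    have h7 : (u : ℕ) = u' := by
      have hu := u.isLt
      have hu' := u'.isLt
      obtain ⟨e, he⟩ := h5
      have hn' : ((2 ^ n : ℕ) : ℤ) = 2 ^ n := by push_cast; rfl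
      have h8 : Nat.ModEq (2 ^ n) u u' := by
        rw [← Int.natCast_modEq_iff, Int.modEq_iff_dvd, hn']
        exact ⟨e, by linarith⟩
      exact h8.eq_of_lt_of_lt hu hu'
    exact Prod.ext (Prod.ext (Fin.ext h7) rfl) (Fin.ext h2)
  · intro h
    rw [hcard] at h
    have hZc : Nat.card Z = 2 ^ (m - n) := by
      rw [Nat.card_zpowers, orderOf_pow, hd, ← hmm, Nat.gcd_eq_right (dvd_mul_right _ _),
        Nat.mul_div_cancel_left _ (by positivity)]
    have hSL := Subgroup.card_eq_card_quotient_mul_card_subgroup Z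
    rw [hZc, card_SL2_mul] at hSL
    have h' : 2 ^ (n + 2) ∣ Nat.card (SL F ⧸ Z) :=
      Nat.dvd_of_mul_dvd_mul_right (pow_pos (Nat.succ_pos 1) r) (by rwa [← pow_add])
    have h'' : 2 ^ (m + 2) ∣ Fintype.card F * (Fintype.card F ^ 2 - 1) := by
      rw [hSL, show m + 2 = (n + 2) + (m - n) by omega, pow_add]
      exact mul_dvd_mul_right h' _
    have h4 : 4 ∣ Fintype.card F - 1 := (pow_dvd_pow 2 hm).trans hq1
    have hq0 : 1 ≤ Fintype.card F := Fintype.card_pos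
    set q := Fintype.card F
    obtain ⟨o, ho⟩ : ∃ o, q + 1 = 2 * o := ⟨(q + 1) / 2, by omega⟩
    have e : q * (q ^ 2 - 1) = (q - 1) * 2 * (q * o) := by
      rw [show q ^ 2 - 1 = (q + 1) * (q - 1) from Nat.sq_sub_sq q 1, ho]
      ring
    rw [e] at h''
    have hodd : Nat.Coprime (2 ^ (m + 2)) (q * o) := Nat.Coprime.pow_left _
      ((Nat.prime_two.coprime_iff_not_dvd).2 fun hd' => by
        rcases (Nat.Prime.dvd_mul Nat.prime_two).1 hd' with h1 | h1 <;> omega)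
    have := hodd.dvd_of_dvd_mul_right h''
    rw [pow_succ] at this
    exact hq2 (Nat.dvd_of_mul_dvd_mul_right (by norm_num) this)

end CfsgLib.Bicyclic
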