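import Cfsg.Agent.Bicyclic.Relations
import Cfsg.Agent.Bicyclic.Model
import Cfsg.Agent.Fusion.Realized
import Cfsg.Agent.Fusion.Sparse

/-!
A bicyclic non-metacyclic 2-group with cyclic derived subgroup carries a non-inner saturated
system.
-/

set_option autoImplicit false
set_option linter.unusedSectionVars false
set_option linter.style.haveILetI false

open Cfsg Cfsg.FusionSystem CfsgLib.Fusion
open scoped commutatorElement Pointwise

namespace CfsgLib.Bicyclic

universe u v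

/-- Extending by a cyclic group. -/
theorem card_sup_zpowers_le {W : Type v} [Group W] [Finite W] {N : Subgroup W} {g : W}
    (hg : g ∈ Subgroup.normalizer (N : Set W)) {k : ℕ} (hk : 0 < k) (hgk : g ^ k ∈ N) :
    Nat.card ↥(N ⊔ Subgroup.zpowers g) ≤ Nat.card N * k := by
  let f : N × Fin k → ↥(N ⊔ Subgroup.zpowers g) := fun p =>
    ⟨(p.1 : W) * g ^ (p.2 : ℕ), Subgroup.mul_mem_sup p.1.2 (pow_mem (Subgroup.mem_zpowers g) _)⟩
  have hf : Function.Surjective f := by
    rintro ⟨y, hy⟩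
    have hy' : y ∈ (N : Set W) * (Subgroup.zpowers g : Set W) := by
      rw [← Subgroup.coe_mul_of_right_le_normalizer_left N _ (Subgroup.zpowers_le.2 hg)]
      exact hy
    obtain ⟨x, hx, z, hz, rfl⟩ := Set.mem_mul.1 hy'
    obtain ⟨e, rfl⟩ := Subgroup.mem_zpowers_iff.1 hz
    have hnn := Int.emod_nonneg e (show (k : ℤ) ≠ 0 by omega)
    refine ⟨(⟨x * (g ^ k) ^ (e / k), mul_mem hx (zpow_mem hgk _)⟩,
      ⟨(e % k).toNat, by have := Int.emod_lt_of_pos e (show (0 : ℤ) < k by omega); omega⟩),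
      Subtype.ext ?_⟩
    show x * (g ^ k) ^ (e / k) * g ^ (e % k).toNat = x * g ^ e
    rw [← zpow_natCast g k, ← zpow_mul, ← zpow_natCast g (e % k).toNat, Int.toNat_of_nonneg hnn,
      mul_assoc, ← zpow_add, Int.mul_ediv_add_emod]
  have := Nat.card_le_card_of_surjective f hf
  rwa [Nat.card_prod, Nat.card_eq_fintype_card (α := Fin k), Fintype.card_fin] at this

/-- The relations bound the order. -/
theorem card_le_of_rel {W : Type v} [Group W] [Finite W] {A B C : W} {n r e : ℕ} {i s : ℤ}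
    (hC : C ^ 2 ^ n = 1) (hAC : A * C * A⁻¹ = C ^ i) (hBC : B * C * B⁻¹ = C⁻¹)
    (hAB : A * B * A⁻¹ = C * B) (hB2 : B ^ 2 = C ^ e) (hA : A ^ 2 ^ r = C ^ s) :
    Nat.card ↥(Subgroup.closure ({A, B} : Set W)) ≤ 2 ^ (n + 1 + r) := by
  let Z := Subgroup.zpowers C
  have h1 : Nat.card Z ≤ 2 ^ n := by
    rw [Nat.card_zpowers]
    exact Nat.le_of_dvd (pow_pos (by norm_num) n) (orderOf_dvd_of_pow_eq_one hC)
  have hBZ : B ∈ Subgroup.normalizer (Z : Set W) := mem_normalizer_of_conj fun x hx => by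
    obtain ⟨l, rfl⟩ := Subgroup.mem_zpowers_iff.1 hx
    rw [← conj_zpow, hBC]; exact zpow_mem (inv_mem (Subgroup.mem_zpowers C)) l
  have h2 : Nat.card ↥(Z ⊔ Subgroup.zpowers B) ≤ 2 ^ n * 2 :=
    (card_sup_zpowers_le hBZ (by norm_num)
      (show B ^ 2 ∈ Z by rw [hB2]; exact pow_mem (Subgroup.mem_zpowers C) e)).trans
      (Nat.mul_le_mul_right _ h1)
  have hAN : A ∈ Subgroup.normalizer ((Z ⊔ Subgroup.zpowers B : Subgroup W) : Set W) :=
    mem_normalizer_of_conj fun x hx => by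
      have hle : Z ⊔ Subgroup.zpowers B ≤
          (Z ⊔ Subgroup.zpowers B).comap (MulAut.conj A).toMonoidHom := by
        refine sup_le (Subgroup.zpowers_le.2 ?_) (Subgroup.zpowers_le.2 ?_)
        · show A * C * A⁻¹ ∈ Z ⊔ Subgroup.zpowers B
          rw [hAC]
          exact Subgroup.mem_sup_left (zpow_mem (Subgroup.mem_zpowers C) i)
        · show A * B * A⁻¹ ∈ Z ⊔ Subgroup.zpowers B
          rw [hAB]
          exact Subgroup.mul_mem_sup (Subgroup.mem_zpowers C) (Subgroup.mem_zpowers B)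
      exact hle hx
  have h3 := card_sup_zpowers_le hAN (pow_pos (by norm_num : 0 < 2) r)
    (show A ^ 2 ^ r ∈ _ by
      rw [hA]; exact Subgroup.mem_sup_left (zpow_mem (Subgroup.mem_zpowers C) s))
  refine (Nat.le_of_dvd Nat.card_pos (Subgroup.card_dvd_of_le ((Subgroup.closure_le _).2 ?_))).trans
    (h3.trans ?_)
  · rintro x (rfl | rfl)
    · exact Subgroup.mem_sup_right (Subgroup.mem_zpowers x)
    · exact Subgroup.mem_sup_left (Subgroup.mem_sup_right (Subgroup.mem_zpowers x))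
  · rw [pow_add, pow_add, pow_one]
    exact Nat.mul_le_mul_right _ h2

/-- The embedding of `S` as a Sylow subgroup of the model, and the fused elements. -/
theorem exists_embedding {X : Type u} [Group X] [Finite X] (hX : IsPGroup 2 X) (R : Rel X) :
    ∃ (G : Type) (_ : Group G) (_ : Finite G) (ι : X →* G), Function.Injective ι ∧
      (∃ T : Sylow 2 G, (T : Subgroup G) = ι.range) ∧
      ∃ g : G, g * ι (R.c ^ 2 ^ (R.m - 2)) * g⁻¹ = ι R.b := by
  haveI : Fact (Nat.Prime 2) := ⟨Nat.prime_two⟩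
  obtain ⟨G, instG, instGf, c, w, A, hc, hw, hwc, hAc, hAw, hA, ⟨g, hg⟩, hinj, hodd⟩ :=
    exists_model R.one_le R.two_le R.n_le R.le_n R.four R.ipow R.sum R.fix_
  let P : Subgroup (X × G) := Subgroup.closure {(R.a, A), (R.b, w)}
  have hP : Nat.card P ≤ 2 ^ (R.n + 1 + R.r) := by
    refine card_le_of_rel (C := (R.c, c)) (e := 2 ^ (R.m - 1)) (i := R.i) (s := R.s) ?_ ?_ ?_ ?_ ?_ ?_
    · exact Prod.ext (by show R.c ^ _ = 1; rw [← R.ord, pow_orderOf_eq_one]) hc
    · exact Prod.ext R.ac hAc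
    · exact Prod.ext R.bc hwc
    · exact Prod.ext R.ab hAw
    · exact Prod.ext R.bsq hw
    · exact Prod.ext R.apow hA
  have hfst : Function.Surjective ((MonoidHom.fst X G).comp P.subtype) := by
    rw [← MonoidHom.range_eq_top, MonoidHom.range_comp, Subgroup.range_subtype,
      MonoidHom.map_closure, Set.image_pair]
    exact R.gen
  have hbij : Function.Bijective ((MonoidHom.fst X G).comp P.subtype) :=
    hfst.bijective_of_nat_card_le (hP.trans R.card)
  let e : P ≃* X := MulEquiv.ofBijective _ hbij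
  let ι : X →* G := ((MonoidHom.snd X G).comp P.subtype).comp e.symm.toMonoidHom
  have hι : ∀ (x : X) (y : G), (x, y) ∈ P → ι x = y := fun x y h => by
    have h1 : e ⟨(x, y), h⟩ = x := rfl
    show ((e.symm x : P) : X × G).2 = y
    rw [← h1, MulEquiv.symm_apply_apply]
  have hιa : ι R.a = A := hι _ _ (Subgroup.subset_closure (Set.mem_insert _ _))
  have hιb : ι R.b = w := hι _ _ (Subgroup.subset_closure (Set.mem_insert_of_mem _ rfl))
  have hιc : ι R.c = c := by
    have h1 : R.c = R.a * R.b * R.a⁻¹ * R.b⁻¹ := by rw [R.ab]; group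
    rw [h1, map_mul, map_mul, map_mul, map_inv, map_inv, hιa, hιb, hAw]
    group
  haveI : NeZero (2 ^ R.r) := ⟨pow_ne_zero _ (by norm_num)⟩
  have hXle : Nat.card X ≤ 2 ^ (R.n + 1 + R.r) :=
    (Nat.card_le_card_of_surjective _ hfst).trans hP
  have hTle : 2 ^ (R.n + 1 + R.r) ≤ Nat.card ι.range := by
    let f : (Fin (2 ^ R.n) × Fin 2) × Fin (2 ^ R.r) → ι.range := fun x =>
      ⟨c ^ (x.1.1 : ℕ) * w ^ (x.1.2 : ℕ) * A ^ (x.2 : ℕ),
        R.c ^ (x.1.1 : ℕ) * R.b ^ (x.1.2 : ℕ) * R.a ^ (x.2 : ℕ),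
        by rw [map_mul, map_mul, map_pow, map_pow, map_pow, hιa, hιb, hιc]⟩
    have := Nat.card_le_card_of_injective f fun x y h => hinj (congrArg Subtype.val h)
    simpa [pow_add, pow_one, Nat.card_prod] using this
  have hιinj : Function.Injective ι := by
    have h1 := (ι.rangeRestrict_surjective).bijective_of_nat_card_le (hXle.trans hTle)
    exact fun x y h => h1.1 (Subtype.ext h)
  have hTc : Nat.card ι.range = 2 ^ (R.n + 1 + R.r) :=
    le_antisymm ((Nat.card_le_card_of_surjective _ ι.rangeRestrict_surjective).trans hXle) hTle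
  have hidx : ¬ 2 ∣ ι.range.index := by
    intro h
    refine hodd ?_
    rw [show R.n + 2 + R.r = (R.n + 1 + R.r) + 1 by omega, pow_succ, ← ι.range.card_mul_index, hTc]
    exact mul_dvd_mul_left _ h
  refine ⟨G, instG, instGf, ι, hιinj, ⟨(IsPGroup.of_card hTc).toSylow hidx, rfl⟩, g, ?_⟩
  rw [map_pow, hιc, hg, hιb]

/-- The converse. -/
theorem exists_noninner {Ω : Type u} [Group Ω] {S : Subgroup Ω} [Finite S] (hS : IsPGroup 2 S)
    (hb : IsBicyclic ↥S) (hm : ¬ Cfsg.IsMetacyclic ↥S) (hcyc : IsCyclic ↥(commutator ↥S)) :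
    ∃ F : FusionSystem S, F.IsSaturated 2 ∧
      ¬ ∀ P : Subgroup Ω, F.Hom P = (innerFusionSystem S).Hom P := by
  haveI : Fact (Nat.Prime 2) := ⟨Nat.prime_two⟩
  obtain ⟨R⟩ := exists_rel hS hb hm hcyc
  obtain ⟨G, instG, instGf, ι, hι, ⟨T, hT⟩, g, hg⟩ := exists_embedding hS R
  let F : FusionSystem S := pullSystem ι hι ⊤ le_rfl le_top
  have hr : F.IsRealizedBy ι := by
    refine ⟨hι, fun P hP φ hφ => ⟨fun h => ?_, fun ⟨g, hg⟩ => ?_⟩⟩
    · obtain ⟨-, -, g, -, hg⟩ := h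
      exact ⟨g, fun x => hg x (hP x.2) (hφ x)⟩
    · exact ⟨hP, hφ, g, Subgroup.mem_top g, fun x _ _ => hg x⟩
  refine ⟨F, saturated_of_realized 2 hS hr T hT, fun hall => ?_⟩
  obtain ⟨u, hu⟩ : ∃ u : S, u = R.c ^ 2 ^ (R.m - 2) := ⟨_, rfl⟩
  rw [← hu] at hg
  have hP : Subgroup.zpowers (u : Ω) ≤ S := Subgroup.zpowers_le.2 u.2
  obtain ⟨φ, hφ, hφι⟩ := exists_realized_hom hr hP (g := g) fun x => by
    obtain ⟨l, hl⟩ := Subgroup.mem_zpowers_iff.1 x.2
    rw [show (⟨x, hP x.2⟩ : S) = u ^ l from Subtype.ext (by rw [Subgroup.coe_zpow]; exact hl.symm),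
      map_zpow, ← conj_zpow, hg]
    exact zpow_mem (show ι R.b ∈ ι.range from ⟨R.b, rfl⟩) l
  obtain ⟨-, s, hs, hφs⟩ := (hall _) ▸ hφ
  have h1 : (⟨φ ⟨(u : Ω), Subgroup.mem_zpowers _⟩, apply_mem_S hφ _⟩ : S) = R.b :=
    hι ((hφι _).trans hg)
  have h2 : R.b = ⟨s, hs⟩ * u * (⟨s, hs⟩ : S)⁻¹ := by
    rw [← h1]; exact Subtype.ext (hφs _)
  -- `b` lies outside the Frattini subgroup
  have hbΦ : R.b ∉ frattini ↥S := by
    intro h
    have htop : Subgroup.zpowers R.a = ⊤ := frattini_nongenerating (top_le_iff.1 (R.gen.ge.trans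
      ((Subgroup.closure_le _).2 (by
        rintro x (rfl | rfl)
        · exact Subgroup.mem_sup_left (Subgroup.mem_zpowers _)
        · exact Subgroup.mem_sup_right h))))
    obtain ⟨l, hl⟩ := Subgroup.mem_zpowers_iff.1 (htop.ge (Subgroup.mem_top R.b))
    have h3 : R.c = 1 := by
      have h4 := R.ab
      rw [← hl, ← conj_zpow, mul_inv_cancel_right] at h4
      exact right_eq_mul.1 h4
    have h5 := R.ord
    rw [h3, orderOf_one] at h5
    exact absurd h5.symm (Nat.one_lt_pow (Nat.one_le_iff_ne_zero.1 R.one_le) one_lt_two).ne'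
  refine hbΦ (h2 ▸ (inferInstance : (frattini ↥S).Normal).conj_mem u ?_ _)
  rw [hu]
  refine pow_mem (commutator_le_frattini hS ?_) _
  have hc : R.c = ⁅R.a, R.b⁆ := by rw [commutatorElement_def, R.ab]; group
  rw [hc]
  exact comm_mem_commutator _ _

end CfsgLib.Bicyclic
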