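import Cfsg.Agent.Bicyclic.Frattini

/-!
The derived subgroup is cyclic when a generating involution outside the Frattini subgroup has a
small centralizer.
-/

set_option autoImplicit false
set_option linter.unusedSectionVars false
set_option linter.style.haveILetI false

open scoped commutatorElement

namespace CfsgLib.Bicyclic

open Subgroup

universe u v

variable {X : Type u} [Group X] [Finite X]

/-- An element conjugating a subgroup into itself normalizes it. -/
theorem mem_normalizer_of_conj {H : Subgroup X} {g : X} (h : ∀ x ∈ H, g * x * g⁻¹ ∈ H) :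
    g ∈ normalizer (H : Set X) := by
  have heq : H.map (MulAut.conj g).toMonoidHom = H := by
    refine Subgroup.eq_of_le_of_card_ge ?_ (ge_of_eq ?_)
    · rintro _ ⟨x, hx, rfl⟩; exact h x hx
    · exact Nat.card_congr
        (H.equivMapOfInjective _ (MulAut.conj g).injective).symm.toEquiv
  refine Subgroup.mem_normalizer_iff.2 fun x => ⟨fun hx => h x hx, fun hx => ?_⟩
  obtain ⟨y, hy, e⟩ := heq.ge hx
  rwa [← (MulAut.conj g).injective e]

/-- A subgroup stable under conjugation by generators is normal. -/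
theorem normal_of_gens {s t : Set X} (hs : closure s = ⊤)
    (h : ∀ g ∈ s, ∀ x ∈ t, g * x * g⁻¹ ∈ closure t) : (closure t).Normal := by
  rw [← normalizer_eq_top_iff, ← top_le_iff, ← hs, closure_le]
  intro g hg
  refine mem_normalizer_of_conj fun x hx => ?_
  exact (closure_le ((closure t).comap (MulAut.conj g).toMonoidHom)).2 (fun y hy => h g hg y hy) hx

theorem map_frattini_eq {Y : Type v} [Group Y] [Finite Y] (hX : IsPGroup 2 X) (f : X →* Y)
    (hf : Function.Surjective f) : (frattini X).map f = frattini Y := by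
  rw [frattini_eq_closure_sq hX, frattini_eq_closure_sq (hX.of_surjective f hf),
    MonoidHom.map_closure]
  congr 1
  ext y
  constructor
  · rintro ⟨_, ⟨x, rfl⟩, rfl⟩; exact ⟨f x, (map_pow f x 2).symm⟩
  · rintro ⟨w, rfl⟩
    obtain ⟨x, rfl⟩ := hf w
    exact ⟨x ^ 2, ⟨x, rfl⟩, map_pow f x 2⟩

theorem metacyclic_frattini_map {Y : Type v} [Group Y] [Finite Y] (hX : IsPGroup 2 X) (f : X →* Y)
    (hf : Function.Surjective f) (h : Cfsg.IsMetacyclic ↥(frattini X)) :
    Cfsg.IsMetacyclic ↥(frattini Y) := by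
  refine isMetacyclic_of_surjective ((f.comp (frattini X).subtype).codRestrict (frattini Y)
    fun x => (map_frattini_eq hX f hf).le ⟨x, x.2, rfl⟩) ?_ h
  rintro ⟨y, hy⟩
  obtain ⟨x, hx, rfl⟩ := (map_frattini_eq hX f hf).ge hy
  exact ⟨⟨x, hx⟩, rfl⟩

/-- `[s, b]` is inverted by the involution `b`. -/
theorem conj_comm_eq_inv {b : X} (hb : b * b = 1) (s : X) :
    b * (s * b * s⁻¹ * b) * b⁻¹ = (s * b * s⁻¹ * b)⁻¹ := by
  have hb' : b⁻¹ = b := inv_eq_of_mul_eq_one_right hb
  simp only [mul_inv_rev, inv_inv, hb', mul_assoc, hb, mul_one]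

/-- The derived subgroup is generated by `[a, b]` and its conjugate by `a`. -/
theorem commutator_pair (hX : IsPGroup 2 X) (hΦ : Cfsg.IsMetacyclic ↥(frattini X)) {a b c e : X}
    (hgen : closure ({a, b} : Set X) = ⊤) (hb : b * b = 1) (hc : a * b * a⁻¹ * b = c)
    (he : a * c * a⁻¹ = e) :
    commutator X ≤ closure {c, e} ∧
      (a * e * a⁻¹)⁻¹ * c ∈ (frattini ↥(commutator X)).map (commutator X).subtype := by
  have hb' : b⁻¹ = b := inv_eq_of_mul_eq_one_right hb
  let D := commutator X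
  let Q := (frattini D).map D.subtype
  haveI hQn : Q.Normal := inferInstance
  have hcD : c ∈ D := by
    have h1 := comm_mem_commutator a b
    rwa [commutatorElement_def, hb', hc] at h1
  have hDn : D.Normal := inferInstance
  have heD : e ∈ D := he ▸ hDn.conj_mem c hcD a
  let π := QuotientGroup.mk' Q
  let V := D.map π
  haveI hVn : V.Normal := hDn.map π (QuotientGroup.mk'_surjective Q)
  -- the quotient of `D` has order at most four
  have hV : Nat.card V ≤ 4 := by
    obtain ⟨p, hp, q, hq, hpq⟩ := Cfsg.Agent.S4419.two_generated hΦ (D.subgroupOf (frattini X))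
    rw [mem_subgroupOf] at hp hq
    have hgD : closure ({⟨(p : X), hp⟩, ⟨(q : X), hq⟩} : Set D) = ⊤ := by
      refine eq_top_iff.2 fun x _ => ?_
      have h1 := hpq (show (⟨x, commutator_le_frattini hX x.2⟩ : ↥(frattini X)) ∈
        D.subgroupOf _ from x.2)
      have h2 : (x : X) ∈ (closure ({p, q} : Set ↥(frattini X))).map (frattini X).subtype :=
        ⟨_, h1, rfl⟩
      rw [MonoidHom.map_closure, Set.image_pair] at h2
      have h3 : (x : X) ∈
          (closure ({⟨(p : X), hp⟩, ⟨(q : X), hq⟩} : Set D)).map D.subtype := by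
        rw [MonoidHom.map_closure, Set.image_pair]; exact h2
      obtain ⟨x', hx', hxx⟩ := h3
      rwa [← show x' = x from Subtype.ext hxx]
    haveI : Fact (Nat.Prime 2) := ⟨Nat.prime_two⟩
    obtain ⟨r, hr, hidx⟩ := Cfsg.Agent.S4419.frattini_index_le (p := 2) (hX.to_subgroup D) hgD
    let f : D →* V := (π.comp D.subtype).codRestrict V fun x => ⟨x, x.2, rfl⟩
    have hf : Function.Surjective f := by
      rintro ⟨_, x, hx, rfl⟩
      exact ⟨⟨x, hx⟩, rfl⟩
    have hker : frattini D ≤ f.ker := fun x hx => by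
      refine Subtype.ext ((QuotientGroup.eq_one_iff _).2 ?_)
      exact ⟨x, hx, rfl⟩
    calc Nat.card V = f.ker.index := by
          rw [Subgroup.index_ker, MonoidHom.range_eq_top.2 hf, Subgroup.card_top]
      _ ≤ (frattini D).index := Nat.le_of_dvd
          (Nat.pos_of_ne_zero Subgroup.index_ne_zero_of_finite) (Subgroup.index_dvd_of_le hker)
      _ ≤ 4 := by
          rw [hidx]
          calc 2 ^ r ≤ 2 ^ 2 := Nat.pow_le_pow_right (by norm_num) hr
            _ = 4 := rfl
  have hQX : IsPGroup 2 (X ⧸ Q) := hX.to_quotient Q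
  have hVcomm : ∀ v ∈ V, ∀ w ∈ V, Commute v w := by
    rintro _ ⟨v, hv, rfl⟩ w hw
    refine commute_of_small_normal hQX hV ?_ hw
    rw [← map_frattini_eq hX π (QuotientGroup.mk'_surjective Q)]
    exact ⟨v, commutator_le_frattini hX hv, rfl⟩
  have hVsq : ∀ v ∈ D, π v * π v = 1 := fun v hv => by
    rw [← map_mul]
    refine (QuotientGroup.eq_one_iff _).2 ⟨⟨v, hv⟩ * ⟨v, hv⟩, ?_, rfl⟩
    rw [← pow_two]
    exact sq_mem_frattini (hX.to_subgroup D) _
  -- `a²` fixes `π c`
  have ha2 : π (a * e * a⁻¹) = π c := by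
    have h1 : Commute (π (a * a)) (π c) := by
      refine commute_of_small_normal hQX hV ?_ ⟨c, hcD, rfl⟩
      rw [← map_frattini_eq hX π (QuotientGroup.mk'_surjective Q), ← pow_two]
      exact ⟨a ^ 2, sq_mem_frattini hX a, rfl⟩
    rw [← he, show a * (a * c * a⁻¹) * a⁻¹ = a * a * c * (a * a)⁻¹ by group, map_mul, map_mul,
      map_inv, h1.eq, mul_inv_cancel_right]
  refine ⟨?_, ?_⟩
  swap
  · exact QuotientGroup.eq.1 ha2
  -- `⟨π c, π e⟩` is normal
  have hbc : π b * π c * (π b)⁻¹ = π c := by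
    rw [← map_inv, ← map_mul, ← map_mul, ← hc, conj_comm_eq_inv hb a, map_inv, hc]
    exact inv_eq_of_mul_eq_one_right (hVsq c hcD)
  have hbe : π b * π e * (π b)⁻¹ = π e := by
    have hec : e * c = (a * a) * b * (a * a)⁻¹ * b := by
      rw [← he, ← hc]
      simp only [mul_assoc, mul_inv_rev]
      rw [inv_mul_cancel_left, ← mul_assoc b b, hb, one_mul]
    have h1 : π b * π (e * c) * (π b)⁻¹ = π (e * c) := by
      rw [hec, ← map_inv, ← map_mul, ← map_mul, conj_comm_eq_inv hb, map_inv, ← hec]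
      exact inv_eq_of_mul_eq_one_right (hVsq _ (mul_mem heD hcD))
    rw [map_mul, show π b * (π e * π c) * (π b)⁻¹ = π b * π e * (π b)⁻¹ * (π b * π c * (π b)⁻¹) by
      group, hbc] at h1
    exact mul_right_cancel h1
  have hgenQ : closure ({π a, π b} : Set (X ⧸ Q)) = ⊤ := by
    rw [← Set.image_pair, ← MonoidHom.map_closure, hgen,
      map_top_of_surjective π (QuotientGroup.mk'_surjective Q)]
  haveI hW : (closure ({π c, π e} : Set (X ⧸ Q))).Normal := by
    refine normal_of_gens hgenQ ?_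
    rintro g (rfl | rfl) x (rfl | rfl)
    · rw [← map_inv, ← map_mul, ← map_mul, he]
      exact Subgroup.subset_closure (by simp)
    · rw [← map_inv, ← map_mul, ← map_mul, ha2]
      exact Subgroup.subset_closure (by simp)
    · rw [hbc]; exact Subgroup.subset_closure (by simp)
    · rw [hbe]; exact Subgroup.subset_closure (by simp)
  have hle : commutator X ≤ (closure ({π c, π e} : Set (X ⧸ Q))).comap π := by
    refine commutator_le_of_pair hgen _ ?_
    rw [mem_comap, commutatorElement_def, hb', hc]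
    exact Subgroup.subset_closure (by simp)
  have htop : closure ({⟨c, hcD⟩, ⟨e, heD⟩} : Set D) = ⊤ := by
    refine frattini_nongenerating (eq_top_iff.2 fun x _ => ?_)
    have hx : π (x : X) ∈ (closure ({c, e} : Set X)).map π := by
      rw [MonoidHom.map_closure, Set.image_pair]
      exact hle x.2
    obtain ⟨y, hy, hyx⟩ := hx
    obtain ⟨y', hy', rfl⟩ :
        y ∈ (closure ({⟨c, hcD⟩, ⟨e, heD⟩} : Set D)).map D.subtype := by
      rw [MonoidHom.map_closure, Set.image_pair]; exact hy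
    obtain ⟨w, hw, hwx⟩ := QuotientGroup.eq.1 hyx
    rw [show x = y' * w from Subtype.ext (by
      rw [Subgroup.coe_mul, show (w : X) = _ from hwx, coe_subtype, mul_inv_cancel_left])]
    exact Subgroup.mul_mem_sup hy' hw
  intro x hx
  have h1 : (⟨x, hx⟩ : D) ∈ closure ({⟨c, hcD⟩, ⟨e, heD⟩} : Set D) := htop.ge (mem_top _)
  have h2 : (x : X) ∈ (closure ({⟨c, hcD⟩, ⟨e, heD⟩} : Set D)).map D.subtype := ⟨_, h1, rfl⟩
  rw [MonoidHom.map_closure, Set.image_pair] at h2
  exact h2

theorem derived_comm_aux : ∀ (n : ℕ) (X : Type u) [Group X] [Finite X], Nat.card X ≤ n →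
    IsPGroup 2 X → Cfsg.IsMetacyclic ↥(frattini X) → ∀ a b : X,
      closure ({a, b} : Set X) = ⊤ → b * b = 1 →
        ∀ u ∈ commutator X, ∀ v ∈ commutator X, Commute u v := by
  intro n
  induction n with
  | zero => intro X _ _ h; exact absurd h (by have := Nat.card_pos (α := X); omega)
  | succ n ih =>
  intro X _ _ hcard hX hΦ a b hgen hb
  by_contra hne
  push Not at hne
  obtain ⟨u₀, hu₀, v₀, hv₀, huv⟩ := hne
  have hne : ⁅commutator X, commutator X⁆ ≠ ⊥ := fun h => huv
    (commutatorElement_eq_one_iff_mul_comm.1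
      (mem_bot.1 (h ▸ commutator_mem_commutator hu₀ hv₀)))
  haveI := hX.isNilpotent
  obtain ⟨z, hz, hz1⟩ := (bot_or_exists_ne_one _).resolve_left
    (CfsgLib.PGroupBasic.inf_center_ne_bot ⁅commutator X, commutator X⁆ hne)
  obtain ⟨z, hzD, hzc, hzo⟩ : ∃ z ∈ commutator X, z ∈ center X ∧ orderOf z = 2 := by
    obtain ⟨m, hm⟩ := IsPGroup.iff_orderOf.1 hX z
    have hm0 : m ≠ 0 := by
      rintro rfl
      exact hz1 (orderOf_eq_one_iff.1 hm)
    refine ⟨z ^ 2 ^ (m - 1), pow_mem (Subgroup.commutator_le_self _ hz.1) _, pow_mem hz.2 _, ?_⟩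
    rw [orderOf_pow' _ (by positivity), hm, Nat.gcd_eq_right (pow_dvd_pow 2 (by omega)),
      Nat.pow_div (by omega) (by norm_num), show m - (m - 1) = 1 by omega, pow_one]
  have hcz : ∀ x, Commute z x := fun x => (mem_center_iff.1 hzc x).symm
  haveI hZn : (zpowers z).Normal := ⟨fun w hw g => by
    obtain ⟨j, rfl⟩ := mem_zpowers_iff.1 hw
    rw [← (((hcz g).zpow_left j)).eq, mul_inv_cancel_right]
    exact zpow_mem (mem_zpowers z) j⟩
  let π := QuotientGroup.mk' (zpowers z)
  have hsmall : Nat.card (X ⧸ zpowers z) ≤ n := by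
    have h2 := Subgroup.card_eq_card_quotient_mul_card_subgroup (zpowers z)
    rw [Nat.card_zpowers, hzo] at h2
    omega
  have hz2 : z * z = 1 := by rw [← pow_two, ← hzo, pow_orderOf_eq_one]
  have hzor : ∀ w ∈ zpowers z, w = 1 ∨ w = z := by
    intro w hw
    obtain ⟨j, rfl⟩ := mem_zpowers_iff.1 hw
    have hzz : z ^ (2 : ℤ) = 1 := by rw [zpow_two]; exact hz2
    rcases Int.even_or_odd' j with ⟨l, rfl | rfl⟩
    · left; rw [zpow_mul, hzz, one_zpow]
    · right; rw [zpow_add, zpow_mul, hzz, one_zpow, one_mul, zpow_one]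
  have hmapD : ∀ u ∈ commutator X, π u ∈ commutator (X ⧸ zpowers z) := by
    intro u hu
    have h : (commutator X).map π ≤ commutator (X ⧸ zpowers z) := by
      rw [_root_.commutator_def, map_commutator, _root_.commutator_def]
      exact commutator_mono le_top le_top
    exact h ⟨u, hu, rfl⟩
  -- commutators in the derived subgroup lie in `⟨z⟩`
  have hDD : ∀ u ∈ commutator X, ∀ v ∈ commutator X, ⁅u, v⁆ = 1 ∨ ⁅u, v⁆ = z := by
    intro u hu v hv
    have hgenQ : closure ({π a, π b} : Set (X ⧸ zpowers z)) = ⊤ := by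
      rw [← Set.image_pair, ← MonoidHom.map_closure, hgen,
        map_top_of_surjective π (QuotientGroup.mk'_surjective _)]
    have h := ih (X ⧸ zpowers z) hsmall (hX.to_quotient _)
      (metacyclic_frattini_map hX π (QuotientGroup.mk'_surjective _) hΦ) (π a) (π b) hgenQ
      (by rw [← map_mul, hb, map_one]) _ (hmapD u hu) _ (hmapD v hv)
    refine hzor _ ((QuotientGroup.eq_one_iff _).1 ?_)
    show π ⁅u, v⁆ = 1
    rw [map_commutatorElement]
    exact commutatorElement_eq_one_iff_mul_comm.2 h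
  obtain ⟨c, hc⟩ : ∃ c, a * b * a⁻¹ * b = c := ⟨_, rfl⟩
  obtain ⟨e, he⟩ : ∃ e, a * c * a⁻¹ = e := ⟨_, rfl⟩
  obtain ⟨hgenD, hf⟩ := commutator_pair hX hΦ hgen hb hc he
  obtain ⟨f, hfe⟩ : ∃ f, a * e * a⁻¹ = f := ⟨_, rfl⟩
  rw [hfe] at hf
  have hb' : b⁻¹ = b := inv_eq_of_mul_eq_one_right hb
  have hcD : c ∈ commutator X := by
    have h1 := comm_mem_commutator a b
    rwa [commutatorElement_def, hb', hc] at h1
  have hDn : (commutator X).Normal := inferInstance
  have heD : e ∈ commutator X := he ▸ hDn.conj_mem c hcD a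
  have hbc : b * c * b⁻¹ = c⁻¹ := hc ▸ conj_comm_eq_inv hb a
  have hbec : b * (e * c) * b⁻¹ = (e * c)⁻¹ := by
    have hec : e * c = (a * a) * b * (a * a)⁻¹ * b := by
      rw [← he, ← hc]
      simp only [mul_assoc, mul_inv_rev]
      rw [inv_mul_cancel_left, ← mul_assoc b b, hb, one_mul]
    rw [hec]; exact conj_comm_eq_inv hb _
  have hbfec : b * (f * e * c) * b⁻¹ = (f * e * c)⁻¹ := by
    have hfec : f * e * c = (a * a * a) * b * (a * a * a)⁻¹ * b := by
      rw [← hfe, ← he, ← hc]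
      simp only [mul_assoc, mul_inv_rev, inv_mul_cancel_left]
      rw [← mul_assoc b b, hb, one_mul, ← mul_assoc b b, hb, one_mul]
    rw [hfec]; exact conj_comm_eq_inv hb _
  -- `b` inverts modulo `z`
  have hπ : ∀ u ∈ commutator X, ∀ v ∈ commutator X, Commute (π u) (π v) := by
    intro u hu v hv
    refine commutatorElement_eq_one_iff_mul_comm.1 ?_
    rw [← map_commutatorElement]
    refine (QuotientGroup.eq_one_iff _).2 ?_
    rcases hDD u hu v hv with h | h <;> rw [h]
    exacts [one_mem _, mem_zpowers z]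
  have hinv : ∀ g ∈ commutator X, b * g * b⁻¹ * g ∈ zpowers z := by
    intro g hg
    have hg' := hgenD hg
    clear hg
    suffices h : π b * π g * (π b)⁻¹ = (π g)⁻¹ ∧ g ∈ commutator X by
      refine (QuotientGroup.eq_one_iff _).1 ?_
      show π (b * g * b⁻¹ * g) = 1
      rw [map_mul, map_mul, map_mul, map_inv, h.1, inv_mul_cancel]
    induction hg' using Subgroup.closure_induction with
    | mem x hx =>
      rcases hx with rfl | rfl
      · exact ⟨by rw [← map_inv, ← map_mul, ← map_mul, hbc, map_inv], hcD⟩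
      · refine ⟨?_, heD⟩
        have h1 : π b * π x * (π b)⁻¹ * (π c)⁻¹ = (π x)⁻¹ * (π c)⁻¹ := by
          calc π b * π x * (π b)⁻¹ * (π c)⁻¹
              = π b * π x * (π b)⁻¹ * π (b * c * b⁻¹) := by rw [hbc, map_inv]
            _ = π (b * (x * c) * b⁻¹) := by simp only [map_mul, map_inv]; group
            _ = (π x)⁻¹ * (π c)⁻¹ := by
              rw [hbec, map_inv, map_mul, (hπ x heD c hcD).eq, mul_inv_rev]
        exact mul_right_cancel h1
    | one => exact ⟨by simp, one_mem _⟩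
    | mul x y _ _ hx hy =>
      refine ⟨?_, mul_mem hx.2 hy.2⟩
      rw [map_mul, show π b * (π x * π y) * (π b)⁻¹ =
        π b * π x * (π b)⁻¹ * (π b * π y * (π b)⁻¹) by group, hx.1, hy.1, ← mul_inv_rev,
        (hπ y hy.2 x hx.2).eq]
    | inv x _ hx =>
      exact ⟨by rw [map_inv, show π b * (π x)⁻¹ * (π b)⁻¹ = (π b * π x * (π b)⁻¹)⁻¹ by group,
        hx.1], inv_mem hx.2⟩
  -- elements central in the derived subgroup and inverted by `b`
  have hΦD : ∀ φ : commutator X, φ ∈ frattini (commutator X) →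
      (∀ y : commutator X, Commute φ y) ∧ b * φ * b⁻¹ = (φ : X)⁻¹ := by
    intro φ hφ
    rw [frattini_eq_closure_sq (hX.to_subgroup _)] at hφ
    induction hφ using Subgroup.closure_induction with
    | one => exact ⟨fun y => Commute.one_left y, by simp⟩
    | mem x hx =>
      obtain ⟨g, rfl⟩ := hx
      refine ⟨fun y => ?_, ?_⟩
      · refine Subtype.ext ?_
        show ((g : X) ^ 2) * y = y * (g : X) ^ 2
        rcases hDD _ g.2 _ y.2 with h | h <;> rw [commutatorElement_def] at h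
        · exact ((show Commute (g : X) y from commutatorElement_eq_one_iff_mul_comm.1 h).pow_left
            2).eq
        · have e1 : (g : X) * y = z * (y * g) := by rw [← h]; group
          rw [pow_two, mul_assoc, e1, ← mul_assoc, ← (hcz _).eq, mul_assoc z, ← mul_assoc (g : X),
            e1, ← mul_assoc z, ← mul_assoc z, hz2, one_mul, mul_assoc]
      · show b * ((g : X) ^ 2) * b⁻¹ = ((g : X) ^ 2)⁻¹
        rw [← conj_pow, ← inv_pow]
        obtain ⟨ε, hε, heq⟩ : ∃ ε, (ε = 1 ∨ ε = z) ∧ b * g * b⁻¹ = ε * (g : X)⁻¹ :=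
          ⟨_, hzor _ (hinv _ g.2), by group⟩
        rcases hε with rfl | rfl
        · rw [heq, one_mul]
        · rw [heq, (hcz _).mul_pow, pow_two ε, hz2, one_mul]
    | mul x y _ _ hx hy =>
      refine ⟨fun w => (hx.1 w).mul_left (hy.1 w), ?_⟩
      show b * ((x : X) * y) * b⁻¹ = ((x : X) * y)⁻¹
      rw [show b * ((x : X) * y) * b⁻¹ = b * x * b⁻¹ * (b * y * b⁻¹) by group, hx.2, hy.2,
        ← mul_inv_rev]
      exact congrArg Inv.inv (congrArg Subtype.val (hy.1 x).eq)
    | inv x _ hx =>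
      refine ⟨fun w => (hx.1 w).inv_left, ?_⟩
      show b * (x : X)⁻¹ * b⁻¹ = ((x : X)⁻¹)⁻¹
      rw [show b * (x : X)⁻¹ * b⁻¹ = (b * x * b⁻¹)⁻¹ by group, hx.2]
  obtain ⟨φ, hφ, hφe⟩ := hf
  obtain ⟨hφc, hφb⟩ := hΦD φ hφ
  have hfφ : f = c * (φ : X)⁻¹ := by rw [show (φ : X) = f⁻¹ * c from hφe]; group
  have hcφ : Commute (φ : X) c := congrArg Subtype.val (hφc ⟨c, hcD⟩).eq
  have hbf : b * f * b⁻¹ = f⁻¹ := by
    rw [hfφ, show b * (c * (φ : X)⁻¹) * b⁻¹ = b * c * b⁻¹ * (b * φ * b⁻¹)⁻¹ by group, hbc, hφb,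
      inv_inv, mul_inv_rev, inv_inv, hcφ.inv_right.eq]
  have hcomm : Commute f (e * c) := by
    have h1 : f⁻¹ * (e * c)⁻¹ = (e * c)⁻¹ * f⁻¹ := by
      rw [← mul_inv_rev f (e * c), ← mul_assoc, ← hbfec, ← hbec, ← hbf]; group
    have h2 : Commute f⁻¹ (e * c)⁻¹ := h1
    exact Commute.inv_inv_iff.1 h2
  have hce : Commute c e := by
    have h1 : Commute (c * (φ : X)⁻¹) (e * c) := hfφ ▸ hcomm
    have h2 : Commute (φ : X)⁻¹ (e * c) :=
      (show Commute (φ : X) (e * c) from
        congrArg Subtype.val (hφc ⟨e * c, mul_mem heD hcD⟩).eq).inv_left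
    have h3 : Commute c (e * c) := by
      have h4 := h1.mul_left h2.inv_left
      rwa [inv_inv, inv_mul_cancel_right] at h4
    have h5 := h3.mul_right (Commute.refl c).inv_right
    rwa [mul_inv_cancel_right] at h5
  apply huv
  have hle : closure ({c, e} : Set X) ≤ centralizer ({c, e} : Set X) := by
    rw [closure_le]
    rintro x (rfl | rfl) <;> refine mem_centralizer_iff.2 ?_ <;> rintro y (rfl | rfl)
    exacts [rfl, hce.eq.symm, hce.eq, rfl]
  have hu' := hle (hgenD hu₀)
  have hle2 : closure ({c, e} : Set X) ≤ centralizer ({u₀} : Set X) := by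
    rw [closure_le]
    intro x hx
    exact mem_centralizer_singleton_iff.2 (mem_centralizer_iff.1 hu' x hx)
  exact (mem_centralizer_singleton_iff.1 (hle2 (hgenD hv₀))).symm

/-- The counting lemma. -/
theorem derived_cyclic_of_involution (hX : IsPGroup 2 X) (hΦ : Cfsg.IsMetacyclic ↥(frattini X))
    {a b : X} (hgen : closure ({a, b} : Set X) = ⊤) (hb : b * b = 1)
    (hB : ∀ g, Commute g b → g ∈ frattini X ∨ b * g ∈ frattini X)
    (hN : ∀ s₁ s₂ : X, s₁ ∈ normalizer (centralizer {b} : Set X) →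
      s₂ ∈ normalizer (centralizer {b} : Set X) → ¬ Commute s₁ b → ¬ Commute s₂ b →
        Commute (s₁⁻¹ * s₂) b) :
    IsCyclic ↥(commutator X) := by
  by_contra hcyc
  have hb' : b⁻¹ = b := inv_eq_of_mul_eq_one_right hb
  obtain ⟨c, hc⟩ : ∃ c, a * b * a⁻¹ * b = c := ⟨_, rfl⟩
  obtain ⟨e, he⟩ : ∃ e, a * c * a⁻¹ = e := ⟨_, rfl⟩
  obtain ⟨hgenD, -⟩ := commutator_pair hX hΦ hgen hb hc he
  have hcom := derived_comm_aux _ X le_rfl hX hΦ a b hgen hb
  have hcD : c ∈ commutator X := by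
    have h1 := comm_mem_commutator a b
    rwa [commutatorElement_def, hb', hc] at h1
  have hDn : (commutator X).Normal := inferInstance
  have heD : e ∈ commutator X := he ▸ hDn.conj_mem c hcD a
  have hec : e * c = (a * a) * b * (a * a)⁻¹ * b := by
    rw [← he, ← hc]
    simp only [mul_assoc, mul_inv_rev]
    rw [inv_mul_cancel_left, ← mul_assoc b b, hb, one_mul]
  have hbc : b * c * b⁻¹ = c⁻¹ := hc ▸ conj_comm_eq_inv hb a
  -- `b` inverts the derived subgroup
  have hinv : ∀ u ∈ commutator X, b * u * b⁻¹ = u⁻¹ := by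
    intro u hu
    have hu' := hgenD hu
    clear hu
    suffices h : b * u * b⁻¹ = u⁻¹ ∧ u ∈ commutator X from h.1
    induction hu' using Subgroup.closure_induction with
    | mem x hx =>
      rcases hx with rfl | rfl
      · exact ⟨hbc, hcD⟩
      · refine ⟨?_, heD⟩
        have h1 : b * (x * c) * b⁻¹ = (x * c)⁻¹ := by rw [hec]; exact conj_comm_eq_inv hb _
        rw [show b * (x * c) * b⁻¹ = b * x * b⁻¹ * (b * c * b⁻¹) by group, hbc,
          (hcom x heD c hcD).eq, mul_inv_rev] at h1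
        exact mul_right_cancel h1
    | one => exact ⟨by simp, one_mem _⟩
    | mul x y _ _ hx hy =>
      refine ⟨?_, mul_mem hx.2 hy.2⟩
      rw [show b * (x * y) * b⁻¹ = b * x * b⁻¹ * (b * y * b⁻¹) by group, hx.1, hy.1,
        ← mul_inv_rev, (hcom y hy.2 x hx.2).eq]
    | inv x _ hx =>
      exact ⟨by rw [show b * x⁻¹ * b⁻¹ = (b * x * b⁻¹)⁻¹ by group, hx.1], inv_mem hx.2⟩
  -- `[u s, b] = [s, b] u²`
  have hV : ∀ u ∈ commutator X, ∀ s : X,
      u * s * b * (u * s)⁻¹ * b = s * b * s⁻¹ * b * (u * u) := by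
    intro u hu s
    have hsD : s * b * s⁻¹ * b ∈ commutator X := by
      have h1 := comm_mem_commutator s b
      rwa [commutatorElement_def, hb'] at h1
    have h2 : b * u⁻¹ * b = u := by
      have h3 := hinv u⁻¹ (inv_mem hu)
      rwa [inv_inv, hb'] at h3
    calc u * s * b * (u * s)⁻¹ * b = u * (s * b * s⁻¹ * b) * (b⁻¹ * u⁻¹ * b) := by group
      _ = s * b * s⁻¹ * b * (u * u) := by rw [hb', h2, (hcom u hu _ hsD).eq, mul_assoc]
  -- at most one involution is a commutator with `b`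
  have huniq : ∀ s₁ s₂ v₁ v₂ : X, s₁ * b * s₁⁻¹ * b = v₁ → s₂ * b * s₂⁻¹ * b = v₂ →
      v₁ * v₁ = 1 → v₂ * v₂ = 1 → v₁ ≠ 1 → v₂ ≠ 1 → v₁ = v₂ := by
    have hnorm : ∀ s v : X, s * b * s⁻¹ * b = v → v * v = 1 →
        s ∈ normalizer (centralizer {b} : Set X) := by
      intro s v hv hv2
      have hvD : v ∈ commutator X := by
        have h1 := comm_mem_commutator s b
        rwa [commutatorElement_def, hb', hv] at h1
      have hvW : v ∈ frW X := subset_closure ⟨commutator_le_frattini hX hvD, hv2⟩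
      have hbv : Commute b v := by
        have h1 := hinv v hvD
        rw [inv_eq_of_mul_eq_one_right hv2] at h1
        exact mul_inv_eq_iff_eq_mul.1 h1
      rw [← inv_inv s]
      refine inv_mem (mem_normalizer_of_conj fun g hg => ?_)
      have hgb : Commute g b := mem_centralizer_singleton_iff.1 hg
      have hgv : Commute g v := by
        rcases hB g hgb with h | h
        · exact commute_frW hX hΦ h hvW
        · have h1 := hbv.mul_left (commute_frW hX hΦ h hvW)
          rwa [← mul_assoc, hb, one_mul] at h1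
      have hsb : s * b * s⁻¹ = v * b := by
        rw [← hv, mul_assoc (s * b * s⁻¹) b b, hb, mul_one]
      have h2 : Commute g (s * b * s⁻¹) := hsb ▸ hgv.mul_right hgb
      refine mem_centralizer_singleton_iff.2 ?_
      have h3 := congrArg (fun y => s⁻¹ * y * s) h2.eq
      simp only [inv_inv] at h3 ⊢
      calc s⁻¹ * g * s * b = s⁻¹ * (g * (s * b * s⁻¹)) * s := by group
        _ = s⁻¹ * (s * b * s⁻¹ * g) * s := h3
        _ = b * (s⁻¹ * g * s) := by group
    intro s₁ s₂ v₁ v₂ h₁ h₂ hs₁ hs₂ h₁' h₂'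
    have hne : ∀ s v : X, s * b * s⁻¹ * b = v → v ≠ 1 → ¬ Commute s b := fun s v hv hv1 h => hv1 (by
      rw [← hv, h.eq, mul_inv_cancel_right, hb])
    have h := hN s₁ s₂ (hnorm _ _ h₁ hs₁) (hnorm _ _ h₂ hs₂) (hne _ _ h₁ h₁') (hne _ _ h₂ h₂')
    rw [← h₁, ← h₂]
    congr 1
    calc s₁ * b * s₁⁻¹ = s₁ * (b * (s₁⁻¹ * s₂)) * s₂⁻¹ := by group
      _ = s₂ * b * s₂⁻¹ := by rw [← h.eq]; group
  -- orders
  obtain ⟨n, hn⟩ := IsPGroup.iff_orderOf.1 hX c
  have hen : orderOf e = 2 ^ n := by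
    rw [← he, ← hn]
    exact (MulAut.conj a).orderOf_eq c
  have hnotc : e * c ∉ (frattini ↥(commutator X)).map (commutator X).subtype := by
    rintro ⟨w, hw, hwe⟩
    apply hcyc
    have htop : zpowers (⟨c, hcD⟩ : commutator X) = ⊤ := by
      refine frattini_nongenerating (eq_top_iff.2 fun x _ => ?_)
      have hle : closure ({⟨c, hcD⟩, ⟨e, heD⟩} : Set (commutator X)) ≤
          zpowers (⟨c, hcD⟩ : commutator X) ⊔ frattini (commutator X) := by
        rw [closure_le]
        rintro y (rfl | rfl)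
        · exact mem_sup_left (mem_zpowers _)
        · rw [SetLike.mem_coe, show (⟨e, heD⟩ : commutator X) = w * (⟨c, hcD⟩)⁻¹ from Subtype.ext
            (eq_mul_inv_of_mul_eq hwe.symm)]
          exact mul_mem (mem_sup_right hw) (mem_sup_left (inv_mem (mem_zpowers _)))
      refine hle ?_
      have h2 := hgenD x.2
      have h3 : (x : X) ∈
          (closure ({⟨c, hcD⟩, ⟨e, heD⟩} : Set (commutator X))).map (commutator X).subtype := by
        rw [MonoidHom.map_closure, Set.image_pair]; exact h2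
      obtain ⟨x', hx', hxx⟩ := h3
      rwa [← show x' = x from Subtype.ext hxx]
    exact ⟨⟨_, fun x => htop.ge (mem_top x)⟩⟩
  have hsqΦ : ∀ u ∈ commutator X, u * u ∈ (frattini ↥(commutator X)).map (commutator X).subtype :=
    fun u hu => ⟨⟨u, hu⟩ * ⟨u, hu⟩, by
      rw [← pow_two]; exact sq_mem_frattini (hX.to_subgroup _) _, rfl⟩
  by_cases hn2 : n ≤ 1
  · have hc2 : c * c = 1 := by
      rw [← pow_two, ← orderOf_dvd_iff_pow_eq_one, hn]
      exact pow_dvd_pow 2 hn2
    have he2 : e * e = 1 := by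
      rw [← pow_two, ← orderOf_dvd_iff_pow_eq_one, hen]
      exact pow_dvd_pow 2 hn2
    have hec2 : e * c * (e * c) = 1 := by
      rw [(hcom c hcD e heD).mul_mul_mul_comm, hc2, he2, one_mul]
    have hec1 : e * c ≠ 1 := fun h => hnotc (by rw [h]; exact one_mem _)
    have hc1 : c ≠ 1 := fun h => hec1 (by rw [← he, h]; group)
    have h := huniq a (a * a) c (e * c) hc hec.symm hc2 hec2 hc1 hec1
    rw [right_eq_mul] at h
    apply hc1
    rw [← he] at h
    exact conj_eq_one_iff.1 h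
  -- the unique involution among the squares
  have hcpow : ∀ k, k < n → c ^ 2 ^ k ≠ 1 := fun k hk => by
    refine pow_ne_one_of_lt_orderOf (by positivity) ?_
    rw [hn]; exact Nat.pow_lt_pow_right (by norm_num) hk
  have hVsq : ∀ u ∈ commutator X, u * 1 * b * (u * 1)⁻¹ * b = u * u := fun u hu => by
    rw [hV u hu 1]; simp [hb]
  have hsqw : ∀ u ∈ commutator X, ∀ w ∈ commutator X, u * u * (u * u) = 1 →
      w * w * (w * w) = 1 → u * u ≠ 1 → w * w ≠ 1 → u * u = w * w := fun u hu w hw h1 h2 h3 h4 =>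
    huniq _ _ _ _ (hVsq u hu) (hVsq w hw) h1 h2 h3 h4
  have hmem : ∀ k : ℕ, ∀ s t : X, (∃ u ∈ commutator X, s = u * u) → (∃ v ∈ commutator X, t = v * v) →
      orderOf t = 2 ^ k → s ^ 2 ^ k = 1 → s ∈ zpowers t := by
    intro k
    induction k with
    | zero =>
      intro s t _ _ _ hs
      rw [pow_zero, pow_one] at hs
      rw [hs]; exact one_mem _
    | succ k ih =>
      rintro s t ⟨u, hu, rfl⟩ ⟨v, hv, rfl⟩ ht hs
      have hord : orderOf (v * v * (v * v)) = 2 ^ k := by
        rw [← pow_two (v * v), orderOf_pow' _ two_ne_zero, ht,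
          Nat.gcd_eq_right (dvd_pow_self 2 (Nat.succ_ne_zero k)), pow_succ,
          Nat.mul_div_cancel _ two_pos]
      have h1 := ih (u * u * (u * u)) (v * v * (v * v)) ⟨u * u, mul_mem hu hu, rfl⟩
        ⟨v * v, mul_mem hv hv, rfl⟩ hord (by
          rw [← pow_two (u * u), ← pow_mul, ← pow_succ']; exact hs)
      obtain ⟨i, hi⟩ := mem_zpowers_iff.1 h1
      obtain ⟨g, hg, hgeq⟩ : ∃ g ∈ commutator X, g * g = u * u * (v * v) ^ (-i) := by
        refine ⟨u * v ^ (-i), mul_mem hu (zpow_mem hv _), ?_⟩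
        rw [(hcom _ (zpow_mem hv (-i)) u hu).mul_mul_mul_comm, (Commute.refl v).mul_zpow]
      have hg4 : g * g * (g * g) = 1 := by
        rw [hgeq, ((hcom _ (zpow_mem (mul_mem hv hv) (-i)) _ (mul_mem hu hu))).mul_mul_mul_comm,
          ← hi, ← zpow_add, (Commute.refl (v * v)).mul_zpow, ← zpow_add, ← zpow_add,
          show i + i + (-i + -i) = 0 by ring, zpow_zero]
      by_cases hg1 : g * g = 1
      · rw [hgeq, mul_eq_one_iff_eq_inv] at hg1
        rw [hg1]
        exact inv_mem (zpow_mem (mem_zpowers _) _)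
      · -- it is the involution of `⟨t⟩`
        obtain ⟨j, hj⟩ : ∃ j, v ^ 2 ^ k = j := ⟨_, rfl⟩
        have hjj : j * j = (v * v) ^ 2 ^ k := by rw [← hj, (Commute.refl v).mul_pow]
        have h2 : g * g = j * j := by
          refine hsqw g hg j (hj ▸ pow_mem hv _) hg4 ?_ hg1 ?_
          · rw [hjj, ← pow_add, ← two_mul, ← pow_succ', ← ht, pow_orderOf_eq_one]
          · rw [hjj]
            refine pow_ne_one_of_lt_orderOf (by positivity) ?_
            rw [ht]; exact Nat.pow_lt_pow_right (by norm_num) (by omega)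
        rw [hgeq, hjj] at h2
        rw [show u * u = (v * v) ^ 2 ^ k * ((v * v) ^ (-i))⁻¹ from eq_mul_inv_of_mul_eq h2]
        exact mul_mem (pow_mem (mem_zpowers _) _) (inv_mem (zpow_mem (mem_zpowers _) _))
  obtain ⟨m, hm⟩ : ∃ m, n = m + 2 := ⟨n - 2, by omega⟩
  have hordc : orderOf (c * c) = 2 ^ (m + 1) := by
    rw [← pow_two, orderOf_pow' _ two_ne_zero, hn, Nat.gcd_eq_right (dvd_pow_self 2 (by omega)), hm,
      pow_succ, Nat.mul_div_cancel _ two_pos]
  have he2 : (e * e) ^ 2 ^ (m + 1) = 1 := by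
    rw [← pow_two, ← pow_mul, ← pow_succ', ← hm, ← hen, pow_orderOf_eq_one]
  obtain ⟨l, hl⟩ := mem_zpowers_iff.1
    (hmem _ _ _ ⟨e, heD, rfl⟩ ⟨c, hcD, rfl⟩ hordc he2)
  have hlodd : ¬ (2 : ℤ) ∣ l := by
    rintro ⟨l', rfl⟩
    have h1 : e ^ 2 ^ (m + 1) = 1 := by
      rw [show 2 ^ (m + 1) = 2 * 2 ^ m by rw [pow_succ'], pow_mul, pow_two, ← hl, ← zpow_natCast,
        ← zpow_mul, ← orderOf_dvd_iff_zpow_eq_one, hordc]
      refine ⟨l', ?_⟩
      push_cast
      ring
    have h2 := orderOf_dvd_of_pow_eq_one h1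
    rw [hen, hm, Nat.pow_dvd_pow_iff_le_right (by norm_num)] at h2
    omega
  obtain ⟨q, rfl⟩ : ∃ q, l = 2 * q - 1 := ⟨(l + 1) / 2, by omega⟩
  -- a second involution
  have hqD : c ^ (-q) ∈ commutator X := zpow_mem hcD _
  have hwV := hV _ hqD (a * a)
  rw [← hec] at hwV
  have hw2 : e * c * (c ^ (-q) * c ^ (-q)) * (e * c * (c ^ (-q) * c ^ (-q))) = 1 := by
    rw [(hcom _ (mul_mem hqD hqD) _ (mul_mem heD hcD)).mul_mul_mul_comm,
      (hcom c hcD e heD).mul_mul_mul_comm, ← hl, ← zpow_two c, ← zpow_mul, ← zpow_add, ← zpow_add,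
      ← zpow_add, ← zpow_add]
    rw [show 2 * (2 * q - 1) + 2 + (-q + -q + (-q + -q)) = 0 by ring, zpow_zero]
  have hw1 : ∀ g ∈ commutator X, e * c * (c ^ (-q) * c ^ (-q)) ≠ g * g := fun g hg hgw => hnotc (by
    rw [eq_mul_inv_of_mul_eq hgw]
    exact mul_mem (hsqΦ g hg) (inv_mem (hsqΦ _ hqD)))
  refine hw1 (c ^ 2 ^ m) (pow_mem hcD _) (huniq _ _ _ _ hwV (hVsq _ (pow_mem hcD _)) hw2 ?_ ?_ ?_)
  · rw [← pow_add, ← pow_add, show 2 ^ m + 2 ^ m + (2 ^ m + 2 ^ m) = 2 ^ n by rw [hm]; ring, ← hn,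
      pow_orderOf_eq_one]
  · simpa using hw1 1 (one_mem _)
  · rw [← pow_add, ← two_mul, ← pow_succ']
    exact hcpow _ (by omega)

end CfsgLib.Bicyclic
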