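import Cfsg.Agent.Bicyclic.Automizer
import Cfsg.Agent.Fusion.Alperin
import Cfsg.Agent.Fusion.InnerCriterion
import Cfsg.Agent.Fusion.SmallEssential

/-!
A saturated system other than the inner one on a bicyclic non-metacyclic 2-group has an essential
subgroup, whose automizer forces a cyclic derived subgroup.
-/

set_option autoImplicit false
set_option linter.style.haveILetI false

open Cfsg Cfsg.FusionSystem CfsgLib.Fusion

namespace CfsgLib.Bicyclic

universe u

variable {Ω : Type u} [Group Ω] {S : Subgroup Ω}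

/-- An essential subgroup forces a cyclic derived subgroup, and its automizer is generated by the
conjugates of the automorphisms induced by `S`. -/
theorem essential_data [Finite S] (hS : IsPGroup 2 S) (hb : IsBicyclic ↥S)
    (hm : ¬ Cfsg.IsMetacyclic ↥S) {F : FusionSystem S} (hF : F.IsSaturated 2) {P : Subgroup Ω}
    (hP : F.IsEssential 2 P) : IsCyclic ↥(commutator ↥S) ∧
      ∀ H : Subgroup (F.autGroup P), H.Normal →
        (autInducedBy S P).subgroupOf (F.autGroup P) ≤ H → H = ⊤ := by
  haveI : Fact (Nat.Prime 2) := ⟨Nat.prime_two⟩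
  have hlt : P < S := essential_lt 2 hS hF hP
  haveI : Finite P := finite_of_le hlt.le
  haveI : Finite (MulAut P) := finite_mulAut
  let P' : Subgroup ↥S := P.subgroupOf S
  let e : P' ≃* P := Subgroup.subgroupOfEquivOfLe hlt.le
  have he : ∀ x : P', ((e x : P) : Ω) = ((x : S) : Ω) := fun _ => rfl
  let Φ : MulAut P' ≃* MulAut P := MulAut.congr e
  have hproper : P' ≠ ⊤ := fun h => hlt.not_ge (Subgroup.subgroupOf_eq_top.1 h)
  have hC : Subgroup.centralizer (P' : Set ↥S) ≤ P' := fun x hx =>
    centralizer_mem_of_centric hP.1 x.2 fun y hy =>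
      congrArg Subtype.val (Subgroup.mem_centralizer_iff.1 hx ⟨y, hlt.le hy⟩ hy)
  have hrange : (autHom P').range = (autInducedBy S P).comap Φ.toMonoidHom := by
    ext α
    rw [Subgroup.mem_comap, mem_autInducedBy]
    constructor
    · rintro ⟨n, rfl⟩
      refine ⟨((n : S) : Ω), (n : S).2, fun x => ?_⟩
      show ((e (autHom P' n (e.symm x)) : P) : Ω) = _
      rw [he, autHom_apply, conjOn_coe]
      simp only [Subgroup.coe_mul, Subgroup.coe_inv, ← he, MulEquiv.apply_symm_apply]
    · rintro ⟨g, hg, hgx⟩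
      have hgN : g ∈ Subgroup.normalizer (P : Set Ω) := mem_normalizer_of_aut hgx
      have hgN' : (⟨g, hg⟩ : S) ∈ Subgroup.normalizer (P' : Set ↥S) := by
        refine Subgroup.mem_normalizer_iff.2 fun x => ?_
        exact Subgroup.mem_normalizer_iff.1 hgN x
      refine ⟨⟨⟨g, hg⟩, hgN'⟩, MulEquiv.ext fun x => Subtype.ext (Subtype.ext ?_)⟩
      have h1 := hgx (e x)
      have h2 : Φ α (e x) = e (α x) := by
        show e (α (e.symm (e x))) = _
        rw [MulEquiv.symm_apply_apply]
      erw [h2] at h1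
      rw [autHom_apply, conjOn_coe]
      simp only [Subgroup.coe_mul, Subgroup.coe_inv]
      rw [← he (α x), h1, he]
  let A : Subgroup (MulAut P') := (F.autGroup P).comap Φ.toMonoidHom
  have hR : (autHom P').range ≤ A := by
    rw [hrange]; exact Subgroup.comap_mono (autInducedBy_le_autGroup hlt.le)
  obtain ⟨-, R, hRe⟩ := (good_of_fullyNormalized 2 hS hF hP.2.1).1
  have hidx : ¬ 2 ∣ ((autHom P').range.subgroupOf A).index := by
    have h1 : (autHom P').range.relIndex A = (autInducedBy S P).relIndex (F.autGroup P) := by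
      rw [hrange, Subgroup.relIndex_comap,
        Subgroup.map_comap_eq_self_of_surjective Φ.surjective]
    show ¬ 2 ∣ (autHom P').range.relIndex A
    rw [h1]
    have h2 := R.not_dvd_index
    rwa [hRe] at h2
  let ψ : A →* F.autGroup P := (Φ.toMonoidHom.comp A.subtype).codRestrict _ fun b => b.2
  have hψ : Function.Surjective ψ := fun β =>
    ⟨⟨Φ.symm β, show Φ (Φ.symm β) ∈ F.autGroup P by rw [MulEquiv.apply_symm_apply]; exact β.2⟩,
      Subtype.ext (Φ.apply_symm_apply _)⟩
  suffices hrad : ∀ N : Subgroup A, N.Normal → IsPGroup 2 N →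
      ∀ a ∈ N, (a : MulAut P') ∈ (MulAut.conj : P' →* MulAut P').range by
    obtain ⟨h1, h2⟩ := cyclic_of_automizer hS hb hm hproper hC hR hidx hrad
    refine ⟨h1, fun H hH hle => ?_⟩
    have h3 : H.comap ψ = ⊤ := h2 _ (hH.comap ψ) fun a ha => hle (by
      rw [Subgroup.mem_subgroupOf, hrange] at ha
      exact ha)
    refine eq_top_iff.2 fun β _ => ?_
    obtain ⟨a, rfl⟩ := hψ β
    exact h3.ge (Subgroup.mem_top a)
  intro N hN hNp a ha
  have h1 : ψ a ∈ pCore 2 (F.autGroup P) :=
    CfsgLib.Solvable.le_pCore 2 (hN.map ψ hψ) (hNp.map ψ) ⟨a, ha, rfl⟩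
  have h2 : Φ (a : MulAut P') ∈ Inn P := by
    rw [← (isRadical_of_essential 2 hS hP).2]
    exact ⟨_, h1, rfl⟩
  obtain ⟨q, hq⟩ := h2
  refine ⟨e.symm q, MulEquiv.ext fun x => e.injective ?_⟩
  have h3 := DFunLike.congr_fun hq (e x)
  rw [show Φ (a : MulAut P') (e x) = e ((a : MulAut P') (e.symm (e x))) from rfl,
    MulEquiv.symm_apply_apply] at h3
  rw [← h3, MulAut.conj_apply, MulAut.conj_apply]
  simp

/-- An essential subgroup forces a cyclic derived subgroup. -/
theorem cyclic_of_essential [Finite S] (hS : IsPGroup 2 S) (hb : IsBicyclic ↥S)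
    (hm : ¬ Cfsg.IsMetacyclic ↥S) {F : FusionSystem S} (hF : F.IsSaturated 2) {P : Subgroup Ω}
    (hP : F.IsEssential 2 P) : IsCyclic ↥(commutator ↥S) :=
  (essential_data hS hb hm hF hP).1

/-- A saturated system other than the inner one forces a cyclic derived subgroup. -/
theorem cyclic_of_noninner [Finite S] (hS : IsPGroup 2 S) (hb : IsBicyclic ↥S)
    (hm : ¬ Cfsg.IsMetacyclic ↥S) {F : FusionSystem S} (hF : F.IsSaturated 2)
    (hne : ¬ ∀ P : Subgroup Ω, F.Hom P = (innerFusionSystem S).Hom P) :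
    IsCyclic ↥(commutator ↥S) := by
  haveI : Fact (Nat.Prime 2) := ⟨Nat.prime_two⟩
  by_contra hnc
  obtain ⟨G⟩ := exists_gens hS hb hm
  refine hne fun P => le_antisymm ?_ ?_
  · refine alperin_saturated 2 hS hF (innerFusionSystem S) (fun Q hQ α hα => ?_) P
    rcases hQ with rfl | hQ
    · obtain ⟨g, hg, hgx⟩ := aut_S_inner 2 hS hF ((G.isPGroup_mulAut hS).to_subgroup _) hα
      exact (autGroup_carrier le_rfl).2 ⟨le_rfl, g, hg, fun x => hgx x⟩
    · exact absurd (cyclic_of_essential hS hb hm hF hQ) hnc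
  · rintro φ ⟨hP, g, hg, hφ⟩
    rw [show φ = conjHom P g from MonoidHom.ext hφ]
    exact F.conj_mem hP hg

end CfsgLib.Bicyclic
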