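import Mathlib

/-!
Finite fields with a prescribed action of the Frobenius on roots of unity of 2-power order.
-/

set_option autoImplicit false
set_option linter.style.haveILetI false

namespace CfsgLib.Bicyclic

theorem emod_four_pow {i : ℤ} (hi4 : i % 4 = 1) (e : ℕ) : i ^ e % 4 = 1 := by
  have h : i ^ e ≡ 1 ^ e [ZMOD 4] := Int.ModEq.pow e hi4
  rw [one_pow] at h
  exact h

theorem not_dvd_sq_sub_one {y : ℤ} {m : ℕ} (hy4 : y % 4 = 1) (hy : ¬ (2 : ℤ) ^ m ∣ y - 1) :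
    ¬ (2 : ℤ) ^ (m + 1) ∣ y ^ 2 - 1 := by
  intro h
  obtain ⟨o, ho⟩ : (2 : ℤ) ∣ y + 1 := by omega
  refine hy ?_
  rw [show y ^ 2 - 1 = 2 * ((y - 1) * o) by linear_combination (y - 1) * ho,
    pow_succ', mul_dvd_mul_iff_left (by norm_num)] at h
  have hodd : ¬ (2 : ℤ) ∣ o := by omega
  exact ((Int.prime_two.coprime_iff_not_dvd.2 hodd).pow_left).dvd_of_dvd_mul_right h

/-- A finite field with a root of unity of order `2^m` on which an automorphism acts as `i`. -/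
theorem exists_field {m r : ℕ} {i : ℤ} (hm : 2 ≤ m) (hi4 : i % 4 = 1)
    (hi : (2 : ℤ) ^ m ∣ i ^ 2 ^ r - 1) :
    ∃ (F : Type) (_ : Field F) (_ : Fintype F) (ω : Fˣ) (σ : F ≃+* F),
      orderOf ω = 2 ^ m ∧ σ (ω : F) = ((ω ^ i : Fˣ) : F) ∧ (∀ x, σ^[2 ^ r] x = x) ∧
      2 ^ m ∣ Fintype.card F - 1 ∧ ¬ 2 ^ (m + 1) ∣ Fintype.card F - 1 := by
  classical
  have hex : ∃ k : ℕ, (2 : ℤ) ^ m ∣ i ^ 2 ^ k - 1 := ⟨r, hi⟩
  let k := Nat.find hex
  have hkr : k ≤ r := Nat.find_min' hex hi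
  have hk : (2 : ℤ) ^ m ∣ i ^ 2 ^ k - 1 := Nat.find_spec hex
  let a : ℤ := if k = 0 then 1 + 2 ^ m else i
  have hm4 : (4 : ℤ) ∣ 2 ^ m := (show (4 : ℤ) = 2 ^ 2 by norm_num) ▸ pow_dvd_pow 2 hm
  have haodd : ¬ (2 : ℤ) ∣ a := by
    simp only [a]; split_ifs
    · obtain ⟨d, hd⟩ := hm4; omega
    · omega
  obtain ⟨p, hp2, hp, hpa⟩ := Nat.forall_exists_prime_gt_and_zmodEq 2 (q := 2 ^ (m + 1)) (a := a)
    (by positivity) (by
      push_cast
      exact ((Int.prime_two.coprime_iff_not_dvd.2 haodd).pow_left).symm)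
  push_cast at hpa
  haveI : Fact p.Prime := ⟨hp⟩
  let F := GaloisField p (2 ^ k)
  letI : Fintype F := Fintype.ofFinite F
  have hq : Fintype.card F = p ^ 2 ^ k := by
    rw [← Nat.card_eq_fintype_card]; exact GaloisField.card p _ (pow_ne_zero k (by norm_num))
  have hqa : (2 : ℤ) ^ m ∣ a ^ 2 ^ k - 1 ∧ ¬ (2 : ℤ) ^ (m + 1) ∣ a ^ 2 ^ k - 1 := by
    by_cases h0 : k = 0
    · simp only [a, h0, if_true, pow_zero, pow_one, add_sub_cancel_left]
      refine ⟨dvd_rfl, fun h => ?_⟩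
      rw [pow_succ] at h
      have := (mul_dvd_mul_iff_left (a := (2 : ℤ) ^ m) (b := 2) (c := 1) (by positivity)).1
        (by rwa [mul_one])
      omega
    · simp only [a, if_neg h0]
      refine ⟨hk, ?_⟩
      obtain ⟨l, hl⟩ : ∃ l, k = l + 1 := ⟨k - 1, by omega⟩
      rw [hl, pow_succ (2 : ℕ) l, pow_mul]
      exact not_dvd_sq_sub_one (emod_four_pow hi4 _) (Nat.find_min hex (show l < k by omega))
  have hcast : (2 : ℤ) ^ (m + 1) ∣ a ^ 2 ^ k - (Fintype.card F : ℤ) := by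
    rw [hq]; push_cast
    exact Int.modEq_iff_dvd.1 (Int.ModEq.pow _ hpa)
  have h1 : 1 ≤ Fintype.card F := Fintype.card_pos
  have hdvd : ∀ e, 2 ^ e ∣ Fintype.card F - 1 ↔ (2 : ℤ) ^ e ∣ (Fintype.card F : ℤ) - 1 := fun e => by
    rw [← Int.natCast_dvd_natCast]; push_cast [h1]; rfl
  have hd1 : 2 ^ m ∣ Fintype.card F - 1 := by
    rw [hdvd]
    have := dvd_sub hqa.1 ((pow_dvd_pow (2 : ℤ) (Nat.le_succ m)).trans hcast)
    rwa [sub_sub_sub_cancel_left] at this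
  have hd2 : ¬ 2 ^ (m + 1) ∣ Fintype.card F - 1 := by
    rw [hdvd]
    intro h
    refine hqa.2 ?_
    have := dvd_add h hcast
    rwa [show ((Fintype.card F : ℤ) - 1) + (a ^ 2 ^ k - (Fintype.card F : ℤ)) = a ^ 2 ^ k - 1 by ring] at this
  have hfr : ∀ (l : ℕ) (x : F), (frobeniusEquiv F p)^[l] x = x ^ p ^ l := by
    intro l
    induction l with
    | zero => intro x; simp
    | succ l ih =>
      intro x
      rw [Function.iterate_succ_apply', ih, frobeniusEquiv_def, ← pow_mul, ← pow_succ]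
  obtain ⟨g, hg⟩ := IsCyclic.exists_ofOrder_eq_natCard (α := Fˣ)
  have hgo : orderOf g = Fintype.card F - 1 := by
    rw [hg, Nat.card_units, Nat.card_eq_fintype_card]
  have h2m : 2 ^ m ∣ orderOf g := hgo ▸ hd1
  have hω : orderOf (g ^ (orderOf g / 2 ^ m)) = 2 ^ m :=
    orderOf_pow_orderOf_div (orderOf_pos g).ne' h2m
  refine ⟨F, inferInstance, inferInstance, _, frobeniusEquiv F p, hω, ?_, fun x => ?_, hd1, hd2⟩
  · rw [frobeniusEquiv_def, ← Units.val_pow_eq_pow_val, ← zpow_natCast]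
    congr 1
    refine zpow_eq_zpow_iff_modEq.2 ?_
    rw [hω]
    push_cast
    have hpa' : (p : ℤ) ≡ a [ZMOD 2 ^ m] := hpa.of_dvd (pow_dvd_pow 2 (Nat.le_succ m))
    refine hpa'.trans ?_
    simp only [a]; split_ifs with h0
    · have h := hk
      rw [h0, pow_zero, pow_one] at h
      exact Int.modEq_iff_dvd.2 (by
        have := dvd_sub h (dvd_refl ((2 : ℤ) ^ m))
        rwa [sub_sub] at this)
    · exact Int.ModEq.refl _
  · rw [hfr]
    obtain ⟨e, he⟩ := pow_dvd_pow 2 hkr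
    rw [he, pow_mul, ← hq]
    exact FiniteField.pow_card_pow e x

end CfsgLib.Bicyclic
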