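import Cfsg.Agent.Bicyclic.Basic
import Cfsg.Agent.Solvable.PGroupRank
import Mathlib.GroupTheory.SpecificGroups.Quaternion

/-!
The Frattini subgroup of a nonmetacyclic bicyclic 2-group: it is metacyclic, its involutions form
a central subgroup of order at most four, and it contains no quaternion group.
-/

set_option autoImplicit false
set_option linter.unusedSectionVars false
set_option linter.style.haveILetI false

open scoped commutatorElement

namespace CfsgLib.Bicyclic

open Subgroup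

universe u v

/-! ### An obstruction on a group of order sixteen -/

section sixteen

variable {X : Type u} {T : Type v} [Group X] [Group T]

/-- The relations of the group of order sixteen. -/
structure Sixteen (a b c : T) : Prop where
  b2 : b * b = 1
  c2 : c * c = 1
  a4 : (a * a) * (a * a) = 1
  hc : ⁅a, b⁆ = c
  cc : ∀ t, Commute c t
  ac : ∀ t, Commute (a * a) t
  el : ∀ t, ∃ i j k : ℤ, t = a ^ i * b ^ j * c ^ k
  ind : ∀ i j k : ℤ, a ^ i * b ^ j * c ^ k = 1 → 4 ∣ i ∧ 2 ∣ j ∧ 2 ∣ k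

variable {a b c : T}

theorem Sixteen.zpow_even (h : Sixteen a b c) {t : T} (ht : t * t = 1) {e : ℤ} (he : 2 ∣ e) :
    t ^ e = 1 := by
  obtain ⟨l, rfl⟩ := he
  rw [zpow_mul, show t ^ (2 : ℤ) = t * t from zpow_two t, ht, one_zpow]

theorem Sixteen.zpow_odd (h : Sixteen a b c) {t : T} (ht : t * t = 1) {e : ℤ} (he : ¬ 2 ∣ e) :
    t ^ e = t := by
  obtain ⟨l, rfl⟩ : ∃ l, e = 2 * l + 1 := ⟨e / 2, by omega⟩
  rw [zpow_add, h.zpow_even ht (dvd_mul_right 2 l), one_mul, zpow_one]

theorem Sixteen.ba (h : Sixteen a b c) : b * a = a * b * c := by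
  have h0 : a * b * a⁻¹ * b⁻¹ = c := by rw [← h.hc, commutatorElement_def]
  calc b * a = (a * b * a⁻¹ * b⁻¹)⁻¹ * (a * b) := by group
    _ = a * b * c := by rw [h0, inv_eq_of_mul_eq_one_right h.c2, (h.cc _).eq]

/-- The central part `⟨a², c⟩`. -/
theorem Sixteen.central (h : Sixteen a b c) (i j : ℤ) :
    (∀ t, Commute ((a * a) ^ i * c ^ j) t) ∧
      ((a * a) ^ i * c ^ j) * ((a * a) ^ i * c ^ j) = 1 := by
  refine ⟨fun t => ((h.ac t).zpow_left i).mul_left ((h.cc t).zpow_left j), ?_⟩
  rw [((h.cc ((a * a) ^ i)).zpow_left j).mul_mul_mul_comm, ← zpow_add, ← zpow_add,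
    h.zpow_even h.a4 ⟨i, (two_mul i).symm⟩, h.zpow_even h.c2 ⟨j, (two_mul j).symm⟩, one_mul]

theorem Sixteen.comb (h : Sixteen a b c) (i j i' j' : ℤ) :
    ((a * a) ^ i * c ^ j) * ((a * a) ^ i' * c ^ j') = (a * a) ^ (i + i') * c ^ (j + j') := by
  rw [((h.cc _).zpow_left j).mul_mul_mul_comm, ← zpow_add, ← zpow_add]

theorem Sixteen.sq_word (h : Sixteen a b c) {i j k : ℤ} (hi : ¬ 2 ∣ i) :
    (a ^ i * b ^ j * c ^ k) * (a ^ i * b ^ j * c ^ k) ≠ 1 := by
  intro he
  obtain ⟨l, rfl⟩ : ∃ l, i = 2 * l + 1 := ⟨i / 2, by omega⟩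
  have hA : a ^ (2 * l + 1) = a * (a * a) ^ l := by
    rw [← zpow_two, ← zpow_mul, add_comm, zpow_add, zpow_one]
  obtain ⟨hec, he2⟩ := h.central l k
  have hw : a ^ (2 * l + 1) * b ^ j * c ^ k = a * b ^ j * ((a * a) ^ l * c ^ k) := by
    rw [hA, mul_assoc a, ((h.ac (b ^ j)).zpow_left l).eq, ← mul_assoc, mul_assoc]
  rw [hw, (hec _).mul_mul_mul_comm, he2, mul_one] at he
  by_cases hj : 2 ∣ j
  · rw [h.zpow_even h.b2 hj, mul_one] at he
    obtain ⟨h4, -, -⟩ := h.ind 2 0 0 (by rw [zpow_two, he, zpow_zero, zpow_zero, mul_one, mul_one])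
    omega
  · rw [h.zpow_odd h.b2 hj, show a * b * (a * b) = a * (b * a) * b by group, h.ba,
      show a * (a * b * c) * b = a * a * (b * (c * b)) by group, (h.cc b).eq, ← mul_assoc b,
      h.b2, one_mul] at he
    obtain ⟨-, -, h2⟩ := h.ind 2 0 1 (by rw [zpow_two, zpow_zero, mul_one, zpow_one, he])
    omega

/-- The shape of an automorphism. -/
theorem Sixteen.aut (h : Sixteen a b c) (α : MulAut T) :
    (∃ j i k : ℤ, α a = a * b ^ j * ((a * a) ^ i * c ^ k)) ∧
      ∃ i k : ℤ, α b = b * ((a * a) ^ i * c ^ k) := by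
  have hsplit : ∀ i j k : ℤ, a ^ i * b ^ j * c ^ k =
      a ^ (i % 2) * b ^ j * ((a * a) ^ (i / 2) * c ^ k) := by
    intro i j k
    conv_lhs => rw [← Int.emod_add_mul_ediv i 2, zpow_add, zpow_mul, zpow_two, mul_assoc (a ^ _),
      ((h.ac (b ^ j)).zpow_left _).eq, ← mul_assoc, mul_assoc]
  have hev : ∀ i j k : ℤ, 2 ∣ i → (a ^ i * b ^ j * c ^ k) * (a ^ i * b ^ j * c ^ k) = 1 := by
    intro i j k hi
    obtain ⟨hec, he2⟩ := h.central (i / 2) k
    rw [hsplit, show i % 2 = 0 by omega, zpow_zero, one_mul, (hec _).mul_mul_mul_comm, he2, mul_one,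
      ← zpow_add, h.zpow_even h.b2 ⟨j, (two_mul j).symm⟩]
  obtain ⟨i, j, k, ha⟩ := h.el (α a)
  obtain ⟨i', j', k', hb⟩ := h.el (α b)
  have hi : ¬ 2 ∣ i := fun hi => by
    have h1 := hev i j k hi
    rw [← ha, ← map_mul, map_eq_one_iff _ α.injective] at h1
    obtain ⟨h4, -, -⟩ := h.ind 2 0 0 (by rw [zpow_two, h1, zpow_zero, zpow_zero, mul_one, mul_one])
    omega
  refine ⟨⟨j, i / 2, k, by rw [ha, hsplit, show i % 2 = 1 by omega, zpow_one]⟩, i' / 2, k', ?_⟩
  have hi' : 2 ∣ i' := by
    by_contra hi'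
    refine h.sq_word (j := j') (k := k') hi' ?_
    rw [← hb, ← map_mul, h.b2, map_one]
  rw [hb, hsplit, show i' % 2 = 0 by omega, zpow_zero, one_mul]
  rw [h.zpow_odd h.b2]
  intro hj'
  have hbc : ∀ t, Commute (α b) t := fun t => by
    rw [hb, hsplit, show i' % 2 = 0 by omega, zpow_zero, one_mul, h.zpow_even h.b2 hj', one_mul]
    exact (h.central _ _).1 t
  have h1 : ⁅a, b⁆ = 1 := commutatorElement_eq_one_iff_mul_comm.2
    (α.injective (by rw [map_mul, map_mul]; exact (hbc (α a)).symm.eq))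
  obtain ⟨-, -, h2⟩ := h.ind 0 0 1 (by
    rw [zpow_zero, zpow_zero, one_mul, one_mul, zpow_one, ← h.hc, h1])
  omega

/-- An action in which a product of squares induces conjugation by `a` is impossible. -/
theorem Sixteen.not_action (h : Sixteen a b c) (ρ : X →* MulAut T) {s₀ : X}
    (hs₀ : ρ s₀ = MulAut.conj a) :
    s₀ ∉ closure (Set.range fun x : X => x * x) := by
  intro hs
  let Good : MulAut T → Prop := fun α => ∃ i j k : ℤ,
    α a = a * ((a * a) ^ i * c ^ j) ∧ α b = b * ((a * a) ^ k * c ^ i)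
  have hfix : ∀ α : MulAut T, ∀ e₁ e₂ : T, (∀ t, Commute e₁ t) → e₁ * e₁ = 1 →
      (∀ t, Commute e₂ t) → α a = a * e₁ → α b = b * e₂ → α (a * a) = a * a ∧ α c = c := by
    intro α e₁ e₂ h1 h1' h2 ha hb
    refine ⟨by rw [map_mul, ha, (h1 _).mul_mul_mul_comm, h1', mul_one], ?_⟩
    rw [← h.hc, map_commutatorElement, ha, hb]
    rw [commutatorElement_def, commutatorElement_def, (h2 _).symm.eq, (h1 _).symm.eq]
    calc e₁ * a * (e₂ * b) * (e₁ * a)⁻¹ * (e₂ * b)⁻¹
        = e₁ * (a * e₂ * b * a⁻¹) * e₁⁻¹ * (b⁻¹ * e₂⁻¹) := by group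
      _ = e₂ * (a * b * a⁻¹ * b⁻¹) * e₂⁻¹ := by
        rw [(h1 _).eq, mul_inv_cancel_right, (h2 a).symm.eq]; group
      _ = a * b * a⁻¹ * b⁻¹ := by rw [(h2 _).eq, mul_inv_cancel_right]
  have hmem : ∀ {α : MulAut T}, Good α → α (a * a) = a * a ∧ α c = c := by
    rintro α ⟨i, j, k, ha, hb⟩
    exact hfix α _ _ (h.central i j).1 (h.central i j).2 (h.central k i).1 ha hb
  have key : ∀ x : X, x ∈ closure (Set.range fun x : X => x * x) → Good (ρ x) := by
    intro x hx
    induction hx using Subgroup.closure_induction with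
    | one => exact ⟨0, 0, 0, by simp, by simp⟩
    | mul u v _ _ hu hv =>
      obtain ⟨hA, hC⟩ := hmem hu
      obtain ⟨i, j, k, hua, hub⟩ := hu
      obtain ⟨i', j', k', hva, hvb⟩ := hv
      refine ⟨i + i', j + j', k + k', ?_, ?_⟩
      · rw [map_mul, MulAut.mul_apply, hva, map_mul, map_mul, map_zpow, map_zpow, hA, hC, hua,
          mul_assoc, h.comb]
      · rw [map_mul, MulAut.mul_apply, hvb, map_mul, map_mul, map_zpow, map_zpow, hA, hC, hub,
          mul_assoc, h.comb]
    | inv u _ hu =>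
      obtain ⟨hA, hC⟩ := hmem hu
      obtain ⟨i, j, k, hua, hub⟩ := hu
      refine ⟨-i, -j, -k, ?_, ?_⟩
      · rw [map_inv]
        apply (ρ u).injective
        rw [MulAut.apply_inv_self, map_mul, map_mul, map_zpow, map_zpow, hA, hC, hua, mul_assoc,
          h.comb, add_neg_cancel, add_neg_cancel, zpow_zero, zpow_zero, mul_one, mul_one]
      · rw [map_inv]
        apply (ρ u).injective
        rw [MulAut.apply_inv_self, map_mul, map_mul, map_zpow, map_zpow, hA, hC, hub, mul_assoc,
          h.comb, add_neg_cancel, add_neg_cancel, zpow_zero, zpow_zero, mul_one, mul_one]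
    | mem x hx =>
      obtain ⟨y, rfl⟩ := hx
      obtain ⟨⟨j, i, k, ha⟩, i', k', hb⟩ := h.aut (ρ y)
      by_cases hj : 2 ∣ j
      · rw [h.zpow_even h.b2 hj, mul_one] at ha
        obtain ⟨hA, hC⟩ := hfix (ρ y) _ _ (h.central i k).1 (h.central i k).2 (h.central i' k').1
          ha hb
        refine ⟨0, 0, 0, ?_, ?_⟩
        · rw [map_mul, MulAut.mul_apply, ha, map_mul, map_mul, map_zpow, map_zpow, hA, hC, ha,
            mul_assoc, (h.central i k).2]
          simp
        · rw [map_mul, MulAut.mul_apply, hb, map_mul, map_mul, map_zpow, map_zpow, hA, hC, hb,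
            mul_assoc, (h.central i' k').2]
          simp
      · rw [h.zpow_odd h.b2 hj] at ha
        obtain ⟨hec, he2⟩ := h.central i k
        have hA : ρ y (a * a) = a * a * c := by
          rw [map_mul, ha, (hec _).mul_mul_mul_comm, he2, mul_one,
            show a * b * (a * b) = a * (b * a) * b by group, h.ba,
            show a * (a * b * c) * b = a * a * (b * (c * b)) by group, (h.cc b).eq, ← mul_assoc b,
            h.b2, one_mul]
        have hC : ρ y c = c := by
          obtain ⟨hfc, -⟩ := h.central i' k'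
          rw [← h.hc, map_commutatorElement, ha, hb, commutatorElement_def, commutatorElement_def,
            (hfc _).symm.eq, (hec _).symm.eq]
          calc (a * a) ^ i * c ^ k * (a * b) * ((a * a) ^ i' * c ^ k' * b) *
              ((a * a) ^ i * c ^ k * (a * b))⁻¹ * ((a * a) ^ i' * c ^ k' * b)⁻¹
              = (a * a) ^ i * c ^ k * ((a * b) * ((a * a) ^ i' * c ^ k') * b * (a * b)⁻¹) *
                ((a * a) ^ i * c ^ k)⁻¹ * (b⁻¹ * ((a * a) ^ i' * c ^ k')⁻¹) := by group
            _ = ((a * a) ^ i' * c ^ k') * (a * b * a⁻¹ * b⁻¹) * ((a * a) ^ i' * c ^ k')⁻¹ := by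
              rw [(hec _).eq, mul_inv_cancel_right, (hfc (a * b)).symm.eq]; group
            _ = a * b * a⁻¹ * b⁻¹ := by rw [(hfc _).eq, mul_inv_cancel_right]
        have hAC : ∀ l m : ℤ, ρ y ((a * a) ^ l * c ^ m) = (a * a) ^ l * c ^ (l + m) := by
          intro l m
          rw [map_mul, map_zpow, map_zpow, hA, hC, (h.cc (a * a)).symm.mul_zpow, mul_assoc,
            ← zpow_add]
        refine ⟨i', k' + i, 0, ?_, ?_⟩
        · rw [map_mul, MulAut.mul_apply, ha, map_mul, map_mul, hAC, ha, hb]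
          calc a * b * ((a * a) ^ i * c ^ k) * (b * ((a * a) ^ i' * c ^ k')) *
              ((a * a) ^ i * c ^ (i + k))
              = a * (b * (((a * a) ^ i * c ^ k) * b)) * (((a * a) ^ i' * c ^ k') *
                ((a * a) ^ i * c ^ (i + k))) := by group
            _ = a * ((a * a) ^ i * c ^ k * ((a * a) ^ (i' + i) * c ^ (k' + (i + k)))) := by
              rw [(hec b).eq, ← mul_assoc b, h.b2, one_mul, h.comb, mul_assoc]
            _ = a * ((a * a) ^ i' * c ^ (k' + i)) := by
              rw [h.comb, show i + (i' + i) = i' + 2 * i by ring,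
                show k + (k' + (i + k)) = k' + i + 2 * k by ring, ← h.comb,
                h.zpow_even h.a4 (dvd_mul_right 2 i), h.zpow_even h.c2 (dvd_mul_right 2 k), mul_one,
                mul_one]
        · rw [map_mul, MulAut.mul_apply, hb, map_mul, hAC, hb, mul_assoc, h.comb,
            show i' + i' = 2 * i' by ring, show k' + (i' + k') = i' + 2 * k' by ring,
            h.zpow_even h.a4 (dvd_mul_right 2 i'), zpow_add, h.zpow_even h.c2 (dvd_mul_right 2 k'),
            mul_one, zpow_zero, one_mul]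
  obtain ⟨i, j, k, ha, hb⟩ := key s₀ hs
  rw [hs₀, MulAut.conj_apply, mul_inv_cancel_right, left_eq_mul] at ha
  rw [hs₀, MulAut.conj_apply] at hb
  obtain ⟨h4, -, -⟩ := h.ind (2 * i) 0 j (by
    rw [zpow_mul, zpow_two, zpow_zero, mul_one, ha])
  have hbc : a * b * a⁻¹ = b * c := by
    rw [← (h.cc b).eq, ← h.hc, commutatorElement_def]; group
  rw [hbc, mul_right_inj] at hb
  obtain ⟨-, -, h2⟩ := h.ind (2 * k) 0 (i - 1) (by
    rw [zpow_mul, zpow_two, zpow_zero, mul_one, zpow_sub, zpow_one, ← mul_assoc, ← hb,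
      mul_inv_cancel])
  omega

end sixteen

variable {X : Type u} [Group X] [Finite X]

/-- Modulo `K` the derived subgroup is `{1, c}`. -/
theorem Gens.mem_lowK_or (G : Gens X) {u : X} (hu : u ∈ commutator X) :
    u ∈ lowK X ∨ ⁅G.a, G.b⁆⁻¹ * u ∈ lowK X := by
  let π := QuotientGroup.mk' (lowK X)
  have hcc : ∀ q, Commute (π ⁅G.a, G.b⁆) q := fun q => by
    obtain ⟨g, rfl⟩ := QuotientGroup.mk'_surjective _ q
    exact commutatorElement_eq_one_iff_mul_comm.1 (by
      rw [← map_commutatorElement]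
      exact (QuotientGroup.eq_one_iff _).2 (comm_mem_lowK (comm_mem_commutator _ _) g))
  haveI hn : (zpowers (π ⁅G.a, G.b⁆)).Normal := ⟨fun w hw q => by
    obtain ⟨j, rfl⟩ := mem_zpowers_iff.1 hw
    rw [← (((hcc q).zpow_left j)).eq, mul_inv_cancel_right]
    exact zpow_mem (mem_zpowers _) j⟩
  obtain ⟨j, hj⟩ := mem_zpowers_iff.1 (commutator_le_of_pair G.gen
    ((zpowers (π ⁅G.a, G.b⁆)).comap π) (mem_zpowers _) hu)
  have h2 : π ⁅G.a, G.b⁆ ^ (2 : ℤ) = 1 := by
    rw [zpow_two, ← map_mul, ← pow_two]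
    exact (QuotientGroup.eq_one_iff _).2 (sq_mem_lowK (comm_mem_commutator _ _))
  rcases Int.even_or_odd' j with ⟨l, rfl | rfl⟩
  · left
    rw [zpow_mul, h2, one_zpow] at hj
    exact (QuotientGroup.eq_one_iff _).1 hj.symm
  · right
    rw [zpow_add, zpow_mul, h2, one_zpow, one_mul, zpow_one] at hj
    exact QuotientGroup.eq.1 hj

/-- The Frattini subgroup is metacyclic. -/
theorem frattini_metacyclic (hX : IsPGroup 2 X) (hb : IsBicyclic X) (hm : ¬ Cfsg.IsMetacyclic X) :
    Cfsg.IsMetacyclic ↥(frattini X) := by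
  by_contra hΦ
  have hY : IsPGroup 2 ↥(frattini X) := hX.to_subgroup _
  have hbY : IsBicyclic ↥(frattini X) := by
    obtain ⟨x, y, h⟩ := hb
    obtain ⟨-, -, -, -, hpar⟩ := frattini_bicyclic hX h fun hc => hm (isMetacyclic_of_isCyclic hc)
    refine ⟨⟨x ^ 2, sq_mem_frattini hX x⟩, ⟨y ^ 2, sq_mem_frattini hX y⟩, fun g => ?_⟩
    obtain ⟨i, j, hij⟩ := h (g : X)
    obtain ⟨⟨i', rfl⟩, ⟨j', rfl⟩⟩ := hpar i j (hij ▸ g.2)
    refine ⟨i', j', Subtype.ext ?_⟩
    rw [hij, zpow_mul, zpow_mul]
    simp only [Subgroup.coe_mul, Subgroup.coe_zpow]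
    norm_cast
  obtain ⟨G⟩ := exists_gens hY hbY hΦ
  let Y := ↥(frattini X)
  let L : Subgroup Y := lowK Y ⊔ closure (Set.range fun g : Y => g ^ 4)
  haveI : (closure (Set.range fun g : Y => g ^ 4)).Normal := closure_normal (by
    rintro _ ⟨g, rfl⟩ h; exact ⟨h * g * h⁻¹, conj_pow⟩)
  haveI hLn : L.Normal := inferInstance
  have hinv : ∀ α : MulAut Y, L.map α.toMonoidHom = L := by
    have hle : ∀ α : MulAut Y, L.map α.toMonoidHom ≤ L := fun α => by
      rw [Subgroup.map_sup, MonoidHom.map_closure]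
      refine sup_le_sup (map_lowK_le _) (closure_mono ?_)
      rintro _ ⟨_, ⟨g, rfl⟩, rfl⟩
      exact ⟨α g, (map_pow α g 4).symm⟩
    intro α
    refine le_antisymm (hle α) fun y hy => ?_
    exact ⟨α⁻¹ y, hle α⁻¹ ⟨y, hy, rfl⟩, MulAut.apply_inv_self Y α y⟩
  let ρ : X →* MulAut (Y ⧸ L) :=
    MonoidHom.mk' (fun s => QuotientGroup.congr L L (MulAut.conjNormal s) (hinv _))
      fun s t => MulEquiv.ext fun q => by
        induction q using QuotientGroup.induction_on with
        | H y =>
          show ((MulAut.conjNormal (s * t) y : Y) : Y ⧸ L) = _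
          rw [map_mul]; rfl
  let π := QuotientGroup.mk' (lowK Y)
  let p := QuotientGroup.mk' L
  have hp : ∀ u v : Y, π u = π v → p u = p v := fun u v h =>
    QuotientGroup.eq.2 (Subgroup.mem_sup_left (QuotientGroup.eq.1 h))
  have hk : ∀ u, π u = 1 ↔ u ∈ lowK Y := fun u => QuotientGroup.eq_one_iff u
  obtain ⟨c, hc⟩ : ∃ c, ⁅G.a, G.b⁆ = c := ⟨_, rfl⟩
  -- fourth powers
  have hL : ∀ y ∈ L, ∃ m : ℤ, π y = π G.a ^ (4 * m) := by
    intro y hy
    have hle : L ≤ (zpowers (π G.a ^ (4 : ℤ))).comap π := by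
      refine sup_le (fun u hu => ?_) ((closure_le _).2 ?_)
      · rw [mem_comap, (hk u).2 hu]; exact one_mem _
      · rintro _ ⟨g, rfl⟩
        obtain ⟨i, j, hg⟩ := G.span g
        obtain ⟨u, hu, hg2⟩ : ∃ u ∈ commutator Y, g ^ 2 = G.a ^ (2 * i) * u := by
          refine ⟨(G.a ^ (2 * i))⁻¹ * g ^ 2, ?_, by rw [mul_inv_cancel_left]⟩
          haveI : IsMulCommutative (Y ⧸ commutator Y) :=
            Normal.quotient_commutative_iff_commutator_le.2 le_rfl
          have hcomm : ∀ q r : Y ⧸ commutator Y, Commute q r :=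
            fun q r => (IsMulCommutative.is_comm (M := Y ⧸ commutator Y)).comm q r
          let ab := QuotientGroup.mk' (commutator Y)
          refine QuotientGroup.eq.1 ?_
          show ab (G.a ^ (2 * i)) = ab (g ^ 2)
          have e : ab g = ab (G.a ^ i * G.b ^ j) := (QuotientGroup.eq.2 hg).symm
          have e2 : ab G.b ^ (2 : ℤ) = 1 := by
            rw [← map_zpow]
            refine (QuotientGroup.eq_one_iff _).2 (lowK_le_commutator ?_)
            rw [show G.b ^ (2 : ℤ) = G.b ^ 2 from zpow_natCast _ 2]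
            exact G.sq
          rw [map_pow, e, map_mul, (hcomm _ _).mul_pow, map_zpow, map_zpow, map_zpow, pow_two,
            pow_two, ← zpow_add, ← zpow_add, ← two_mul, ← two_mul, zpow_mul (ab G.b), e2, one_zpow,
            mul_one]
        refine ⟨i, ?_⟩
        show (π G.a ^ (4 : ℤ)) ^ i = π (g ^ 4)
        rw [show g ^ 4 = (g ^ 2) ^ 2 by rw [← pow_mul], hg2, map_pow, map_mul,
          (show Commute (π (G.a ^ (2 * i))) (π u) from (commutatorElement_eq_one_iff_mul_comm.1 (by
            rw [← map_commutatorElement]; exact (hk _).2 (comm_mem_lowK hu _))).symm).mul_pow,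
          ← map_pow π u, (hk _).2 (sq_mem_lowK hu), mul_one, map_zpow, ← zpow_natCast, ← zpow_mul,
          ← zpow_mul]
        congr 1; push_cast; ring
    obtain ⟨m, hm⟩ := hle hy
    exact ⟨m, by rw [zpow_mul]; exact hm.symm⟩
  have hb2 : p G.b * p G.b = 1 := by
    rw [← map_mul, ← pow_two]
    exact (QuotientGroup.eq_one_iff _).2 (Subgroup.mem_sup_left G.sq)
  have hc2 : p c * p c = 1 := by
    rw [← map_mul, ← pow_two]
    exact (QuotientGroup.eq_one_iff _).2 (Subgroup.mem_sup_left (sq_mem_lowK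
      (hc ▸ comm_mem_commutator _ _)))
  have hcc : ∀ t, Commute (p c) t := fun t => by
    obtain ⟨g, rfl⟩ := QuotientGroup.mk'_surjective _ t
    exact commutatorElement_eq_one_iff_mul_comm.1 (by
      rw [← map_commutatorElement]
      exact (QuotientGroup.eq_one_iff _).2
        (Subgroup.mem_sup_left (comm_mem_lowK (hc ▸ comm_mem_commutator _ _) g)))
  have hel : ∀ t, ∃ i j k : ℤ, t = p G.a ^ i * p G.b ^ j * p c ^ k := by
    intro t
    obtain ⟨g, rfl⟩ := QuotientGroup.mk'_surjective _ t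
    obtain ⟨i, j, hg⟩ := G.span g
    have hgu : g = G.a ^ i * G.b ^ j * ((G.a ^ i * G.b ^ j)⁻¹ * g) := by group
    rcases G.mem_lowK_or hg with h | h
    · refine ⟨i, j, 0, ?_⟩
      show p g = _
      conv_lhs => rw [hgu]
      rw [map_mul, show p ((G.a ^ i * G.b ^ j)⁻¹ * g) = 1 from
        (QuotientGroup.eq_one_iff _).2 (Subgroup.mem_sup_left h), map_mul, map_zpow, map_zpow,
        zpow_zero]
    · refine ⟨i, j, 1, ?_⟩
      show p g = _
      conv_lhs => rw [hgu]
      rw [map_mul, show p ((G.a ^ i * G.b ^ j)⁻¹ * g) = p c from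
        (QuotientGroup.eq.2 (Subgroup.mem_sup_left (hc ▸ h))).symm, map_mul, map_zpow, map_zpow,
        zpow_one]
  have hind : ∀ i j k : ℤ, p G.a ^ i * p G.b ^ j * p c ^ k = 1 → 4 ∣ i ∧ 2 ∣ j ∧ 2 ∣ k := by
    intro i j k h
    rw [← map_zpow, ← map_zpow, ← map_zpow, ← map_mul, ← map_mul] at h
    obtain ⟨m, hm⟩ := hL _ ((QuotientGroup.eq_one_iff _).1 h)
    have h1 : (G.a ^ (4 * m))⁻¹ * (G.a ^ i * G.b ^ j * c ^ k) ∈ lowK Y :=
      QuotientGroup.eq.1 (by show π _ = π _; rw [hm, map_zpow])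
    have hn : (commutator Y).Normal := inferInstance
    have hcm : c ∈ commutator Y := hc ▸ comm_mem_commutator _ _
    have h2 : G.a ^ (i - 4 * m) * G.b ^ j ∈ commutator Y := by
      have := mul_mem (lowK_le_commutator h1) (inv_mem (zpow_mem hcm k))
      rwa [mul_assoc _ _ (c ^ k)⁻¹, mul_inv_cancel_right, ← mul_assoc, ← zpow_neg, ← zpow_add,
        neg_add_eq_sub] at this
    obtain ⟨hi, hj⟩ := G.indep _ _ h2
    refine ⟨?_, hj, ?_⟩
    · have h4 : (4 : ℤ) ∣ 2 ^ G.r := by
        rw [show (4 : ℤ) = 2 ^ 2 by norm_num]; exact pow_dvd_pow 2 G.two_le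
      have := h4.trans hi
      omega
    · by_contra hk2
      obtain ⟨l, rfl⟩ := hj
      obtain ⟨k', rfl⟩ : ∃ k', k = 2 * k' + 1 := ⟨k / 2, by omega⟩
      refine G.notpow (4 * m - i) ((hk _).1 ?_)
      have e1 : π (G.b ^ (2 * l)) = 1 := (hk _).2 (by
        rw [zpow_mul, show G.b ^ (2 : ℤ) = G.b ^ 2 from zpow_natCast _ 2]; exact zpow_mem G.sq l)
      have e2 : π (c ^ (2 * k' + 1)) = π c := by
        rw [zpow_add, zpow_one, map_mul, show π (c ^ (2 * k')) = 1 from (hk _).2 (by
          rw [zpow_mul, show c ^ (2 : ℤ) = c ^ 2 from zpow_natCast _ 2]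
          exact zpow_mem (sq_mem_lowK hcm) k'), one_mul]
      rw [map_mul π, map_mul π, e1, e2, mul_one] at hm
      rw [hc, map_mul, map_inv, map_zpow, inv_mul_eq_one, zpow_sub, ← hm, map_zpow,
        ← zpow_neg]
      have hcc' : Commute (π G.a ^ i * π c) (π G.a ^ (-i)) := by
        refine Commute.mul_left (Commute.zpow_zpow_self _ _ _) ?_
        exact (show Commute (π c) (π G.a) from commutatorElement_eq_one_iff_mul_comm.1 (by
          rw [← map_commutatorElement]; exact (hk _).2 (comm_mem_lowK hcm _))).zpow_right _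
      rw [hcc'.eq, ← mul_assoc, ← zpow_add, neg_add_cancel, zpow_zero, one_mul]
  have hac : ∀ t, Commute (p G.a * p G.a) t := by
    intro t
    obtain ⟨i, j, k, rfl⟩ := hel t
    refine (Commute.mul_right ?_ ?_).mul_right ((hcc _).symm.zpow_right k)
    · exact ((Commute.refl _).mul_left (Commute.refl _)).zpow_right i
    · refine Commute.zpow_right ?_ j
      have h0 : p G.a * p G.b = p c * p G.b * p G.a := by
        rw [← hc, map_commutatorElement, commutatorElement_def]; group
      show p G.a * p G.a * p G.b = p G.b * (p G.a * p G.a)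
      rw [mul_assoc, h0, ← mul_assoc (p G.a), ← mul_assoc (p G.a), ← (hcc (p G.a)).eq,
        mul_assoc (p c), h0, ← mul_assoc (p c), ← mul_assoc (p c), hc2, one_mul, mul_assoc]
  have ha4 : p G.a * p G.a * (p G.a * p G.a) = 1 := by
    rw [← map_mul, ← map_mul]
    refine (QuotientGroup.eq_one_iff _).2 (Subgroup.mem_sup_right (subset_closure ⟨G.a, ?_⟩))
    simp only [pow_succ, pow_zero, one_mul, mul_assoc]
  have h16 : Sixteen (p G.a) (p G.b) (p c) :=
    ⟨hb2, hc2, ha4, by rw [← hc, map_commutatorElement], hcc, hac, hel, hind⟩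
  refine h16.not_action ρ (s₀ := (G.a : X)) (MulEquiv.ext fun q => ?_) ?_
  · induction q using QuotientGroup.induction_on with
    | H y =>
      show p (MulAut.conjNormal (G.a : X) y) = p G.a * p y * (p G.a)⁻¹
      rw [← map_inv, ← map_mul, ← map_mul]
      congr 1
  · rw [show (fun x : X => x * x) = fun x => x ^ 2 from funext fun x => (pow_two x).symm,
      ← frattini_eq_closure_sq hX]
    exact G.a.2

/-! ### Small normal subgroups and involutions -/

/-- In a finite cyclic group an element generates every element of the same order. -/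
theorem mem_zpowers_of_orderOf_eq {G : Type v} [Group G] [Finite G] [IsCyclic G] {u v : G}
    (h : orderOf v = orderOf u) : v ∈ zpowers u := by
  classical
  haveI := Fintype.ofFinite G
  by_contra hv
  have hle := IsCyclic.card_pow_eq_one_le (α := G) (orderOf_pos u)
  have hsub : insert v ((zpowers u : Set G).toFinset) ⊆
      Finset.univ.filter fun w => w ^ orderOf u = 1 := by
    intro w hw
    rw [Finset.mem_insert, Set.mem_toFinset, SetLike.mem_coe] at hw
    simp only [Finset.mem_filter, Finset.mem_univ, true_and]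
    rcases hw with rfl | hw
    · rw [← h, pow_orderOf_eq_one]
    · obtain ⟨l, rfl⟩ := mem_zpowers_iff.1 hw
      rw [← zpow_natCast, ← zpow_mul, mul_comm, zpow_mul, zpow_natCast, pow_orderOf_eq_one, one_zpow]
  have h1 := (Finset.card_le_card hsub).trans hle
  rw [Finset.card_insert_of_notMem (by rwa [Set.mem_toFinset]), Set.toFinset_card,
    ← Nat.card_eq_fintype_card, SetLike.coe_sort_coe, Nat.card_zpowers] at h1
  omega

/-- A normal subgroup of order at most four is centralized by the Frattini subgroup. -/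
theorem commute_of_small_normal (hX : IsPGroup 2 X) {V : Subgroup X} [V.Normal]
    (hV : Nat.card V ≤ 4) {f v : X} (hf : f ∈ frattini X) (hv : v ∈ V) : Commute f v := by
  have : Finite (MulAut V) := .of_injective _ DFunLike.coe_injective
  let ρ := MulAut.conjNormal (G := X) (H := V)
  have hsq : ∀ x : X, ρ (x ^ 2) = 1 := by
    intro x
    obtain ⟨k, hk⟩ := IsPGroup.iff_orderOf.1 (hX.of_surjective ρ.rangeRestrict
      ρ.rangeRestrict_surjective) (ρ.rangeRestrict x)
    rw [← Subgroup.orderOf_coe, MonoidHom.coe_rangeRestrict] at hk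
    have h6 : 2 ^ k ∣ 2 ^ 1 * 3 :=
      hk ▸ (orderOf_dvd_natCard (ρ x)).trans (MetacyclicAut.card_mulAut_dvd_six hV)
    have h2 : 2 ^ k ∣ 2 := (Nat.Coprime.pow_left k (by norm_num)).dvd_of_dvd_mul_right h6
    rw [map_pow]
    exact orderOf_dvd_iff_pow_eq_one.1 (hk ▸ h2)
  have hle : frattini X ≤ ρ.ker := by
    rw [frattini_eq_closure_sq hX]
    exact (closure_le _).2 (by rintro _ ⟨x, rfl⟩; exact hsq x)
  have h1 := congrArg Subtype.val (DFunLike.congr_fun (hle hf) (⟨v, hv⟩ : V))
  rw [MulAut.conjNormal_apply] at h1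
  exact mul_inv_eq_iff_eq_mul.1 h1

/-- The involutions of a metacyclic Frattini subgroup commute. -/
theorem involutions_commute (hX : IsPGroup 2 X) (hΦ : Cfsg.IsMetacyclic ↥(frattini X)) {i j : X}
    (hi : i ∈ frattini X) (hi2 : i * i = 1) (hj : j ∈ frattini X) (hj2 : j * j = 1) :
    Commute i j := by
  by_contra hne
  obtain ⟨N, hNn, hN, hQ⟩ := hΦ
  haveI := hN
  haveI := hQ
  let π := QuotientGroup.mk' N
  -- noncommuting involutions lie outside `N` and their product lies inside
  have key : ∀ p q : X, ∀ (hp : p ∈ frattini X) (hq : q ∈ frattini X), p * p = 1 → q * q = 1 →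
      ¬ Commute p q → (⟨p * q, mul_mem hp hq⟩ : ↥(frattini X)) ∈ N := by
    intro p q hp hq hp2 hq2 hpq
    have hout : ∀ (r s : ↥(frattini X)), r * r = 1 → ¬ Commute r s → π r ≠ 1 := by
      intro r s hr hrs h1
      have hrN : r ∈ N := (QuotientGroup.eq_one_iff r).1 h1
      have h2 : s * r * s⁻¹ ∈ N := hNn.conj_mem r hrN s
      apply hrs
      classical
      haveI := Fintype.ofFinite N
      have hle := IsCyclic.card_pow_eq_one_le (α := N) two_pos
      have hr1 : r ≠ 1 := fun h => hrs (h ▸ Commute.one_left s)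
      by_contra hne'
      have hsub : ({1, ⟨r, hrN⟩, ⟨s * r * s⁻¹, h2⟩} : Finset N) ⊆
          Finset.univ.filter fun w => w ^ 2 = 1 := by
        intro w hw
        simp only [Finset.mem_insert, Finset.mem_singleton] at hw
        simp only [Finset.mem_filter, Finset.mem_univ, true_and]
        rcases hw with rfl | rfl | rfl
        · exact one_pow 2
        · exact Subtype.ext (by rw [Subgroup.coe_pow, pow_two]; exact hr)
        · exact Subtype.ext (by
            rw [Subgroup.coe_pow, conj_pow, pow_two, hr, mul_one, mul_inv_cancel, Subgroup.coe_one])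
      have h3 : ({1, ⟨r, hrN⟩, ⟨s * r * s⁻¹, h2⟩} : Finset N).card = 3 := by
        rw [Finset.card_insert_of_notMem, Finset.card_insert_of_notMem, Finset.card_singleton]
        · rw [Finset.mem_singleton, Subtype.ext_iff]
          exact fun e => hne' (mul_inv_eq_iff_eq_mul.1 e.symm).symm
        · simp only [Finset.mem_insert, Finset.mem_singleton, Subtype.ext_iff, Subgroup.coe_one]
          rintro (e | e)
          · exact hr1 (Subtype.ext e.symm)
          · exact hr1 (conj_eq_one_iff.1 (Subtype.ext e.symm))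
      have := (Finset.card_le_card hsub).trans hle
      omega
    have h1 := hout ⟨p, hp⟩ ⟨q, hq⟩ (Subtype.ext hp2) fun h => hpq (congrArg Subtype.val h.eq)
    have h2 := hout ⟨q, hq⟩ ⟨p, hp⟩ (Subtype.ext hq2) fun h => hpq (congrArg Subtype.val h.eq).symm
    classical
    haveI := Fintype.ofFinite (↥(frattini X) ⧸ N)
    have hle := IsCyclic.card_pow_eq_one_le (α := ↥(frattini X) ⧸ N) two_pos
    refine (QuotientGroup.eq_one_iff _).1 ?_
    show π (⟨p, hp⟩ * ⟨q, hq⟩) = 1
    have hpp : π ⟨p, hp⟩ * π ⟨p, hp⟩ = 1 := by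
      rw [← map_mul, show (⟨p, hp⟩ * ⟨p, hp⟩ : ↥(frattini X)) = 1 from Subtype.ext hp2, map_one]
    have hqq : π ⟨q, hq⟩ * π ⟨q, hq⟩ = 1 := by
      rw [← map_mul, show (⟨q, hq⟩ * ⟨q, hq⟩ : ↥(frattini X)) = 1 from Subtype.ext hq2, map_one]
    by_contra hne'
    have hne2 : π ⟨p, hp⟩ ≠ π ⟨q, hq⟩ := fun e => hne' (by rw [map_mul, ← e, hpp])
    have hsub : ({1, π ⟨p, hp⟩, π ⟨q, hq⟩} : Finset (↥(frattini X) ⧸ N)) ⊆
        Finset.univ.filter fun w => w ^ 2 = 1 := by
      intro w hw
      simp only [Finset.mem_insert, Finset.mem_singleton] at hw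
      simp only [Finset.mem_filter, Finset.mem_univ, true_and]
      rcases hw with rfl | rfl | rfl
      exacts [one_pow 2, (pow_two _).trans hpp, (pow_two _).trans hqq]
    have h3 : ({1, π ⟨p, hp⟩, π ⟨q, hq⟩} : Finset (↥(frattini X) ⧸ N)).card = 3 := by
      rw [Finset.card_insert_of_notMem, Finset.card_insert_of_notMem, Finset.card_singleton]
      · rw [Finset.mem_singleton]; exact hne2
      · simp only [Finset.mem_insert, Finset.mem_singleton]
        rintro (e | e)
        exacts [h1 e.symm, h2 e.symm]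
    have := (Finset.card_le_card hsub).trans hle
    omega
  -- an element of order four inverted by `i`
  obtain ⟨k, hk⟩ := IsPGroup.iff_orderOf.1 hX (i * j)
  have hi' : i⁻¹ = i := inv_eq_of_mul_eq_one_right hi2
  have hj' : j⁻¹ = j := inv_eq_of_mul_eq_one_right hj2
  have hk2 : 2 ≤ k := by
    by_contra hlt
    have h2 : (i * j) ^ 2 = 1 := by
      rw [← orderOf_dvd_iff_pow_eq_one, hk]
      interval_cases k <;> norm_num
    rw [pow_two, mul_eq_one_iff_eq_inv, mul_inv_rev, hi', hj'] at h2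
    exact hne h2
  obtain ⟨m, rfl⟩ : ∃ m, k = m + 2 := ⟨k - 2, by omega⟩
  have hu4 : orderOf ((i * j) ^ 2 ^ m) = 4 := by
    rw [orderOf_pow' _ (by positivity), hk, Nat.gcd_eq_right (pow_dvd_pow 2 (by omega)),
      Nat.pow_div (by omega) (by norm_num), show m + 2 - m = 2 by omega]
  have huN : ∀ g : X, (⟨g * (i * j) ^ 2 ^ m * g⁻¹,
      (inferInstance : (frattini X).Normal).conj_mem _ (pow_mem (mul_mem hi hj) _) g⟩ :
      ↥(frattini X)) ∈ N := by
    intro g
    have hc : ∀ w ∈ frattini X, g * w * g⁻¹ ∈ frattini X :=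
      fun w hw => (inferInstance : (frattini X).Normal).conj_mem w hw g
    have h1 := pow_mem (key _ _ (hc i hi) (hc j hj)
      (by rw [show g * i * g⁻¹ * (g * i * g⁻¹) = g * (i * i) * g⁻¹ by group, hi2, mul_one,
        mul_inv_cancel])
      (by rw [show g * j * g⁻¹ * (g * j * g⁻¹) = g * (j * j) * g⁻¹ by group, hj2, mul_one,
        mul_inv_cancel])
      fun h => hne (by
        have h' := h.map (MulAut.conj g⁻¹).toMonoidHom
        simp only [MulEquiv.coe_toMonoidHom, MulAut.conj_apply] at h'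
        rwa [show g⁻¹ * (g * i * g⁻¹) * g⁻¹⁻¹ = i by group,
          show g⁻¹ * (g * j * g⁻¹) * g⁻¹⁻¹ = j by group] at h')) (2 ^ m)
    convert h1 using 1
    refine Subtype.ext ?_
    rw [Subgroup.coe_pow]
    show g * (i * j) ^ 2 ^ m * g⁻¹ = _
    rw [← conj_pow]
    congr 1
    group
  -- the subgroup of order four it generates is normal
  obtain ⟨u, hu⟩ : ∃ u, (i * j) ^ 2 ^ m = u := ⟨_, rfl⟩
  rw [hu] at hu4
  simp only [hu] at huN
  have hun : (zpowers u).Normal := by
    refine ⟨fun w hw g => ?_⟩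
    obtain ⟨l, rfl⟩ := mem_zpowers_iff.1 hw
    rw [← conj_zpow]
    refine zpow_mem ?_ l
    have huΦ : u ∈ frattini X := hu ▸ pow_mem (mul_mem hi hj) _
    have h1 : (⟨u, huΦ⟩ : ↥(frattini X)) ∈ N := by
      have := huN 1
      simpa using this
    let u₁ : N := ⟨⟨u, huΦ⟩, h1⟩
    let v₁ : N := ⟨_, huN g⟩
    have hu₁ : orderOf u₁ = 4 := by rw [← Subgroup.orderOf_coe, ← Subgroup.orderOf_coe]; exact hu4
    have hv₁ : orderOf v₁ = 4 := by
      rw [← Subgroup.orderOf_coe, ← Subgroup.orderOf_coe]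
      show orderOf (g * u * g⁻¹) = 4
      rw [← MulAut.conj_apply]
      exact ((MulAut.conj g).orderOf_eq u).trans hu4
    obtain ⟨e, he⟩ := mem_zpowers_iff.1 (mem_zpowers_of_orderOf_eq (hv₁.trans hu₁.symm))
    exact ⟨e, congrArg (fun w : N => ((w : ↥(frattini X)) : X)) he⟩
  have h5 := commute_of_small_normal (V := zpowers u) hX (by rw [Nat.card_zpowers, hu4]) hi
    (mem_zpowers u)
  have h6 : i * u * i⁻¹ = u⁻¹ := by
    rw [← hu, ← conj_pow, ← inv_pow]
    congr 1
    rw [mul_inv_rev, hi', hj', ← mul_assoc, hi2, one_mul]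
  rw [h5.eq, mul_inv_cancel_right] at h6
  have h7 : u ^ 2 = 1 := by rw [pow_two]; nth_rewrite 1 [h6]; exact inv_mul_cancel u
  have := orderOf_dvd_of_pow_eq_one h7
  rw [hu4] at this
  norm_num at this

/-- The involutions of the Frattini subgroup. -/
def frW (X : Type u) [Group X] : Subgroup X := closure {w | w ∈ frattini X ∧ w * w = 1}

instance frW_normal : (frW X).Normal := closure_normal (by
  rintro w ⟨hw, hw2⟩ g
  refine ⟨(inferInstance : (frattini X).Normal).conj_mem w hw g, ?_⟩
  rw [show g * w * g⁻¹ * (g * w * g⁻¹) = g * (w * w) * g⁻¹ by group, hw2, mul_one, mul_inv_cancel])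

theorem mem_frW (hX : IsPGroup 2 X) (hΦ : Cfsg.IsMetacyclic ↥(frattini X)) {w : X} :
    w ∈ frW X ↔ w ∈ frattini X ∧ w * w = 1 := by
  refine ⟨fun hw => ?_, fun hw => subset_closure hw⟩
  induction hw using Subgroup.closure_induction with
  | mem x hx => exact hx
  | one => exact ⟨one_mem _, mul_one 1⟩
  | mul x y _ _ hx hy =>
    refine ⟨mul_mem hx.1 hy.1, ?_⟩
    rw [(involutions_commute hX hΦ hy.1 hy.2 hx.1 hx.2).mul_mul_mul_comm, hx.2, hy.2, one_mul]
  | inv x _ hx => exact ⟨inv_mem hx.1, by rw [← mul_inv_rev, hx.2, inv_one]⟩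

/-- A two-generated elementary abelian group has order at most four. -/
theorem card_le_four_of_pair {G : Type v} [Group G] {R : Subgroup G} {p q : G} (hp : p ∈ R)
    (hq : q ∈ R) (hR : R ≤ closure {p, q}) (hel : ∀ x ∈ R, x * x = 1) : Nat.card R ≤ 4 := by
  have hcom : ∀ x ∈ R, ∀ y ∈ R, x * y = y * x := fun x hx y hy => by
    have h := eq_inv_of_mul_eq_one_right (hel _ (mul_mem hx hy))
    rw [mul_inv_rev, ← eq_inv_of_mul_eq_one_right (hel x hx),
      ← eq_inv_of_mul_eq_one_right (hel y hy)] at h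
    exact h
  let f : Bool × Bool → R := fun s =>
    ⟨(if s.1 then p else 1) * (if s.2 then q else 1),
      mul_mem (by split_ifs <;> [exact hp; exact one_mem R])
        (by split_ifs <;> [exact hq; exact one_mem R])⟩
  suffices h : Function.Surjective f by
    have := Nat.card_le_card_of_surjective f h
    simpa using this
  rintro ⟨x, hx⟩
  have hx' := hR hx
  suffices h : ∃ s, (f s : G) = x by
    obtain ⟨s, hs⟩ := h
    exact ⟨s, Subtype.ext hs⟩
  clear hx
  induction hx' using Subgroup.closure_induction with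
  | mem z hz =>
    rcases hz with rfl | rfl
    exacts [⟨(true, false), by simp [f]⟩, ⟨(false, true), by simp [f]⟩]
  | one => exact ⟨(false, false), by simp [f]⟩
  | mul z w _ _ hz hw =>
    obtain ⟨⟨s, t⟩, rfl⟩ := hz
    obtain ⟨⟨s', t'⟩, rfl⟩ := hw
    refine ⟨(xor s s', xor t t'), ?_⟩
    have := hel p hp
    have := hel q hq
    have := hcom p hp q hq
    cases s <;> cases t <;> cases s' <;> cases t' <;> simp_all [f, mul_assoc] <;>
      simp [← mul_assoc, *] <;> simp [mul_assoc, *]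
  | inv z _ hz =>
    obtain ⟨s, rfl⟩ := hz
    exact ⟨s, eq_inv_of_mul_eq_one_right (hel _ (f s).2)⟩

theorem card_frW (hX : IsPGroup 2 X) (hΦ : Cfsg.IsMetacyclic ↥(frattini X)) :
    Nat.card (frW X) ≤ 4 := by
  have hle : frW X ≤ frattini X := fun w hw => ((mem_frW hX hΦ).1 hw).1
  obtain ⟨p, hp, q, hq, hgen⟩ :=
    Cfsg.Agent.S4419.two_generated hΦ ((frW X).subgroupOf (frattini X))
  rw [← Nat.card_congr (Subgroup.subgroupOfEquivOfLe hle).toEquiv]
  exact card_le_four_of_pair hp hq hgen fun x hx =>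
    Subtype.ext ((mem_frW hX hΦ).1 (mem_subgroupOf.1 hx)).2

theorem commute_frW (hX : IsPGroup 2 X) (hΦ : Cfsg.IsMetacyclic ↥(frattini X)) {f w : X}
    (hf : f ∈ frattini X) (hw : w ∈ frW X) : Commute f w :=
  commute_of_small_normal hX (card_frW hX hΦ) hf hw

/-- No quaternion group in the Frattini subgroup. -/
theorem no_quaternion (hX : IsPGroup 2 X) (hΦ : Cfsg.IsMetacyclic ↥(frattini X)) {Q : Subgroup X}
    (hQ : Q ≤ frattini X) (e : Q ≃* QuaternionGroup 2) : False := by
  have hcQ : Nat.card Q = 8 := by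
    rw [Nat.card_congr e.toEquiv, Nat.card_eq_fintype_card, QuaternionGroup.card]
  obtain ⟨i, j, z, hii, hjj, hzz, hz1, hij, hsq, huniq, hzc⟩ :
      ∃ i j z : Q, i * i = z ∧ j * j = z ∧ z * z = 1 ∧ z ≠ 1 ∧ i * j ≠ j * i ∧
        (∀ x : Q, x * x = 1 ∨ x * x = z) ∧ (∀ x : Q, x * x = 1 → x = 1 ∨ x = z) ∧
        ∀ x : Q, z * x = x * z := by
    have key : ∃ i j z : QuaternionGroup 2, i * i = z ∧ j * j = z ∧ z * z = 1 ∧ z ≠ 1 ∧
        i * j ≠ j * i ∧ (∀ x, x * x = 1 ∨ x * x = z) ∧ (∀ x, x * x = 1 → x = 1 ∨ x = z) ∧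
        ∀ x, z * x = x * z :=
      ⟨QuaternionGroup.a 1, QuaternionGroup.xa 0, QuaternionGroup.a 2, by decide, by decide,
        by decide, by decide, by decide, by decide, by decide, by decide⟩
    obtain ⟨i, j, z, h1, h2, h3, h4, h5, h6, h7, h8⟩ := key
    refine ⟨e.symm i, e.symm j, e.symm z, ?_, ?_, ?_, ?_, ?_, fun x => ?_, fun x hx => ?_,
      fun x => ?_⟩
    · rw [← map_mul, h1]
    · rw [← map_mul, h2]
    · rw [← map_mul, h3, map_one]
    · exact fun h => h4 (by rw [← e.apply_symm_apply z, h, map_one])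
    · rw [← map_mul, ← map_mul]; exact fun h => h5 (e.symm.injective h)
    · rcases h6 (e x) with h | h
      · left; rw [← e.symm_apply_apply (x * x), map_mul, h, map_one]
      · right; rw [← e.symm_apply_apply (x * x), map_mul, h]
    · rcases h7 (e x) (by rw [← map_mul, hx, map_one]) with h | h
      · left; rw [← e.symm_apply_apply x, h, map_one]
      · right; rw [← e.symm_apply_apply x, h]
    · rw [← e.symm_apply_apply x, ← map_mul, ← map_mul, h8]
  have hzW : (z : X) ∈ frW X := subset_closure ⟨hQ z.2, congrArg Subtype.val hzz⟩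
  by_cases hW : ∃ w ∈ frW X, w ≠ 1 ∧ w ≠ (z : X)
  · -- `Q × ⟨w⟩` is not two-generated
    obtain ⟨w, hw, hw1, hwz⟩ := hW
    obtain ⟨hwΦ, hw2⟩ := (mem_frW hX hΦ).1 hw
    have hwc : ∀ q : Q, Commute w (q : X) := fun q => (commute_frW hX hΦ (hQ q.2) hw).symm
    have hwQ : w ∉ Q := by
      intro hwQ
      rcases huniq ⟨w, hwQ⟩ (Subtype.ext hw2) with h | h
      exacts [hw1 (congrArg Subtype.val h), hwz (congrArg Subtype.val h)]
    let R : Subgroup X :=
      { carrier := {x | ∃ (q : Q) (s : Bool), x = q * if s then w else 1}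
        one_mem' := ⟨1, false, by simp⟩
        mul_mem' := by
          rintro _ _ ⟨q, s, rfl⟩ ⟨q', s', rfl⟩
          refine ⟨q * q', xor s s', ?_⟩
          have h1 : ∀ q'' : Q, w * (q'' : X) = q'' * w := fun q'' => (hwc q'').eq
          cases s <;> cases s' <;> simp [h1, mul_assoc] <;> rw [← mul_assoc w, h1, mul_assoc, hw2, mul_one]
        inv_mem' := by
          rintro _ ⟨q, s, rfl⟩
          refine ⟨q⁻¹, s, ?_⟩
          have h1 : w⁻¹ = w := inv_eq_of_mul_eq_one_right hw2
          cases s <;> simp [h1]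
          rw [← h1, ← mul_inv_rev, ← mul_inv_rev, (hwc q).eq] }
    have hRΦ : R ≤ frattini X := by
      rintro _ ⟨q, s, rfl⟩
      exact mul_mem (hQ q.2) (by cases s <;> simp [hwΦ])
    have hR2 : ∀ x ∈ R, x * x = 1 ∨ x * x = (z : X) := by
      rintro _ ⟨q, s, rfl⟩
      have h1 : (q : X) * (if s then w else 1) * ((q : X) * if s then w else 1) = q * q := by
        cases s
        · simp
        · simp only [if_true]
          rw [(hwc q).mul_mul_mul_comm, hw2, mul_one]
      rw [h1]
      rcases hsq q with h | h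
      exacts [Or.inl (congrArg Subtype.val h), Or.inr (congrArg Subtype.val h)]
    have hzR : ∀ x ∈ R, Commute (z : X) x := fun x hx => (commute_frW hX hΦ (hRΦ hx) hzW).symm
    obtain ⟨p, hp, q, hq, hgen⟩ :=
      Cfsg.Agent.S4419.two_generated hΦ (R.subgroupOf (frattini X))
    rw [mem_subgroupOf] at hp hq
    -- the quotient by `⟨z⟩` has order at most four
    have hzR' : (z : X) ∈ R := ⟨z, false, by simp⟩
    let Z := zpowers (⟨z, hzR'⟩ : R)
    haveI hZn : Z.Normal := ⟨fun u hu g => by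
      obtain ⟨l, rfl⟩ := mem_zpowers_iff.1 hu
      have hc : Commute (⟨z, hzR'⟩ : R) g := Subtype.ext (hzR g g.2).eq
      rw [← (hc.zpow_left l).eq, mul_inv_cancel_right]
      exact zpow_mem (mem_zpowers _) l⟩
    let π := QuotientGroup.mk' Z
    have hel : ∀ y : R ⧸ Z, y * y = 1 := fun y => by
      obtain ⟨x, rfl⟩ := QuotientGroup.mk'_surjective _ y
      rw [← map_mul]
      refine (QuotientGroup.eq_one_iff _).2 ?_
      rcases hR2 x x.2 with h | h
      · rw [show x * x = 1 from Subtype.ext h]; exact one_mem _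
      · rw [show x * x = ⟨z, hzR'⟩ from Subtype.ext h]; exact mem_zpowers _
    have hgenR : (⊤ : Subgroup R) ≤ Subgroup.closure ({⟨(p : X), hp⟩, ⟨(q : X), hq⟩} : Set R) := by
      intro x _
      have h1 := hgen (show (⟨x, hRΦ x.2⟩ : ↥(frattini X)) ∈ R.subgroupOf _ from x.2)
      have h2 : (x : X) ∈ (closure {p, q}).map (frattini X).subtype := ⟨_, h1, rfl⟩
      rw [MonoidHom.map_closure, Set.image_pair] at h2
      have h3 : (x : X) ∈ (closure {(⟨(p : X), hp⟩ : R), ⟨(q : X), hq⟩}).map R.subtype := by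
        rw [MonoidHom.map_closure, Set.image_pair]; exact h2
      obtain ⟨x', hx', hxx⟩ := h3
      rwa [← show x' = x from Subtype.ext hxx]
    have hquot : Nat.card (⊤ : Subgroup (R ⧸ Z)) ≤ 4 := by
      refine card_le_four_of_pair (mem_top (π ⟨(p : X), hp⟩)) (mem_top (π ⟨(q : X), hq⟩)) ?_
        fun y _ => hel y
      rw [← map_top_of_surjective π (QuotientGroup.mk'_surjective _), ← Set.image_pair,
        ← MonoidHom.map_closure]
      exact map_mono hgenR
    rw [Subgroup.card_top] at hquot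
    have hZ : Nat.card Z ≤ 2 := by
      rw [Nat.card_zpowers]
      exact orderOf_le_of_pow_eq_one two_pos (Subtype.ext (by
        rw [Subgroup.coe_pow, pow_two]; exact congrArg Subtype.val hzz))
    have hR8 : Nat.card R ≤ 8 := by
      rw [Subgroup.card_eq_card_quotient_mul_card_subgroup Z]
      calc Nat.card (R ⧸ Z) * Nat.card Z ≤ 4 * 2 := Nat.mul_le_mul hquot hZ
        _ = 8 := rfl
    have hQR : Q ≤ R := fun x hx => ⟨⟨x, hx⟩, false, by simp⟩
    have heq : Q = R := Subgroup.eq_of_le_of_card_ge hQR (by omega)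
    exact hwQ (heq ▸ (⟨1, true, by simp⟩ : w ∈ R))
  · push Not at hW
    -- a normal subgroup of order four is cyclic and central
    haveI := hX.isNilpotent
    have h8 : 4 ≤ Nat.card (frattini X) := by
      have := Subgroup.card_le_card_group (Q.subgroupOf (frattini X))
      rw [Nat.card_congr (Subgroup.subgroupOfEquivOfLe hQ).toEquiv] at this
      omega
    haveI : Fact (Nat.Prime 2) := ⟨Nat.prime_two⟩
    obtain ⟨U, hUn, hUle, hUc⟩ : ∃ U : Subgroup X, U.Normal ∧ U ≤ frattini X ∧ Nat.card U = 4 := by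
      obtain ⟨k, hk⟩ := IsPGroup.iff_card.1 (hX.to_subgroup (frattini X))
      obtain ⟨U, h1, h2, h3, h3', -⟩ := CfsgLib.PGroupRank.exists_normal_le (p := 2) hX
        (frattini X) (a := k) hk 2 (by
          by_contra hlt
          rw [hk] at h8
          interval_cases k <;> norm_num at h8)
      exact ⟨U, h1, h2, le_antisymm (h3'.trans (by norm_num)) ((by norm_num : 4 ≤ 2 ^ 2).trans h3)⟩
    haveI := hUn
    have hcen : ∀ x ∈ frattini X, ∀ u ∈ U, Commute x u := fun x hx u hu =>
      commute_of_small_normal hX hUc.le hx hu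
    obtain ⟨u, hu, hu2⟩ : ∃ u ∈ U, u * u ≠ 1 := by
      by_contra hcon
      push Not at hcon
      have hsub : U ≤ zpowers (z : X) := fun u hu => by
        by_cases h1 : u = 1
        · rw [h1]; exact one_mem _
        · rw [hW u (subset_closure ⟨hUle hu, hcon u hu⟩) h1]; exact mem_zpowers _
      have h1 := Subgroup.card_dvd_of_le hsub
      rw [hUc, Nat.card_zpowers] at h1
      have h2 := h1.trans (orderOf_dvd_of_pow_eq_one
        ((pow_two _).trans (congrArg Subtype.val hzz)))
      norm_num at h2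
    have hu4 : u * u = (z : X) := by
      refine hW _ (subset_closure ⟨mul_mem (hUle hu) (hUle hu), ?_⟩) hu2
      have h4 : (⟨u, hu⟩ : U) ^ Nat.card U = 1 := pow_card_eq_one'
      rw [hUc] at h4
      calc u * u * (u * u) = u ^ 4 := by simp only [pow_succ, pow_zero, one_mul, mul_assoc]
        _ = 1 := congrArg Subtype.val h4
    have hciu : Commute (i : X) u := hcen _ (hQ i.2) u hu
    have h1 : ((i : X) * u) * (i * u) = 1 := by
      rw [hciu.symm.mul_mul_mul_comm, show (i : X) * i = z from congrArg Subtype.val hii, hu4]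
      exact congrArg Subtype.val hzz
    have hiu : (i : X) * u ∈ Q := by
      by_cases h2 : (i : X) * u = 1
      · rw [h2]; exact one_mem _
      · rw [hW _ (subset_closure ⟨mul_mem (hQ i.2) (hUle hu), h1⟩) h2]; exact z.2
    apply hij
    rcases huniq ⟨_, hiu⟩ (Subtype.ext h1) with h | h
    · have hu' : u = ((i : X))⁻¹ := eq_inv_of_mul_eq_one_right (congrArg Subtype.val h)
      have := hcen _ (hQ j.2) u hu
      rw [hu'] at this
      exact Subtype.ext ((Commute.inv_right_iff.1 this).eq).symm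
    · have hu' : u = ((i : X))⁻¹ * z := by
        rw [← show (i : X) * u = z from congrArg Subtype.val h, inv_mul_cancel_left]
      have hjz : Commute (j : X) z := (congrArg Subtype.val (hzc j)).symm
      have h3 := (hcen _ (hQ j.2) u hu).mul_right hjz.inv_right
      rw [hu', mul_inv_cancel_right] at h3
      exact Subtype.ext ((Commute.inv_right_iff.1 h3).eq).symm

/-- An automorphism of order three of a subgroup of the Frattini subgroup. -/
theorem act_facts (hX : IsPGroup 2 X) (hΦ : Cfsg.IsMetacyclic ↥(frattini X)) {U : Subgroup X}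
    (hU : U ≤ frattini X) {θ : MulAut U} (h3 : θ ^ 3 = 1) (hne : θ ≠ 1) :
    (∀ p q : U, p * q = q * p) ∧ frW X ≤ U ∧
      (∀ u : U, θ u = u → u = 1) ∧ ∃ w : U, (w : X) ∈ frW X ∧ θ w ≠ w := by
  have hUp : IsPGroup 2 U := hX.to_subgroup U
  have hUm : Cfsg.IsMetacyclic U :=
    MetacyclicAut.isMetacyclic_of_injective (inclusion hU) (inclusion_injective hU) hΦ
  have hnp : ¬ IsPGroup 2 (MulAut U) := fun h => by
    obtain ⟨k, hk⟩ := h θ
    exact hne (orderOf_eq_one_iff.1 (Nat.eq_one_of_dvd_coprimes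
      (show Nat.Coprime (2 ^ k) 3 from Nat.Coprime.pow_left k (by norm_num))
      (orderOf_dvd_of_pow_eq_one hk) (orderOf_dvd_of_pow_eq_one h3)))
  rcases MetacyclicAut.quaternion_or_homocyclic hUp hUm hnp with ⟨⟨e⟩⟩ | ⟨n, ⟨e⟩⟩
  · exact (no_quaternion hX hΦ hU e).elim
  have hab : ∀ p q : U, p * q = q * p := fun p q => e.injective (by rw [map_mul, map_mul, mul_comm])
  obtain ⟨w, hw2, hwne⟩ : ∃ w : U, w ^ 2 = 1 ∧ θ w ≠ w := by
    by_contra hcon
    push Not at hcon
    letI : CommGroup U := { (inferInstance : Group U) with mul_comm := hab }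
    exact hne (CfsgLib.Fusion.aut_eq_one_of_abelian hUp
      ((show Nat.Coprime 3 2 by norm_num).coprime_dvd_left (orderOf_dvd_of_pow_eq_one h3)) hcon)
  have hin : ∀ v : U, v ^ 2 = 1 → (v : X) ∈ frW X := fun v hv =>
    subset_closure ⟨hU v.2, by rw [← pow_two]; exact congrArg Subtype.val hv⟩
  have hw1 : w ≠ 1 := fun h => hwne (by rw [h, map_one])
  have hθ3 : θ (θ (θ w)) = w := by
    have h := DFunLike.congr_fun h3 w
    rwa [pow_succ, pow_two, MulAut.mul_apply, MulAut.mul_apply, MulAut.one_apply] at h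
  have hinj : Function.Injective θ := θ.injective
  have h2 : θ (θ w) ≠ w := fun h => hwne ((congrArg θ h).symm.trans hθ3)
  classical
  let F : Finset X := {1, (w : X), ((θ w : U) : X), ((θ (θ w) : U) : X)}
  have hF : F.card = 4 := by
    have e1 : θ w ≠ 1 := fun h => hw1 (hinj (h.trans (map_one θ).symm))
    have e2 : θ (θ w) ≠ 1 := fun h => e1 (hinj (h.trans (map_one θ).symm))
    have e3 : θ (θ w) ≠ θ w := fun h => hwne (hinj h)
    simp only [F]
    rw [Finset.card_insert_of_notMem (by simp [eq_comm (a := (1 : X)), hw1, e1, e2]),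
      Finset.card_insert_of_notMem (by simp [hwne.symm, h2.symm]),
      Finset.card_insert_of_notMem (by simp [e3.symm]), Finset.card_singleton]
  have hθ2 : θ w ^ 2 = 1 ∧ θ (θ w) ^ 2 = 1 := by
    refine ⟨?_, ?_⟩ <;> simp only [← map_pow, hw2, map_one]
  have hFW : ∀ x ∈ F, x ∈ frW X ∧ x ∈ U := by
    intro x hx
    simp only [F, Finset.mem_insert, Finset.mem_singleton] at hx
    rcases hx with rfl | rfl | rfl | rfl
    exacts [⟨one_mem _, one_mem _⟩, ⟨hin _ hw2, w.2⟩, ⟨hin _ hθ2.1, Subtype.coe_prop _⟩,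
      ⟨hin _ hθ2.2, Subtype.coe_prop _⟩]
  have hall : ∀ x ∈ frW X, x ∈ F := by
    intro x hx
    by_contra hxF
    have hcard := card_frW hX hΦ
    have hle : (insert x F).card ≤ Nat.card (frW X) := by
      rw [← SetLike.coe_sort_coe, Nat.card_coe_set_eq, ← Set.ncard_coe_finset]
      refine Set.ncard_le_ncard (fun y hy => ?_) (Set.toFinite _)
      rcases Finset.mem_insert.1 hy with rfl | hy
      exacts [hx, (hFW y hy).1]
    rw [Finset.card_insert_of_notMem hxF, hF] at hle
    omega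
  refine ⟨hab, fun x hx => (hFW x (hall x hx)).2, fun u hu => ?_, w, hin _ hw2, hwne⟩
  by_contra hu1
  obtain ⟨m, hm⟩ := IsPGroup.iff_orderOf.1 hUp u
  have hm0 : m ≠ 0 := by rintro rfl; exact hu1 (orderOf_eq_one_iff.1 hm)
  obtain ⟨v, hv⟩ : ∃ v, u ^ 2 ^ (m - 1) = v := ⟨_, rfl⟩
  have hv1 : v ≠ 1 := by
    rw [← hv]
    refine pow_ne_one_of_lt_orderOf (by positivity) ?_
    rw [hm]
    exact Nat.pow_lt_pow_right (by norm_num) (by omega)
  have hv2 : v ^ 2 = 1 := by
    rw [← hv, ← pow_mul, ← pow_succ, show m - 1 + 1 = m by omega, ← hm, pow_orderOf_eq_one]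
  have hvfix : θ v = v := by rw [← hv, map_pow, hu]
  have hvF := hall _ (hin v hv2)
  simp only [F, Finset.mem_insert, Finset.mem_singleton, ← Subgroup.coe_one U,
    Subtype.coe_inj] at hvF
  rcases hvF with rfl | rfl | rfl | rfl
  · exact hv1 rfl
  · exact hwne hvfix
  · exact hwne (hinj hvfix)
  · exact hwne (hinj (hinj hvfix))

/-- Two conjugate elements of a 2-subgroup of the automorphisms of a group of order at most four,
conjugate under an automorphism of order three. -/
theorem two_subgroup_trivial {V : Type v} [Group V] [Finite V] (hV : Nat.card V ≤ 4)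
    {T : Subgroup (MulAut V)} (hT : IsPGroup 2 T) {σ τ : MulAut V} (hσ : σ ^ 3 = 1)
    (hfpf : ∀ x, σ x = x → x = 1) (h1 : τ ∈ T) (h2 : σ * τ * σ⁻¹ ∈ T) : τ = 1 := by
  have : Finite (MulAut V) := .of_injective _ DFunLike.coe_injective
  by_contra hne
  have hT2 : Nat.card T ≤ 2 := by
    obtain ⟨k, hk⟩ := IsPGroup.iff_card.1 hT
    have h6 : 2 ^ k ∣ 2 ^ 1 * 3 :=
      hk ▸ (Subgroup.card_subgroup_dvd_card T).trans (MetacyclicAut.card_mulAut_dvd_six hV)
    have h2' : 2 ^ k ∣ 2 := (Nat.Coprime.pow_left k (by norm_num)).dvd_of_dvd_mul_right h6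
    rw [hk]
    exact Nat.le_of_dvd two_pos h2'
  classical
  have heq : σ * τ * σ⁻¹ = τ := by
    by_contra he
    haveI := Fintype.ofFinite T
    have h3 : ({1, ⟨τ, h1⟩, ⟨_, h2⟩} : Finset T).card = 3 := by
      rw [Finset.card_insert_of_notMem, Finset.card_insert_of_notMem, Finset.card_singleton]
      · rw [Finset.mem_singleton, Subtype.ext_iff]; exact fun h => he h.symm
      · simp only [Finset.mem_insert, Finset.mem_singleton, Subtype.ext_iff, Subgroup.coe_one]
        rintro (h | h)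
        exacts [hne h.symm, hne (conj_eq_one_iff.1 h.symm)]
    have := Finset.card_le_univ ({1, ⟨τ, h1⟩, ⟨_, h2⟩} : Finset T)
    rw [← Nat.card_eq_fintype_card] at this
    omega
  have hcomm : ∀ x, σ (τ x) = τ (σ x) := fun x => by
    rw [mul_inv_eq_iff_eq_mul] at heq
    exact DFunLike.congr_fun heq x
  -- `τ` has a fixed point other than one
  obtain ⟨x, hx, hx1⟩ : ∃ x, τ x = x ∧ x ≠ 1 := by
    haveI : Fact (Nat.Prime 2) := ⟨Nat.prime_two⟩
    by_cases hd : 2 ∣ Nat.card V
    · obtain ⟨b, hb, hb1⟩ := hT.exists_fixed_point_of_prime_dvd_card_of_fixed_point V hd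
        (a := (1 : V)) (fun t => map_one (t : MulAut V))
      exact ⟨b, hb ⟨τ, h1⟩, hb1.symm⟩
    · -- order one or three: then there is only one nontrivial automorphism
      exfalso
      apply hne
      haveI := Fintype.ofFinite V
      have hV1 : Nat.card V = 1 ∨ Nat.card V = 3 := by
        have := Nat.card_pos (α := V)
        interval_cases h : Nat.card V <;> simp_all
      rcases hV1 with h | h
      · haveI := (Nat.card_eq_one_iff_unique.1 h).1
        exact MulEquiv.ext fun x => Subsingleton.elim _ _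
      · exfalso
        haveI : Fact (Nat.Prime 3) := ⟨Nat.prime_three⟩
        haveI := isCyclic_of_prime_card h
        have hσ2 : orderOf σ ∣ 2 := by
          have := orderOf_dvd_natCard σ
          rwa [IsCyclic.card_mulAut, h, Nat.totient_prime Nat.prime_three] at this
        have hs1 : σ = 1 := orderOf_eq_one_iff.1 (Nat.eq_one_of_dvd_coprimes
          (show Nat.Coprime 2 3 by norm_num) hσ2 (orderOf_dvd_of_pow_eq_one hσ))
        haveI : Nontrivial V := Finite.one_lt_card_iff_nontrivial.1 (by omega)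
        obtain ⟨y, hy⟩ := exists_ne (1 : V)
        exact hy (hfpf y (by rw [hs1, MulAut.one_apply]))
  -- its translates are all fixed
  apply hne
  have hs3 : σ (σ (σ x)) = x := by
    have h := DFunLike.congr_fun hσ x
    rwa [pow_succ, pow_two, MulAut.mul_apply, MulAut.mul_apply, MulAut.one_apply] at h
  have e0 : σ x ≠ x := fun h => hx1 (hfpf x h)
  have e1 : σ (σ x) ≠ x := fun h => e0 ((congrArg σ h).symm.trans hs3)
  have e2 : σ x ≠ 1 := fun h => hx1 (σ.injective (h.trans (map_one σ).symm))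
  have e3 : σ (σ x) ≠ 1 := fun h => e2 (σ.injective (h.trans (map_one σ).symm))
  haveI := Fintype.ofFinite V
  have hcard : ({1, x, σ x, σ (σ x)} : Finset V).card = 4 := by
    rw [Finset.card_insert_of_notMem (by simp [Ne.symm hx1, e2.symm, e3.symm]),
      Finset.card_insert_of_notMem (by simp [e0.symm, e1.symm]),
      Finset.card_insert_of_notMem (by simpa using fun h => e0 (σ.injective h).symm),
      Finset.card_singleton]
  have huniv := Finset.eq_univ_of_card _ (hcard.trans (le_antisymm (by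
    rw [← hcard]; exact Finset.card_le_univ _) (by rw [← Nat.card_eq_fintype_card]; exact hV)))
  refine MulEquiv.ext fun y => ?_
  have hy := huniv ▸ Finset.mem_univ y
  simp only [Finset.mem_insert, Finset.mem_singleton] at hy
  rw [MulAut.one_apply]
  rcases hy with rfl | rfl | rfl | rfl
  · exact map_one τ
  · exact hx
  · rw [← hcomm, hx]
  · rw [← hcomm, ← hcomm, hx]

end CfsgLib.Bicyclic
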