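import Cfsg.Agent.Bicyclic.Essential
import Cfsg.Agent.Bicyclic.Converse

/-!
In a simple group a bicyclic Sylow 2-subgroup has rank at most two: it is metacyclic, or the
dihedral case of the presentation is excluded by the focal subgroup, or the inversion squares to
the central involution.
-/

set_option autoImplicit false
set_option linter.unusedSectionVars false
set_option linter.style.haveILetI false

open scoped commutatorElement Pointwise

namespace CfsgLib.Bicyclic

open Subgroup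

universe u

variable {X : Type u} [Group X] [Finite X]

/-- A geometric sum of 2-power length. -/
theorem geom_two_pow {i : ℤ} (hi4 : i % 4 = 1) (k : ℕ) :
    (2 : ℤ) ^ k ∣ ∑ t ∈ Finset.range (2 ^ k), i ^ t ∧
      ¬ (2 : ℤ) ^ (k + 1) ∣ ∑ t ∈ Finset.range (2 ^ k), i ^ t := by
  induction k with
  | zero => simp
  | succ k ih =>
    have hS : (∑ t ∈ Finset.range (2 ^ (k + 1)), i ^ t) =
        (∑ t ∈ Finset.range (2 ^ k), i ^ t) * (1 + i ^ 2 ^ k) := by
      rw [pow_succ, mul_two, Finset.sum_range_add]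
      simp only [pow_add, ← Finset.mul_sum]
      ring
    obtain ⟨o, ho, ho2⟩ : ∃ o, 1 + i ^ 2 ^ k = 2 * o ∧ ¬ (2 : ℤ) ∣ o := by
      have := emod_four_pow hi4 (2 ^ k)
      exact ⟨(1 + i ^ 2 ^ k) / 2, by omega, by omega⟩
    rw [hS, ho]
    obtain ⟨⟨q, hq⟩, h2⟩ := ih
    rw [hq] at h2 ⊢
    rw [show (2 : ℤ) ^ k * q * (2 * o) = 2 ^ (k + 1) * (q * o) by ring]
    refine ⟨dvd_mul_right _ _, fun h => ?_⟩
    rw [pow_succ (2 : ℤ) (k + 1), mul_dvd_mul_iff_left (pow_ne_zero _ (by norm_num))] at h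
    rcases (Int.prime_two.dvd_mul).1 h with h' | h'
    · exact h2 (by rw [pow_succ]; exact mul_dvd_mul_left _ h')
    · exact ho2 h'

/-- Powers of a product with an element normalizing a cyclic group. -/
theorem pow_conj_formula {c g : X} {I : ℤ} (h : g * c * g⁻¹ = c ^ I) (k : ℤ) (N : ℕ) :
    (c ^ k * g) ^ N = c ^ (k * ∑ t ∈ Finset.range N, I ^ t) * g ^ N := by
  induction N with
  | zero => simp
  | succ N ih =>
    rw [pow_succ', ih, geom_sum_succ, mul_add, mul_one]
    generalize ∑ t ∈ Finset.range N, I ^ t = T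
    calc c ^ k * g * (c ^ (k * T) * g ^ N) = c ^ k * (g * c ^ (k * T) * g⁻¹) * (g * g ^ N) := by
          group
      _ = c ^ (k * (I * T) + k) * g ^ (N + 1) := by
          rw [← conj_zpow, h, ← zpow_mul, ← zpow_add, pow_succ',
            show k + I * (k * T) = k * (I * T) + k by ring]

namespace Rel

variable (R : Rel X)

/-- The dihedral or quaternion part. -/
def D : Subgroup X := zpowers R.c ⊔ zpowers R.b

theorem c_mem : R.c ∈ R.D := mem_sup_left (mem_zpowers _)

theorem b_mem : R.b ∈ R.D := mem_sup_right (mem_zpowers _)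

theorem comm_eq : ⁅R.a, R.b⁆ = R.c := by rw [commutatorElement_def, R.ab]; group

theorem bc_zpow (k : ℤ) : R.b * R.c ^ k * R.b⁻¹ = R.c ^ (-k) := by
  rw [← conj_zpow, R.bc, inv_zpow, zpow_neg]

theorem ac_pow (l : ℕ) (k : ℤ) : R.a ^ l * R.c ^ k * (R.a ^ l)⁻¹ = R.c ^ (R.i ^ l * k) := by
  induction l generalizing k with
  | zero => simp
  | succ l ih =>
    calc R.a ^ (l + 1) * R.c ^ k * (R.a ^ (l + 1))⁻¹
        = R.a ^ l * (R.a * R.c ^ k * R.a⁻¹) * (R.a ^ l)⁻¹ := by rw [pow_succ]; group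
      _ = _ := by rw [← conj_zpow, R.ac, ← zpow_mul, ih, pow_succ, mul_assoc]

theorem mem_D {y : X} (hy : y ∈ R.D) : ∃ k : ℤ, y = R.c ^ k ∨ y = R.c ^ k * R.b := by
  have hn : R.b ∈ normalizer (zpowers R.c : Set X) := mem_normalizer_of_conj fun x hx => by
    obtain ⟨k, rfl⟩ := mem_zpowers_iff.1 hx
    rw [R.bc_zpow]
    exact zpow_mem (mem_zpowers _) _
  have hy' : y ∈ (zpowers R.c : Set X) * (zpowers R.b : Set X) := by
    rw [← Subgroup.coe_mul_of_right_le_normalizer_left _ _ (zpowers_le.2 hn)]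
    exact hy
  obtain ⟨x, hx, z, hz, rfl⟩ := Set.mem_mul.1 hy'
  obtain ⟨k, rfl⟩ := mem_zpowers_iff.1 hx
  obtain ⟨e, rfl⟩ := mem_zpowers_iff.1 hz
  obtain ⟨d, rfl | rfl⟩ := Int.even_or_odd' e
  · refine ⟨k + (2 ^ (R.m - 1) : ℕ) * d, Or.inl ?_⟩
    rw [zpow_mul, zpow_two, ← pow_two, R.bsq, zpow_add, zpow_mul, zpow_natCast]
  · refine ⟨k + (2 ^ (R.m - 1) : ℕ) * d, Or.inr ?_⟩
    rw [zpow_add R.b, zpow_one, zpow_mul, zpow_two, ← pow_two, R.bsq, zpow_add, zpow_mul,
      zpow_natCast, mul_assoc]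

instance D_normal : R.D.Normal := by
  refine ⟨fun y hy g => ?_⟩
  have hgen : g ∈ closure ({R.a, R.b} : Set X) := R.gen.ge (mem_top g)
  have hn : closure ({R.a, R.b} : Set X) ≤ normalizer (R.D : Set X) := by
    refine (closure_le _).2 ?_
    rintro x (rfl | rfl)
    · refine mem_normalizer_of_conj fun z hz => ?_
      obtain ⟨k, rfl | rfl⟩ := R.mem_D hz
      · rw [← conj_zpow, R.ac]
        exact zpow_mem (zpow_mem R.c_mem _) _
      · rw [show R.a * (R.c ^ k * R.b) * R.a⁻¹ = (R.a * R.c ^ k * R.a⁻¹) * (R.a * R.b * R.a⁻¹) by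
          group, R.ab, ← conj_zpow, R.ac]
        exact mul_mem (zpow_mem (zpow_mem R.c_mem _) _) (mul_mem R.c_mem R.b_mem)
    · exact le_normalizer R.b_mem
  exact (mem_normalizer_iff.1 (hn hgen) y).1 hy

/-- The quotient map. -/
def proj : X →* X ⧸ R.D := QuotientGroup.mk' R.D

theorem proj_eq_one {y : X} : R.proj y = 1 ↔ y ∈ R.D := QuotientGroup.eq_one_iff y

theorem proj_gen : zpowers (R.proj R.a) = ⊤ := by
  have h : (closure ({R.a, R.b} : Set X)).map R.proj ≤ zpowers (R.proj R.a) := by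
    rw [MonoidHom.map_closure, closure_le]
    rintro x ⟨y, rfl | rfl, rfl⟩
    · exact mem_zpowers _
    · rw [SetLike.mem_coe, R.proj_eq_one.2 R.b_mem]
      exact one_mem _
  rw [R.gen, ← MonoidHom.range_eq_map, MonoidHom.range_eq_top.2
    (show Function.Surjective R.proj from QuotientGroup.mk'_surjective R.D)] at h
  exact top_le_iff.1 h

theorem orderOf_proj : orderOf (R.proj R.a) = 2 ^ R.r := by
  refine le_antisymm (Nat.le_of_dvd (pow_pos (by norm_num) _) (orderOf_dvd_of_pow_eq_one ?_)) ?_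
  · rw [← map_pow, R.apow, R.proj_eq_one]
    exact zpow_mem R.c_mem _
  have hD : Nat.card R.D ≤ 2 ^ R.n * 2 := by
    refine (card_sup_zpowers_le (mem_normalizer_of_conj fun x hx => ?_) (by norm_num)
      (show R.b ^ 2 ∈ zpowers R.c by rw [R.bsq]; exact pow_mem (mem_zpowers _) _)).trans
      (Nat.mul_le_mul_right _ ?_)
    · obtain ⟨k, rfl⟩ := mem_zpowers_iff.1 hx
      rw [R.bc_zpow]
      exact zpow_mem (mem_zpowers _) _
    · rw [Nat.card_zpowers, R.ord]
  have h := R.card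
  rw [card_eq_card_quotient_mul_card_subgroup R.D, ← card_top (G := X ⧸ R.D), ← R.proj_gen,
    Nat.card_zpowers] at h
  have h' := h.trans (Nat.mul_le_mul_left _ hD)
  rw [pow_add, pow_add, pow_one, mul_comm (orderOf _)] at h'
  exact Nat.le_of_mul_le_mul_left h' (by positivity)

/-- The subgroup of index two containing all the involutions. -/
def M : Subgroup X := (zpowers (R.proj R.a ^ 2)).comap R.proj

theorem D_le_M : R.D ≤ R.M := fun y hy => by
  show R.proj y ∈ zpowers _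
  rw [R.proj_eq_one.2 hy]
  exact one_mem _

theorem a_notMem_M : R.a ∉ R.M := by
  intro h
  obtain ⟨l, hl⟩ := mem_zpowers_iff.1 (show R.proj R.a ∈ zpowers (R.proj R.a ^ 2) from h)
  have h1 : R.proj R.a ^ (2 * l - 1) = 1 := by
    rw [zpow_sub, zpow_mul, zpow_one]
    rw [← zpow_natCast] at hl
    push_cast at hl
    rw [hl, mul_inv_cancel]
  rw [← orderOf_dvd_iff_zpow_eq_one, R.orderOf_proj] at h1
  push_cast at h1
  have hr := R.two_le'
  have : (2 : ℤ) ∣ 2 * l - 1 := (dvd_pow_self 2 (by omega)).trans h1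
  omega

theorem commutator_le_D : commutator X ≤ zpowers R.c := by
  haveI : (zpowers R.c).Normal := by
    refine ⟨fun y hy g => ?_⟩
    have hn : closure ({R.a, R.b} : Set X) ≤ normalizer (zpowers R.c : Set X) := by
      refine (closure_le _).2 ?_
      rintro x (rfl | rfl) <;> refine mem_normalizer_of_conj fun z hz => ?_
      · obtain ⟨k, rfl⟩ := mem_zpowers_iff.1 hz
        rw [← conj_zpow, R.ac]
        exact zpow_mem (zpow_mem (mem_zpowers _) _) _
      · obtain ⟨k, rfl⟩ := mem_zpowers_iff.1 hz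
        rw [R.bc_zpow]
        exact zpow_mem (mem_zpowers _) _
    exact (mem_normalizer_iff.1 (hn (R.gen.ge (mem_top g))) y).1 hy
  exact commutator_le_of_pair R.gen _ (R.comm_eq.symm ▸ mem_zpowers _)

theorem exists_decomp {y : X} (hy : y ∉ R.M) :
    ∃ (q : ℕ) (k : ℤ), ¬ 2 ∣ q ∧ (y = R.c ^ k * R.a ^ q ∨ y = R.c ^ k * R.b * R.a ^ q) := by
  have h1 : R.proj y ∈ zpowers (R.proj R.a) := R.proj_gen.ge (mem_top _)
  rw [← mem_powers_iff_mem_zpowers] at h1
  obtain ⟨q, hq⟩ := h1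
  have hq' : R.proj R.a ^ q = R.proj y := hq
  obtain ⟨k, hk⟩ := R.mem_D (R.proj_eq_one.1 (show R.proj (y * (R.a ^ q)⁻¹) = 1 by
    rw [map_mul, map_inv, map_pow, hq', mul_inv_cancel]))
  refine ⟨q, k, fun ⟨l, hl⟩ => hy ?_, hk.imp (fun h => ?_) fun h => ?_⟩
  · show R.proj y ∈ zpowers (R.proj R.a ^ 2)
    rw [← hq', hl, pow_mul]
    exact pow_mem (mem_zpowers _) _
  · exact mul_inv_eq_iff_eq_mul.1 h
  · exact mul_inv_eq_iff_eq_mul.1 h

theorem proj_pow_ne {y : X} {q N : ℕ} (hy : R.proj y = R.proj R.a ^ q) (hq : ¬ 2 ∣ q)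
    (hN : N < R.r) : y ^ 2 ^ N ∉ R.D := by
  intro h
  rw [← R.proj_eq_one, map_pow, hy, ← pow_mul, ← orderOf_dvd_iff_pow_eq_one, R.orderOf_proj] at h
  have := Nat.le_of_dvd (pow_pos (by norm_num) N)
    ((Nat.Coprime.pow_left _ ((Nat.prime_two.coprime_iff_not_dvd).2 hq)).dvd_of_dvd_mul_left h)
  exact absurd this (Nat.not_le.2 (Nat.pow_lt_pow_right (by norm_num) hN))

/-- In the dihedral case no automorphism of a subgroup sends a power of `c` outside `M`. -/
theorem not_fused (hm : R.m = R.n + 1) {P : Subgroup X} (α : MulAut P) {w : P}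
    (hw : (w : X) ∈ zpowers R.c) : ((α w : P) : X) ∈ R.M := by
  by_contra hy
  obtain ⟨l, hl⟩ := mem_zpowers_iff.1 hw
  obtain ⟨q, k, hq, hy'⟩ := R.exists_decomp hy
  have hc1 : ∀ e : ℤ, R.c ^ e = 1 ↔ (2 : ℤ) ^ R.n ∣ e := fun e => by
    rw [← orderOf_dvd_iff_zpow_eq_one, R.ord]; push_cast; rfl
  set I := R.i ^ q with hI
  have hI4 : I % 4 = 1 := emod_four_pow R.four q
  have hac : ∀ e : ℤ, R.a ^ q * R.c ^ e * (R.a ^ q)⁻¹ = R.c ^ (I * e) := R.ac_pow q
  have hsum := R.sum
  rw [hm] at hsum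
  have hr := R.two_le'
  rcases hy' with hy' | hy'
  · have hproj : R.proj ((α w : P) : X) = R.proj R.a ^ q := by
      rw [hy', map_mul, map_pow, R.proj_eq_one.2 (zpow_mem R.c_mem k), one_mul]
    have hyN : ((α w : P) : X) ^ 2 ^ R.n = 1 := by
      have h1 : (w : X) ^ 2 ^ R.n = 1 := by
        rw [← hl, ← zpow_natCast, ← zpow_mul, hc1]
        push_cast
        exact dvd_mul_left _ _
      have h2 : w ^ 2 ^ R.n = 1 := Subtype.ext (by rw [Subgroup.coe_pow]; exact h1)
      rw [← Subgroup.coe_pow, ← map_pow, h2, map_one, Subgroup.coe_one]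
    by_cases hnr : R.n < R.r
    · exact R.proj_pow_ne hproj hq hnr (by rw [hyN]; exact one_mem _)
    · obtain ⟨d, hd⟩ : ∃ d, R.n = R.r + d := ⟨R.n - R.r, by omega⟩
      have hcc : R.a ^ q * R.c * (R.a ^ q)⁻¹ = R.c ^ I := by
        have := hac 1
        rwa [zpow_one, mul_one] at this
      rw [hy', hd, pow_add, pow_mul, pow_conj_formula hcc, ← pow_mul, mul_comm q, pow_mul,
        R.apow, ← zpow_natCast _ q, ← zpow_mul, ← zpow_add, ← zpow_natCast, ← zpow_mul, hc1,
        hd, pow_add] at hyN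
      push_cast at hyN
      rw [mul_dvd_mul_iff_right (pow_ne_zero _ (by norm_num))] at hyN
      obtain ⟨hS', -⟩ := geom_two_pow hI4 R.r
      have h2s : (2 : ℤ) ^ R.r ∣ R.s * q := (dvd_add_right (hS'.mul_left k)).1 hyN
      have hqz : ¬ (2 : ℤ) ∣ q := by omega
      have hs' : (2 : ℤ) ^ R.r ∣ R.s := (coprime_two_pow hqz R.r).dvd_of_dvd_mul_right h2s
      refine (geom_two_pow R.four R.r).2 ?_
      rw [← sub_add_cancel (∑ t ∈ Finset.range (2 ^ R.r), R.i ^ t) (2 * R.s)]
      refine dvd_add ((pow_dvd_pow 2 (by omega)).trans hsum) ?_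
      rw [pow_succ']
      exact mul_dvd_mul_left 2 hs'
  · have hproj : R.proj ((α w : P) : X) = R.proj R.a ^ q := by
      rw [hy', map_mul, map_mul, map_pow, R.proj_eq_one.2 (zpow_mem R.c_mem k),
        R.proj_eq_one.2 R.b_mem, one_mul, one_mul]
    have hconj : ∀ e : ℤ, ((α w : P) : X) * R.c ^ e * ((α w : P) : X)⁻¹ = R.c ^ (-(I * e)) := by
      intro e
      rw [hy']
      calc R.c ^ k * R.b * R.a ^ q * R.c ^ e * (R.c ^ k * R.b * R.a ^ q)⁻¹
          = R.c ^ k * (R.b * (R.a ^ q * R.c ^ e * (R.a ^ q)⁻¹) * R.b⁻¹) * (R.c ^ k)⁻¹ := by group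
        _ = _ := by rw [hac, R.bc_zpow]; group
    -- the square of `w` lies in the derived subgroup of `P`
    have hcomm : ((⁅α w, w⁆ : P) : X) = R.c ^ (2 * l * (-((I + 1) / 2))) := by
      show ⁅((α w : P) : X), (w : X)⁆ = _
      rw [commutatorElement_def, ← hl, hconj, ← zpow_neg, ← zpow_add]
      congr 1
      obtain ⟨o, ho⟩ : (2 : ℤ) ∣ I + 1 := by omega
      rw [ho, Int.mul_ediv_cancel_left _ (by norm_num)]
      linear_combination (-l) * ho
    have hodd : ¬ (2 : ℤ) ∣ -((I + 1) / 2) := by omega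
    obtain ⟨u, v, huv⟩ := coprime_two_pow hodd R.n
    have hw2 : w ^ 2 ∈ commutator P := by
      have h1 : w ^ 2 = ⁅α w, w⁆ ^ v := Subtype.ext (by
        rw [Subgroup.coe_zpow, Subgroup.coe_pow, hcomm, ← hl, ← zpow_natCast, ← zpow_mul,
          ← zpow_mul, ← mul_inv_eq_one, ← zpow_neg, ← zpow_add, hc1]
        refine ⟨2 * l * u, ?_⟩
        push_cast
        linear_combination (-(2 * l)) * huv)
      rw [h1]
      exact zpow_mem (comm_mem_commutator _ _) v
    have hy2 : (α w) ^ 2 ∈ commutator P := by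
      rw [← map_pow]
      exact characteristic_iff_le_comap.1 (inferInstance : (commutator P).Characteristic) α hw2
    have hle : (commutator P).map P.subtype ≤ zpowers R.c :=
      le_trans (by
        rw [_root_.commutator_def, map_commutator, _root_.commutator_def]
        exact commutator_mono le_top le_top) R.commutator_le_D
    exact R.proj_pow_ne (N := 1) hproj hq (by omega)
      (mem_sup_left (hle ⟨_, hy2, by simp⟩))

/-- The quaternion case has rank two. -/
theorem rank_le (hm : R.m = R.n) : Cfsg.PRankLE 2 2 X := by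
  intro E _ hE
  let g : E →* X ⧸ R.D := R.proj.comp E.subtype
  have hn : 1 ≤ R.n := R.one_le
  have hker : Nat.card g.ker ≤ 2 := by
    have hle : g.ker.map E.subtype ≤ zpowers (R.c ^ 2 ^ (R.n - 1)) := by
      rintro _ ⟨x, hx, rfl⟩
      have hxD : (x : X) ∈ R.D := R.proj_eq_one.1 hx
      have hx2 : (x : X) ^ 2 = 1 := hE x x.2
      obtain ⟨k, hk | hk⟩ := R.mem_D hxD
      · show (x : X) ∈ _
        rw [hk]
        rw [hk, ← zpow_natCast, ← zpow_mul, ← orderOf_dvd_iff_zpow_eq_one, R.ord] at hx2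
        push_cast at hx2
        obtain ⟨N', hN'⟩ : ∃ N', R.n = N' + 1 := ⟨R.n - 1, by omega⟩
        rw [hN', pow_succ, mul_dvd_mul_iff_right (by norm_num)] at hx2
        obtain ⟨d, hd⟩ := hx2
        refine mem_zpowers_iff.2 ⟨d, ?_⟩
        rw [hd, zpow_mul, show R.n - 1 = N' by omega, ← zpow_natCast]
        norm_num
      · exfalso
        have h3 : (R.c ^ k * R.b) ^ 2 = R.b ^ 2 := by
          rw [pow_two, pow_two]
          calc R.c ^ k * R.b * (R.c ^ k * R.b) = R.c ^ k * (R.b * R.c ^ k * R.b⁻¹) * (R.b * R.b) := by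
                group
            _ = _ := by rw [R.bc_zpow]; group
        rw [hk, h3, R.bsq, hm] at hx2
        have := orderOf_dvd_of_pow_eq_one hx2
        rw [R.ord] at this
        have := (Nat.pow_dvd_pow_iff_le_right (by norm_num : 1 < 2)).1 this
        omega
    rw [← card_map_of_injective E.subtype_injective]
    refine (Nat.le_of_dvd Nat.card_pos (card_dvd_of_le hle)).trans ?_
    rw [Nat.card_zpowers]
    refine Nat.le_of_dvd (by norm_num) (orderOf_dvd_of_pow_eq_one ?_)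
    rw [← pow_mul, ← pow_succ, show R.n - 1 + 1 = R.n by omega, ← R.ord, pow_orderOf_eq_one]
  have hrange : Nat.card g.range ≤ 2 := by
    have hr := R.two_le'
    obtain ⟨r', hr'⟩ : ∃ r', R.r = r' + 1 := ⟨R.r - 1, by omega⟩
    have hle : g.range ≤ zpowers (R.proj R.a ^ 2 ^ r') := by
      rintro _ ⟨x, rfl⟩
      obtain ⟨e, he⟩ := mem_zpowers_iff.1 (R.proj_gen.ge (mem_top (g x)))
      have h1 : (g x) ^ 2 = 1 := by
        show (R.proj x) ^ 2 = 1
        rw [← map_pow, hE x x.2, map_one]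
      rw [← he, ← zpow_natCast, ← zpow_mul, ← orderOf_dvd_iff_zpow_eq_one, R.orderOf_proj] at h1
      push_cast at h1
      rw [hr', pow_succ, mul_dvd_mul_iff_right (by norm_num)] at h1
      obtain ⟨d, hd⟩ := h1
      refine mem_zpowers_iff.2 ⟨d, ?_⟩
      rw [← he, hd, zpow_mul, ← zpow_natCast (R.proj R.a) (2 ^ r')]
      norm_num
    refine (Nat.le_of_dvd Nat.card_pos (card_dvd_of_le hle)).trans ?_
    rw [Nat.card_zpowers]
    refine Nat.le_of_dvd (by norm_num) (orderOf_dvd_of_pow_eq_one ?_)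
    rw [← pow_mul, ← pow_succ, ← hr', ← R.orderOf_proj, pow_orderOf_eq_one]
  rw [card_eq_card_quotient_mul_card_subgroup g.ker,
    Nat.card_congr (QuotientGroup.quotientKerEquivRange g).toEquiv]
  exact (Nat.mul_le_mul hrange hker).trans (by norm_num)

end Rel

end CfsgLib.Bicyclic
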