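import Cfsg.Agent.Bicyclic.Counting

/-!
A presentation of a bicyclic non-metacyclic 2-group with cyclic derived subgroup.
-/

set_option autoImplicit false
set_option linter.unusedSectionVars false
set_option linter.style.haveILetI false

open scoped commutatorElement

namespace CfsgLib.Bicyclic

open Subgroup

universe u

variable {X : Type u} [Group X] [Finite X]

/-- Generators and relations. -/
structure Rel (X : Type u) [Group X] where
  /-- The generator of large order. -/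
  a : X
  /-- The generator acting as an inversion. -/
  b : X
  /-- The generator of the derived subgroup. -/
  c : X
  /-- The exponent of the order of `a` modulo the derived subgroup. -/
  r : ℕ
  /-- The exponent of the order of `c`. -/
  n : ℕ
  /-- The exponent of the order of the root of unity. -/
  m : ℕ
  /-- The action of `a`. -/
  i : ℤ
  /-- The power of `a`. -/
  s : ℤ
  one_le : 1 ≤ n
  two_le : 2 ≤ m
  n_le : n ≤ m
  le_n : m ≤ n + 1
  ord : orderOf c = 2 ^ n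
  gen : closure ({a, b} : Set X) = ⊤
  ac : a * c * a⁻¹ = c ^ i
  bc : b * c * b⁻¹ = c⁻¹
  ab : a * b * a⁻¹ = c * b
  bsq : b ^ 2 = c ^ 2 ^ (m - 1)
  apow : a ^ 2 ^ r = c ^ s
  four : i % 4 = 1
  card : 2 ^ (n + 1 + r) ≤ Nat.card X
  ipow : (2 : ℤ) ^ m ∣ i ^ 2 ^ r - 1
  sum : (2 : ℤ) ^ m ∣ (∑ t ∈ Finset.range (2 ^ r), i ^ t) - 2 * s
  fix_ : (2 : ℤ) ^ n ∣ (i - 1) * s
  two_le' : 2 ≤ r

theorem geom_mod_four {i : ℤ} (hi4 : i % 4 = 1) (l : ℕ) :
    (4 : ℤ) ∣ (∑ t ∈ Finset.range l, i ^ t) - l := by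
  induction l with
  | zero => simp
  | succ l ih =>
    rw [Finset.sum_range_succ, Nat.cast_succ]
    have h : i ^ l ≡ 1 ^ l [ZMOD 4] := Int.ModEq.pow l hi4
    rw [one_pow] at h
    rw [show (∑ t ∈ Finset.range l, i ^ t) + i ^ l - ((l : ℤ) + 1) =
      ((∑ t ∈ Finset.range l, i ^ t) - l) - (1 - i ^ l) by ring]
    exact dvd_sub ih (Int.modEq_iff_dvd.1 h)

theorem coprime_two_pow {o : ℤ} (ho : ¬ (2 : ℤ) ∣ o) (n : ℕ) : IsCoprime ((2 : ℤ) ^ n) o :=
  ((Int.prime_two.coprime_iff_not_dvd).2 ho).pow_left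

/-- The presentation. -/
theorem exists_rel (hX : IsPGroup 2 X) (hb : IsBicyclic X) (hm : ¬ Cfsg.IsMetacyclic X)
    (hcyc : IsCyclic ↥(commutator X)) : Nonempty (Rel X) := by
  haveI : Fact (Nat.Prime 2) := ⟨Nat.prime_two⟩
  obtain ⟨G⟩ := exists_gens hX hb hm
  obtain ⟨c, hc⟩ : ∃ c, c = ⁅G.a, G.b⁆ := ⟨_, rfl⟩
  have hcX : c ∈ commutator X := hc ▸ comm_mem_commutator _ _
  have hcK : c ∉ lowK X := hc ▸ G.notmem
  obtain ⟨n, hn⟩ : ∃ n, orderOf c = 2 ^ n := by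
    obtain ⟨k, hk⟩ := hX c
    obtain ⟨n, -, hn⟩ := (Nat.dvd_prime_pow Nat.prime_two).1 (orderOf_dvd_of_pow_eq_one hk)
    exact ⟨n, hn⟩
  have hn1 : 1 ≤ n := by
    rcases Nat.eq_zero_or_pos n with h | h
    · rw [h, pow_zero, orderOf_eq_one_iff] at hn
      exact absurd (hn ▸ one_mem (lowK X)) hcK
    · exact h
  have hN : ∀ e : ℤ, c ^ e = 1 ↔ (2 : ℤ) ^ n ∣ e := fun e => by
    rw [← orderOf_dvd_iff_zpow_eq_one, hn]; push_cast; rfl
  have hNeq : ∀ e f : ℤ, c ^ e = c ^ f ↔ (2 : ℤ) ^ n ∣ e - f := fun e f => by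
    rw [← hN, zpow_sub, mul_inv_eq_one]
  -- the derived subgroup is generated by `c`
  obtain ⟨⟨g, hgX⟩, hg⟩ := hcyc.exists_zpow_surjective
  have hgen' : ∀ u ∈ commutator X, ∃ l : ℤ, g ^ l = u := fun u hu => by
    obtain ⟨l, hl⟩ := hg ⟨u, hu⟩
    exact ⟨l, congrArg Subtype.val hl⟩
  obtain ⟨l, hl⟩ := hgen' c hcX
  have hlodd : ¬ (2 : ℤ) ∣ l := by
    rintro ⟨e, rfl⟩
    refine hcK ?_
    rw [← hl, mul_comm, zpow_mul, show (g ^ e) ^ (2 : ℤ) = (g ^ e) ^ 2 from zpow_natCast _ 2]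
    exact sq_mem_lowK (zpow_mem hgX e)
  obtain ⟨e, he⟩ := hX g
  obtain ⟨u₀, v₀, huv⟩ := coprime_two_pow hlodd e
  have hgc : g = c ^ v₀ := by
    have h0 : g ^ (((2 : ℤ) ^ e) * u₀) = 1 := by
      rw [zpow_mul, show ((2 : ℤ) ^ e) = ((2 ^ e : ℕ) : ℤ) by push_cast; rfl, zpow_natCast, he,
        one_zpow]
    calc g = g ^ (u₀ * (2 : ℤ) ^ e + v₀ * l) := by rw [huv, zpow_one]
      _ = c ^ v₀ := by rw [zpow_add, mul_comm u₀, h0, one_mul, mul_comm v₀, zpow_mul, hl]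
  have hX' : ∀ u ∈ commutator X, ∃ l : ℤ, c ^ l = u := fun u hu => by
    obtain ⟨l, hl⟩ := hgen' u hu
    exact ⟨v₀ * l, by rw [zpow_mul, ← hgc, hl]⟩
  have hodd : ∀ x : X, ∃ e : ℤ, x * c * x⁻¹ = c ^ e ∧ ¬ (2 : ℤ) ∣ e := by
    intro x
    obtain ⟨e, he⟩ := hX' _ ((inferInstance : (commutator X).Normal).conj_mem c hcX x)
    refine ⟨e, he.symm, ?_⟩
    rintro ⟨f, rfl⟩
    refine hcK ?_
    have h1 := (inferInstance : (lowK X).Normal).conj_mem _ (sq_mem_lowK (zpow_mem hcX f)) x⁻¹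
    rw [show (c ^ f) ^ 2 = c ^ (2 * f) by rw [← zpow_natCast, ← zpow_mul, mul_comm]; rfl, he] at h1
    rwa [show x⁻¹ * (x * c * x⁻¹) * x⁻¹⁻¹ = c by group] at h1
  have hK : ∀ u ∈ lowK X, ∃ l : ℤ, c ^ (2 * l) = u := by
    intro u hu
    have hle : lowK X ≤ zpowers (c ^ (2 : ℤ)) := by
      refine (closure_le _).2 ?_
      rintro x (⟨w, hw, rfl⟩ | ⟨w, hw, y, rfl⟩)
      · obtain ⟨l, rfl⟩ := hX' w hw
        refine ⟨l, ?_⟩
        show (c ^ (2 : ℤ)) ^ l = (c ^ l) ^ 2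
        rw [← zpow_natCast (c ^ l) 2, ← zpow_mul, ← zpow_mul, mul_comm]; rfl
      · obtain ⟨l, rfl⟩ := hX' w hw
        obtain ⟨e, he, he2⟩ := hodd y
        obtain ⟨f, hf⟩ : (2 : ℤ) ∣ 1 - e := by omega
        refine ⟨f * l, ?_⟩
        show (c ^ (2 : ℤ)) ^ (f * l) = _
        rw [← zpow_mul, ← mul_assoc, ← hf, sub_mul, one_mul, zpow_sub, zpow_mul, ← he,
          ← conj_zpow.symm, commutatorElement_def]
        group
    obtain ⟨l, hl⟩ := mem_zpowers_iff.1 (hle hu)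
    exact ⟨l, by rw [zpow_mul, hl]⟩
  obtain ⟨i₀, hi₀, hi₀2⟩ := hodd G.a
  obtain ⟨j, hj, hj2⟩ := hodd G.b
  obtain ⟨β, hβ⟩ := hK _ G.sq
  have hab0 : G.a * G.b * G.a⁻¹ = c * G.b := by rw [hc, commutatorElement_def]; group
  have hconj : ∀ (x : X) (e : ℤ), x * c * x⁻¹ = c ^ e → ∀ l : ℤ, x * c ^ l * x⁻¹ = c ^ (e * l) :=
    fun x e h l => by rw [← conj_zpow, h, zpow_mul]
  have eq1 : (2 : ℤ) ^ n ∣ i₀ * (2 * β) - (1 + j + 2 * β) := by
    rw [← hNeq, ← hconj G.a i₀ hi₀, hβ, zpow_add, zpow_add, hβ, zpow_one, ← hj]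
    calc G.a * G.b ^ 2 * G.a⁻¹ = (G.a * G.b * G.a⁻¹) * (G.a * G.b * G.a⁻¹) := by
          rw [pow_two]; group
      _ = c * (G.b * c * G.b⁻¹) * G.b ^ 2 := by rw [hab0]; group
  have eq2 : (2 : ℤ) ^ n ∣ j * (2 * β) - 2 * β := by
    rw [← hNeq, ← hconj G.b j hj, hβ]; group
  obtain ⟨t, ht⟩ : (2 : ℤ) ∣ i₀ - 1 := by omega
  have h4β : (2 : ℤ) ^ n ∣ 4 * β := by
    have h := dvd_add eq2 (eq1.mul_left (2 * β))
    rw [show j * (2 * β) - 2 * β + 2 * β * (i₀ * (2 * β) - (1 + j + 2 * β)) =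
      4 * β * (β * (i₀ - 1) - 1) by ring] at h
    refine (coprime_two_pow ?_ n).dvd_of_dvd_mul_right h
    rw [ht, mul_left_comm]; omega
  have hbc : G.b * c * G.b⁻¹ = c⁻¹ := by
    rw [hj, ← zpow_neg_one, hNeq]
    have h := dvd_sub (h4β.mul_left t) eq1
    rwa [show t * (4 * β) - (i₀ * (2 * β) - (1 + j + 2 * β)) = j - -1 by
      linear_combination (-2 * β) * ht] at h
  -- the cardinality
  have hcard : 2 ^ (n + 1 + G.r) ≤ Nat.card X := by
    haveI : NeZero (2 ^ n) := ⟨pow_ne_zero _ (by norm_num)⟩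
    let f : (Fin (2 ^ n) × Fin 2) × Fin (2 ^ G.r) → X := fun p =>
      G.a ^ (p.2 : ℕ) * G.b ^ (p.1.2 : ℕ) * c ^ (p.1.1 : ℕ)
    have hf : Function.Injective f := by
      rintro ⟨⟨u, v⟩, t⟩ ⟨⟨u', v'⟩, t'⟩ h
      let π := QuotientGroup.mk' (commutator X)
      have hk : ∀ x, π x = 1 ↔ x ∈ commutator X := fun x => QuotientGroup.eq_one_iff x
      haveI : IsMulCommutative (X ⧸ commutator X) :=
        Normal.quotient_commutative_iff_commutator_le.2 le_rfl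
      have h1 := congrArg π h
      simp only [f, map_mul, map_pow, (hk c).2 hcX, one_pow, mul_one] at h1
      have h2 : G.a ^ ((t : ℤ) - t') * G.b ^ ((v : ℤ) - v') ∈ commutator X := by
        rw [← hk, map_mul, map_zpow, map_zpow, zpow_sub, zpow_sub, zpow_natCast, zpow_natCast,
          zpow_natCast, zpow_natCast]
        have hc' : ∀ x y : X ⧸ commutator X, x * y = y * x := fun x y => mul_comm' x y
        rw [mul_assoc, ← mul_assoc _ (π G.b ^ (v : ℕ)), hc' _ (π G.b ^ (v : ℕ)),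
          mul_assoc (π G.b ^ (v : ℕ)), ← mul_assoc (π G.a ^ (t : ℕ)), h1, ← mul_inv_rev,
          hc' (π G.b ^ (v' : ℕ)), mul_inv_cancel]
      obtain ⟨⟨d1, hd1⟩, ⟨d2, hd2⟩⟩ := G.indep _ _ h2
      have ht := t.isLt
      have ht' := t'.isLt
      have hv := v.isLt
      have hv' := v'.isLt
      have htt : (t : ℕ) = t' := by
        refine Nat.ModEq.eq_of_lt_of_lt (m := 2 ^ G.r) ?_ ht ht'
        rw [← Int.natCast_modEq_iff, Int.modEq_iff_dvd]
        exact ⟨-d1, by push_cast; linarith⟩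
      have hvv : (v : ℕ) = v' := by omega
      obtain rfl : t = t' := Fin.ext htt
      obtain rfl : v = v' := Fin.ext hvv
      have h3 : c ^ (u : ℕ) = c ^ (u' : ℕ) := mul_left_cancel h
      have hu := u.isLt
      have hu' := u'.isLt
      exact Prod.ext (Prod.ext (Fin.ext (pow_injOn_Iio_orderOf (by simpa [hn] using hu)
        (by simpa [hn] using hu') h3)) rfl) rfl
    have := Nat.card_le_card_of_injective f hf
    simpa [pow_add, pow_one, Nat.card_prod] using this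
  -- normalise the action of `a`
  obtain ⟨a, i, hgen, hac, hab, hapow, hi4⟩ : ∃ (a : X) (i : ℤ), closure ({a, G.b} : Set X) = ⊤ ∧
      a * c * a⁻¹ = c ^ i ∧ a * G.b * a⁻¹ = c * G.b ∧ a ^ 2 ^ G.r ∈ lowK X ∧ i % 4 = 1 := by
    rcases (show i₀ % 4 = 1 ∨ i₀ % 4 = 3 by omega) with h | h
    · exact ⟨G.a, i₀, G.gen, hi₀, hab0, G.apow, h⟩
    · refine ⟨G.a * G.b, -i₀, ?_, ?_, ?_, G.abpow, by omega⟩
      · refine top_le_iff.1 (G.gen.ge.trans ((closure_le _).2 ?_))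
        rintro x (rfl | rfl)
        · have h1 : G.a * G.b * G.b⁻¹ ∈ closure ({G.a * G.b, G.b} : Set X) :=
            mul_mem (subset_closure (by simp)) (inv_mem (subset_closure (by simp)))
          rwa [mul_inv_cancel_right] at h1
        · exact subset_closure (by simp)
      · calc G.a * G.b * c * (G.a * G.b)⁻¹ = G.a * (G.b * c * G.b⁻¹) * G.a⁻¹ := by group
          _ = c ^ (-i₀) := by
            rw [hbc, ← zpow_neg_one, hconj _ _ hi₀, mul_neg_one]
      · rw [← hab0]; group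
  obtain ⟨s, hs⟩ := hK _ hapow
  have hC := hconj a i hac
  have hCl : ∀ l : ℕ, ∀ e : ℤ, a ^ l * c ^ e * (a ^ l)⁻¹ = c ^ (i ^ l * e) := by
    intro l
    induction l with
    | zero => intro e; simp
    | succ l ih =>
      intro e
      calc a ^ (l + 1) * c ^ e * (a ^ (l + 1))⁻¹ = a * (a ^ l * c ^ e * (a ^ l)⁻¹) * a⁻¹ := by
            rw [pow_succ']; group
        _ = _ := by rw [ih, hC, pow_succ', mul_assoc]
  have hBl : ∀ l : ℕ, a ^ l * G.b * (a ^ l)⁻¹ = c ^ (∑ t ∈ Finset.range l, i ^ t) * G.b := by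
    intro l
    induction l with
    | zero => simp
    | succ l ih =>
      rw [geom_sum_succ, pow_succ']
      generalize ∑ t ∈ Finset.range l, i ^ t = T at ih ⊢
      calc a * a ^ l * G.b * (a * a ^ l)⁻¹ = a * (a ^ l * G.b * (a ^ l)⁻¹) * a⁻¹ := by group
        _ = (a * c ^ T * a⁻¹) * (a * G.b * a⁻¹) := by rw [ih]; group
        _ = c ^ (i * T + 1) * G.b := by rw [hC, hab, zpow_add, zpow_one, mul_assoc]
  have his : (2 : ℤ) ^ n ∣ (i - 1) * (2 * s) := by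
    rw [show (i - 1) * (2 * s) = i * (2 * s) - 2 * s by ring, ← hNeq, ← hC, hs]
    group
  have hsum : (2 : ℤ) ^ n ∣ (∑ t ∈ Finset.range (2 ^ G.r), i ^ t) - 2 * (2 * s) := by
    rw [← hNeq]
    refine mul_right_cancel (b := G.b) ?_
    rw [← hBl, ← hs, show (2 : ℤ) * (2 * s) = 2 * s + 2 * s by ring, zpow_add, ← zpow_neg,
      mul_assoc, mul_assoc]
    congr 1
    have h2 := hconj G.b (-1) (by rw [hbc, zpow_neg_one]) (-(2 * s))
    rw [neg_one_mul, neg_neg] at h2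
    exact mul_inv_eq_iff_eq_mul.1 h2
  have hsum' : ∀ M : ℕ, n ≤ M → M ≤ n + 1 →
      (2 : ℤ) ^ M ∣ (∑ t ∈ Finset.range (2 ^ G.r), i ^ t) - 2 * (2 * s) →
      (2 : ℤ) ^ M ∣ i ^ 2 ^ G.r - 1 := by
    intro M hM1 hM2 h
    rw [← geom_sum_mul]
    generalize ∑ t ∈ Finset.range (2 ^ G.r), i ^ t = T at h ⊢
    rw [show T * (i - 1) = (T - 2 * (2 * s)) * (i - 1) + 2 * ((i - 1) * (2 * s)) by ring]
    refine dvd_add (h.mul_right _) ((pow_dvd_pow 2 hM2).trans ?_)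
    rw [pow_succ']
    exact mul_dvd_mul_left 2 his
  by_cases hb1 : (2 : ℤ) ^ n ∣ 2 * β
  · have hb2 : G.b ^ 2 = 1 := by rw [← hβ, hN]; exact hb1
    by_cases hsum2 : (2 : ℤ) ^ (n + 1) ∣ (∑ t ∈ Finset.range (2 ^ G.r), i ^ t) - 2 * (2 * s)
    · refine ⟨⟨a, G.b, c, G.r, n, n + 1, i, 2 * s, hn1, by omega, by omega, le_rfl, hn, hgen, hac,
        hbc, hab, ?_, hs.symm, hi4, hcard, hsum' _ (by omega) le_rfl hsum2, hsum2, his, G.two_le⟩⟩
      rw [hb2, Nat.add_sub_cancel, ← hn, pow_orderOf_eq_one]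
    · -- change `b`
      obtain ⟨k, hk⟩ : ∃ k, G.r = k + 1 := ⟨G.r - 1, by have := G.two_le; omega⟩
      have hn2 : 2 ≤ n := by
        by_contra hlt
        refine hsum2 ((pow_dvd_pow (2 : ℤ) (show n + 1 ≤ 2 by omega)).trans ?_)
        have h1 := geom_mod_four hi4 (2 ^ G.r)
        obtain ⟨q, hq⟩ : (4 : ℤ) ∣ ((2 ^ G.r : ℕ) : ℤ) := by
          push_cast
          exact (show (4 : ℤ) = 2 ^ 2 by norm_num) ▸ pow_dvd_pow 2 G.two_le
        norm_num
        omega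
      let T : ℤ := ∑ t ∈ Finset.range (2 ^ k), i ^ t
      have hS : (∑ t ∈ Finset.range (2 ^ G.r), i ^ t) = T * (1 + i ^ 2 ^ k) := by
        rw [hk, pow_succ, mul_two, Finset.sum_range_add]
        simp only [pow_add, ← Finset.mul_sum, T]
        ring
      rw [hS] at hsum hsum2
      obtain ⟨o, ho⟩ : (2 : ℤ) ∣ 1 + i ^ 2 ^ k := by
        have := geom_mod_four hi4 (2 ^ k + 1)
        have h2 := geom_mod_four hi4 (2 ^ k)
        rw [Finset.sum_range_succ] at this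
        push_cast at this h2
        omega
      have hi'4 : (4 : ℤ) ∣ i ^ 2 ^ k - 1 := by
        have := geom_mod_four hi4 (2 ^ k + 1)
        have h2 := geom_mod_four hi4 (2 ^ k)
        rw [Finset.sum_range_succ] at this
        push_cast at this h2
        omega
      have hoodd : ¬ (2 : ℤ) ∣ o := by omega
      obtain ⟨N', hN'⟩ : ∃ N', n = N' + 1 := ⟨n - 1, by omega⟩
      have hx : (2 : ℤ) ^ N' ∣ T * o - 2 * s := by
        rw [hN', pow_succ', ho, show T * (2 * o) - 2 * (2 * s) = 2 * (T * o - 2 * s) by ring] at hsum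
        exact (mul_dvd_mul_iff_left (by norm_num)).1 hsum
      have hx2 : ¬ (2 : ℤ) ^ n ∣ T * o - 2 * s := fun h => hsum2 (by
        rw [ho, show T * (2 * o) - 2 * (2 * s) = 2 * (T * o - 2 * s) by ring, pow_succ']
        exact mul_dvd_mul_left 2 h)
      have hi' : (2 : ℤ) ^ n ∣ i ^ 2 ^ k - 1 := by
        refine (coprime_two_pow hoodd n).dvd_of_dvd_mul_left ?_
        rw [← geom_sum_mul, show o * (T * (i - 1)) = (T * o - 2 * s) * (i - 1) + (i - 1) * (2 * s) by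
          ring]
        refine dvd_add ?_ his
        rw [hN', pow_succ]
        exact mul_dvd_mul hx (by omega)
      have hTeven : (2 : ℤ) ∣ T := by
        have h1 := geom_mod_four hi4 (2 ^ k)
        have h2 : (2 : ℤ) ∣ ((2 ^ k : ℕ) : ℤ) := by
          push_cast
          exact dvd_pow_self 2 (by have := G.two_le; omega)
        omega
      have ho1 : (2 : ℤ) ^ N' ∣ o - 1 := by
        rw [hN', pow_succ', show i ^ 2 ^ k - 1 = 2 * (o - 1) by omega] at hi'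
        exact (mul_dvd_mul_iff_left (by norm_num)).1 hi'
      have hTo : (2 : ℤ) ^ n ∣ (o - 1) * T := by
        rw [hN', pow_succ]; exact mul_dvd_mul ho1 hTeven
      have hTs : c ^ (T - 2 * s) = c ^ ((2 : ℤ) ^ N') := by
        rw [hNeq]
        obtain ⟨q, hq⟩ := hx
        have hqodd : ¬ (2 : ℤ) ∣ q := fun ⟨q', hq'⟩ => hx2 ⟨q', by
          rw [hq, hq', hN', pow_succ]; ring⟩
        obtain ⟨q', hq'⟩ : (2 : ℤ) ∣ q - 1 := by omega
        rw [show T - 2 * s - 2 ^ N' = (T * o - 2 * s - 2 ^ N') - (o - 1) * T by ring]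
        refine dvd_sub ⟨q', ?_⟩ hTo
        rw [hq, hN', pow_succ]
        linear_combination (2 : ℤ) ^ N' * hq'
      have hh : a ^ 2 ^ k * c * (a ^ 2 ^ k)⁻¹ = c := by
        have h1 := hCl (2 ^ k) 1
        rw [zpow_one, mul_one] at h1
        rw [h1, ← mul_inv_eq_one, ← zpow_neg_one, ← zpow_add, hN]
        exact hi'
      have hcomm : Commute (a ^ 2 ^ k) c := mul_inv_eq_iff_eq_mul.1 hh
      refine ⟨⟨a, a ^ 2 ^ k * G.b, c, G.r, n, n, i, 2 * s, hn1, hn2, le_rfl, Nat.le_succ n, hn, ?_,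
        hac, ?_, ?_, ?_, hs.symm, hi4, hcard, hsum' _ le_rfl (Nat.le_succ n) (hS ▸ hsum),
        hS ▸ hsum, his, G.two_le⟩⟩
      · refine top_le_iff.1 (hgen.ge.trans ((closure_le _).2 ?_))
        rintro x (rfl | rfl)
        · exact subset_closure (by simp)
        · have h1 : (a ^ 2 ^ k)⁻¹ * (a ^ 2 ^ k * G.b) ∈ closure ({a, a ^ 2 ^ k * G.b} : Set X) :=
            mul_mem (inv_mem (pow_mem (subset_closure (by simp)) _)) (subset_closure (by simp))
          rwa [inv_mul_cancel_left] at h1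
      · calc a ^ 2 ^ k * G.b * c * (a ^ 2 ^ k * G.b)⁻¹
            = a ^ 2 ^ k * (G.b * c * G.b⁻¹) * (a ^ 2 ^ k)⁻¹ := by group
          _ = c⁻¹ := by rw [hbc, hcomm.inv_right.eq, mul_inv_cancel_right]
      · calc a * (a ^ 2 ^ k * G.b) * a⁻¹ = a ^ 2 ^ k * (a * G.b * a⁻¹) := by
              rw [← mul_assoc a, ← pow_succ', pow_succ]; group
          _ = c * (a ^ 2 ^ k * G.b) := by rw [hab, ← mul_assoc, hcomm.eq, mul_assoc]
      · rw [show n - 1 = N' by omega, ← zpow_natCast c (2 ^ N'),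
          show ((2 ^ N' : ℕ) : ℤ) = 2 ^ N' by push_cast; rfl, ← hTs]
        have h2 : a ^ 2 ^ k * a ^ 2 ^ k = c ^ (2 * s) := by
          rw [← pow_add, ← mul_two, ← pow_succ, ← hk, hs]
        calc (a ^ 2 ^ k * G.b) ^ 2
            = (a ^ 2 ^ k * G.b * (a ^ 2 ^ k)⁻¹) * (a ^ 2 ^ k * a ^ 2 ^ k) * G.b := by
              rw [pow_two]; group
          _ = c ^ T * (G.b * c ^ (2 * s) * G.b⁻¹) * G.b ^ 2 := by
              rw [hBl, h2, pow_two]; simp only [T]; group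
          _ = c ^ (T - 2 * s) := by
              rw [hconj G.b (-1) (by rw [hbc, zpow_neg_one]), hb2, mul_one, ← zpow_add,
                neg_one_mul, sub_eq_add_neg]
  · refine ⟨⟨a, G.b, c, G.r, n, n, i, 2 * s, hn1, ?_, le_rfl, Nat.le_succ n, hn, hgen, hac, hbc,
      hab, ?_, hs.symm, hi4, hcard, hsum' _ le_rfl (Nat.le_succ n) hsum, hsum, his, G.two_le⟩⟩
    · by_contra hlt
      rw [show n = 1 by omega, pow_one] at hb1
      exact hb1 (dvd_mul_right _ _)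
    · obtain ⟨N', hN'⟩ : ∃ N', n = N' + 1 := ⟨n - 1, by omega⟩
      rw [← hβ, show n - 1 = N' by omega, ← zpow_natCast c (2 ^ N'), hNeq]
      push_cast
      rw [hN', pow_succ', show (4 : ℤ) * β = 2 * (2 * β) by ring,
        mul_dvd_mul_iff_left (by norm_num)] at h4β
      obtain ⟨q, hq⟩ := h4β
      have hqodd : ¬ (2 : ℤ) ∣ q := fun ⟨q', hq'⟩ => hb1 ⟨q', by
        rw [hq, hq', hN', pow_succ]; ring⟩
      obtain ⟨q', hq'⟩ : (2 : ℤ) ∣ q - 1 := by omega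
      refine ⟨q', ?_⟩
      rw [hq, hN', pow_succ]
      linear_combination (2 : ℤ) ^ N' * hq'

end CfsgLib.Bicyclic
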