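import Cfsg.Agent.Bicyclic.ConfigMain

/-!
Automorphisms of order seven of a proper subgroup: the subgroup is elementary of order eight and
the automizer has a small Sylow 2-subgroup.
-/

set_option autoImplicit false
set_option linter.unusedSectionVars false
set_option linter.style.haveILetI false

open scoped commutatorElement

namespace CfsgLib.Bicyclic

open Subgroup

universe u v

variable {X : Type u} [Group X] [Finite X]

/-- The classes of a proper subgroup modulo the Frattini subgroup. -/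
theorem inside_or_of_proper (hX : IsPGroup 2 X) (hb : IsBicyclic X) {P : Subgroup X} (hP : P ≠ ⊤)
    {x y : X} (hx : x ∈ P) (hxΦ : x ∉ frattini X) (hy : y ∈ P) :
    y ∈ frattini X ∨ x⁻¹ * y ∈ frattini X := by
  by_contra hcon
  push Not at hcon
  refine hP (top_le_iff.1 ?_)
  rw [← gen_of_classes hX hb hxΦ hcon.1 hcon.2, closure_le]
  rintro u (rfl | rfl)
  exacts [hx, hy]

/-- The part of the Frattini quotient coming from `Φ(X)`. -/
theorem card_image_le_four (hX : IsPGroup 2 X) (hΦ : Cfsg.IsMetacyclic ↥(frattini X))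
    (P : Subgroup X) :
    Nat.card (((frattini X).subgroupOf P).map (QuotientGroup.mk' (frattini ↥P))) ≤ 4 := by
  let π := QuotientGroup.mk' (frattini ↥P)
  obtain ⟨p, hp, q, hq, hpq⟩ :=
    Cfsg.Agent.S4419.two_generated hΦ ((P ⊓ frattini X).subgroupOf (frattini X))
  rw [mem_subgroupOf] at hp hq
  refine card_le_four_of_pair (p := π ⟨p, hp.1⟩) (q := π ⟨q, hq.1⟩)
    ⟨_, mem_subgroupOf.2 p.2, rfl⟩ ⟨_, mem_subgroupOf.2 q.2, rfl⟩ ?_ ?_
  · rintro _ ⟨r, hr, rfl⟩
    rw [← Set.image_pair, ← MonoidHom.map_closure]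
    refine ⟨r, ?_, rfl⟩
    have hrΦ : (r : X) ∈ frattini X := hr
    have h1 := hpq (show (⟨r, hrΦ⟩ : ↥(frattini X)) ∈ (P ⊓ frattini X).subgroupOf _ from
      ⟨r.2, hrΦ⟩)
    have h2 : (r : X) ∈ (closure ({p, q} : Set ↥(frattini X))).map (frattini X).subtype :=
      ⟨_, h1, rfl⟩
    rw [MonoidHom.map_closure, Set.image_pair] at h2
    have h3 : (r : X) ∈
        (closure ({⟨(p : X), hp.1⟩, ⟨(q : X), hq.1⟩} : Set P)).map P.subtype := by
      rw [MonoidHom.map_closure, Set.image_pair]; exact h2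
    exact (mem_map_iff_mem Subtype.val_injective).1 h3
  · rintro _ ⟨r, -, rfl⟩
    rw [← map_mul, ← pow_two]
    exact (QuotientGroup.eq_one_iff _).2 (sq_mem_frattini (hX.to_subgroup _) r)

/-- The Frattini quotient of a proper subgroup has order at most eight. -/
theorem card_frattini_quot_proper (hX : IsPGroup 2 X) (hb : IsBicyclic X)
    (hΦ : Cfsg.IsMetacyclic ↥(frattini X)) {P : Subgroup X} (hP : P ≠ ⊤) :
    Nat.card (↥P ⧸ frattini ↥P) ≤ 8 := by
  let π := QuotientGroup.mk' (frattini ↥P)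
  let I := ((frattini X).subgroupOf P).map π
  have hI : Nat.card I ≤ 4 := card_image_le_four hX hΦ P
  by_cases hout : ∃ x ∈ P, x ∉ frattini X
  · obtain ⟨x, hx, hxΦ⟩ := hout
    let f : Bool × I → ↥P ⧸ frattini ↥P := fun s => (if s.1 then π ⟨x, hx⟩ else 1) * s.2
    have hf : Function.Surjective f := by
      intro y
      obtain ⟨r, rfl⟩ := QuotientGroup.mk'_surjective _ y
      rcases inside_or_of_proper hX hb hP hx hxΦ r.2 with h | h
      · exact ⟨(false, ⟨π r, r, h, rfl⟩), by simp [f, π]⟩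
      · refine ⟨(true, ⟨π (⟨x, hx⟩⁻¹ * r), _, h, rfl⟩), ?_⟩
        show π ⟨x, hx⟩ * π (⟨x, hx⟩⁻¹ * r) = _
        rw [← map_mul, mul_inv_cancel_left]
    have := Nat.card_le_card_of_surjective f hf
    rw [Nat.card_prod, Nat.card_eq_fintype_card (α := Bool), Fintype.card_bool] at this
    omega
  · push Not at hout
    have hIt : I = ⊤ := eq_top_iff.2 fun y _ => by
      obtain ⟨r, rfl⟩ := QuotientGroup.mk'_surjective _ y
      exact ⟨r, hout r r.2, rfl⟩
    rw [hIt, Subgroup.card_top] at hI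
    omega

/-- An automorphism of order dividing seven of a subgroup of a metacyclic 2-group is trivial. -/
theorem aut_seven_trivial {U : Type v} [Group U] [Finite U] (hU : IsPGroup 2 U)
    (hm : Cfsg.IsMetacyclic U) {α : MulAut U} (h7 : α ^ 7 = 1) : α = 1 := by
  haveI : Fact (Nat.Prime 2) := ⟨Nat.prime_two⟩
  let σ : MulAut (U ⧸ frattini U) :=
    QuotientGroup.congr _ _ α (characteristic_iff_map_eq.1 frattini_characteristic α)
  have hpow : ∀ (k : ℕ) (x : U), (σ ^ k) (x : U ⧸ frattini U) = (((α ^ k) x : U) : U ⧸ frattini U) := by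
    intro k
    induction k with
    | zero => intro x; rfl
    | succ k ih => intro x; rw [pow_succ', pow_succ', MulAut.mul_apply, MulAut.mul_apply, ih]; rfl
  have h7' : σ ^ 7 = 1 := MulEquiv.ext fun q => by
    induction q using QuotientGroup.induction_on with
    | H x => rw [hpow, h7]; rfl
  have hσ : σ = 1 := by
    have h6 := (orderOf_dvd_natCard σ).trans
      (MetacyclicAut.card_mulAut_dvd_six (MetacyclicAut.card_quotient_frattini_le (p := 2) hU hm))
    exact orderOf_eq_one_iff.1 (Nat.eq_one_of_dvd_coprimes (show Nat.Coprime 7 6 by norm_num)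
      (orderOf_dvd_of_pow_eq_one h7') h6)
  have hk : α ∈ MetacyclicAut.frattiniKernel U := fun x => by
    rw [← QuotientGroup.eq_one_iff, QuotientGroup.mk_mul, QuotientGroup.mk_inv, mul_inv_eq_one]
    exact DFunLike.congr_fun hσ (x : U ⧸ frattini U)
  obtain ⟨k, hk'⟩ := MetacyclicAut.isPGroup_frattiniKernel (p := 2) hU ⟨α, hk⟩
  exact orderOf_eq_one_iff.1 (Nat.eq_one_of_dvd_coprimes
    (show Nat.Coprime (2 ^ k) 7 from Nat.Coprime.pow_left k (by norm_num))
    (orderOf_dvd_of_pow_eq_one (congrArg Subtype.val hk')) (orderOf_dvd_of_pow_eq_one h7))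

section eight

variable {V : Type v} [Group V] [Finite V]

/-- A nontrivial automorphism of order seven of a group of order eight fixes only the identity and
is transitive on the other elements. -/
theorem seven_transitive (hV : Nat.card V = 8) {σ : MulAut V} (h7 : σ ^ 7 = 1) (hne : σ ≠ 1) :
    (∀ x, σ x = x → x = 1) ∧ ∀ v w : V, v ≠ 1 → w ≠ 1 → ∃ k : ℕ, (σ ^ k) v = w := by
  haveI : Fact (Nat.Prime 7) := ⟨by norm_num⟩
  have hord : orderOf σ = 7 := orderOf_eq_prime h7 hne
  have hfix : ∀ x, σ x = x → x = 1 := by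
    intro x hx
    let C : Subgroup V := σ.toMonoidHom.eqLocus (MonoidHom.id V)
    have hG : IsPGroup 7 (zpowers σ) := IsPGroup.of_card (n := 1) (by
      rw [Nat.card_zpowers, hord, pow_one])
    have hmod := hG.card_modEq_card_fixedPoints V
    have hCeq : Nat.card (MulAction.fixedPoints (zpowers σ) V) = Nat.card C := by
      refine Nat.card_congr (Equiv.subtypeEquivRight fun y => ?_)
      constructor
      · intro hy; exact hy ⟨σ, mem_zpowers σ⟩
      · intro hy s
        obtain ⟨s, hs⟩ := s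
        have hle : zpowers σ ≤ MulAction.stabilizer (MulAut V) y :=
          zpowers_le.2 (show σ • y = y from hy)
        exact hle hs
    rw [hCeq, hV, Nat.ModEq] at hmod
    have hdvd : Nat.card C ∣ 8 := hV ▸ Subgroup.card_subgroup_dvd_card C
    have hC : C = ⊥ ∨ C = ⊤ := by
      have hle := Nat.le_of_dvd (by norm_num) hdvd
      have hpos := Nat.card_pos (α := C)
      rcases (show Nat.card C = 1 ∨ Nat.card C = 8 by omega) with h | h
      · exact Or.inl (Subgroup.card_eq_one.1 h)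
      · exact Or.inr (Subgroup.eq_top_of_card_eq _ (h.trans hV.symm))
    rcases hC with h | h
    · exact mem_bot.1 (h ▸ (show x ∈ C from hx))
    · exact absurd (MulEquiv.ext (f := σ) (g := (1 : MulAut V)) fun y => (h.ge (mem_top y) : y ∈ C)) hne
  refine ⟨hfix, fun v w hv hw => ?_⟩
  classical
  haveI := Fintype.ofFinite V
  by_contra hcon
  push Not at hcon
  have hinj : ∀ i < 7, ∀ j < 7, (σ ^ i) v = (σ ^ j) v → i = j := by
    suffices h : ∀ i j, i ≤ j → j < 7 → (σ ^ i) v = (σ ^ j) v → i = j by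
      intro i hi j hj e
      rcases le_total i j with h' | h'
      exacts [h i j h' hj e, (h j i h' hi e.symm).symm]
    intro i j hij hj e
    by_contra hne'
    have h1 : (σ ^ (j - i)) v = v := by
      refine (σ ^ i).injective ?_
      rw [← MulAut.mul_apply, ← pow_add, Nat.add_sub_cancel' hij, e]
    have hcop : (orderOf σ).Coprime (j - i) := by
      rw [hord]
      exact (Nat.Prime.coprime_iff_not_dvd (by norm_num)).2 fun hd => by
        have := Nat.le_of_dvd (by omega) hd
        omega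
    obtain ⟨m, hm⟩ := exists_pow_eq_self_of_coprime hcop.symm
    have h2 : ∀ l : ℕ, ((σ ^ (j - i)) ^ l) v = v := by
      intro l
      induction l with
      | zero => rfl
      | succ l ih => rw [pow_succ, MulAut.mul_apply, h1, ih]
    exact hv (hfix v (by
      conv_lhs => rw [← hm]
      exact h2 m))
  let F : Finset V := insert 1 (insert w ((Finset.range 7).image fun i => (σ ^ i) v))
  have hF : F.card = 9 := by
    rw [Finset.card_insert_of_notMem, Finset.card_insert_of_notMem, Finset.card_image_of_injOn,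
      Finset.card_range]
    · intro i hi j hj e
      exact hinj i (Finset.mem_range.1 hi) j (Finset.mem_range.1 hj) e
    · simp only [Finset.mem_image, Finset.mem_range, not_exists, not_and]
      exact fun i _ h => hcon i h
    · simp only [Finset.mem_insert, Finset.mem_image, Finset.mem_range, not_or, not_exists, not_and]
      exact ⟨hw.symm, fun i _ h => hv ((σ ^ i).injective (h.trans (map_one (σ ^ i)).symm))⟩
  have := Finset.card_le_univ F
  rw [← Nat.card_eq_fintype_card, hV, hF] at this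
  omega

/-- No involution normalizes a subgroup of order seven of the automorphisms of the elementary
group of order eight. -/
theorem no_inverting (hV : Nat.card V = 8) (hsq : ∀ x : V, x * x = 1) {σ τ : MulAut V}
    (h7 : σ ^ 7 = 1) (hne : σ ≠ 1) (hτ : τ * τ = 1) (hτne : τ ≠ 1) {e : ℤ}
    (hconj : τ * σ * τ⁻¹ = σ ^ e) : False := by
  obtain ⟨hfix, htrans⟩ := seven_transitive hV h7 hne
  haveI : Fact (Nat.Prime 7) := ⟨by norm_num⟩
  haveI : Fact (Nat.Prime 2) := ⟨Nat.prime_two⟩
  have hord : orderOf σ = 7 := orderOf_eq_prime h7 hne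
  -- a nontrivial fixed point of `τ`
  obtain ⟨x, hx, hx1⟩ : ∃ x, τ x = x ∧ x ≠ 1 := by
    have hT : IsPGroup 2 (zpowers τ) := IsPGroup.of_card (n := 1) (by
      rw [Nat.card_zpowers, pow_one]
      exact orderOf_eq_prime ((pow_two τ).trans hτ) hτne)
    obtain ⟨y, hy, hy1⟩ := hT.exists_fixed_point_of_prime_dvd_card_of_fixed_point V
      (by rw [hV]; norm_num) (a := (1 : V)) (fun t => map_one (t : MulAut V))
    exact ⟨y, hy ⟨τ, mem_zpowers τ⟩, hy1.symm⟩
  have hτσ : ∀ (k : ℤ) (y : V), τ ((σ ^ k) y) = (σ ^ (e * k)) (τ y) := by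
    intro k y
    have h1 : τ * σ ^ k = σ ^ (e * k) * τ := by
      rw [zpow_mul, ← hconj, conj_zpow, inv_mul_cancel_right]
    exact DFunLike.congr_fun h1 y
  have hmove : ∀ k : ℤ, (σ ^ k) x = x → (7 : ℤ) ∣ k := by
    intro k hk
    by_contra hd
    obtain ⟨a, b, hab⟩ : IsCoprime k 7 :=
      ((Int.prime_iff_natAbs_prime.2 (by norm_num)).coprime_iff_not_dvd.2 hd).symm
    have hs : ∀ l : ℤ, ((σ ^ k) ^ l) x = x := by
      intro l
      have hle : zpowers (σ ^ k) ≤ MulAction.stabilizer (MulAut V) x :=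
        zpowers_le.2 (show (σ ^ k) • x = x from hk)
      exact hle (zpow_mem (mem_zpowers _) l)
    refine hx1 (hfix x ?_)
    have h7z : σ ^ (7 : ℤ) = 1 := by
      rw [show ((7 : ℤ)) = ((7 : ℕ) : ℤ) from rfl, zpow_natCast, h7]
    conv_lhs => rw [← zpow_one σ, ← hab, zpow_add, mul_comm b, zpow_mul σ 7 b, h7z, one_zpow,
      mul_one, mul_comm a, zpow_mul]
    exact hs a
  -- `e² ≡ 1`
  have he2 : (7 : ℤ) ∣ e * e - 1 := by
    refine hmove _ ?_
    have h1 : σ = σ ^ (e * e) := by
      have h2 : τ * (τ * σ * τ⁻¹) * τ⁻¹ = σ ^ (e * e) := by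
        rw [hconj, ← conj_zpow, hconj, ← zpow_mul]
      rw [← h2, show τ * (τ * σ * τ⁻¹) * τ⁻¹ = (τ * τ) * σ * (τ * τ)⁻¹ by group, hτ]
      simp
    rw [zpow_sub, ← h1, zpow_one, mul_inv_cancel]
    rfl
  have h7p : Prime (7 : ℤ) := Int.prime_iff_natAbs_prime.2 (by norm_num)
  rw [show e * e - 1 = (e - 1) * (e + 1) by ring] at he2
  rcases h7p.dvd_or_dvd he2 with hd | hd
  · apply hτne
    refine MulEquiv.ext fun y => ?_
    rw [MulAut.one_apply]
    by_cases hy : y = 1
    · rw [hy, map_one]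
    obtain ⟨k, rfl⟩ := htrans x y hx1 hy
    rw [← zpow_natCast, hτσ, hx]
    congr 1
    refine congrArg (fun s : MulAut V => s) ?_
    obtain ⟨l, hl⟩ := hd
    rw [show e * (k : ℤ) = k + 7 * (l * k) by rw [show e = 1 + 7 * l by omega]; ring, zpow_add,
      zpow_mul, show σ ^ (7 : ℤ) = 1 by
        rw [show ((7 : ℤ)) = ((7 : ℕ) : ℤ) from rfl, zpow_natCast, h7], one_zpow, mul_one]
  · have hinv : ∀ k : ℤ, τ ((σ ^ k) x) = (σ ^ (-k)) x := by
      intro k
      rw [hτσ, hx]
      obtain ⟨l, hl⟩ := hd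
      rw [show e * k = -k + 7 * (l * k) by rw [show e = -1 + 7 * l by omega]; ring, zpow_add,
        zpow_mul, show σ ^ (7 : ℤ) = 1 by
          rw [show ((7 : ℤ)) = ((7 : ℕ) : ℤ) from rfl, zpow_natCast, h7], one_zpow, mul_one]
    have hadd : ∀ k l : ℤ, (σ ^ (k + l)) x = (σ ^ k) ((σ ^ l) x) := fun k l => by
      rw [zpow_add, MulAut.mul_apply]
    obtain ⟨k, hk⟩ : ∃ k : ℤ, x * (σ ^ (1 : ℤ)) x = (σ ^ k) x := by
      have hne1 : x * (σ ^ (1 : ℤ)) x ≠ 1 := by
        intro h
        rw [zpow_one] at h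
        refine hx1 (hfix x ?_)
        rw [eq_inv_of_mul_eq_one_right h]
        exact inv_eq_of_mul_eq_one_right (hsq x)
      obtain ⟨n, hn⟩ := htrans x _ hx1 hne1
      exact ⟨n, by rw [zpow_natCast]; exact hn.symm⟩
    have hcomm : ∀ a b : V, a * b = b * a := fun a b => by
      have h := eq_inv_of_mul_eq_one_right (hsq (a * b))
      rw [mul_inv_rev, inv_eq_of_mul_eq_one_right (hsq a), inv_eq_of_mul_eq_one_right (hsq b)] at h
      exact h
    have h2 : x * (σ ^ (-1 : ℤ)) x = (σ ^ (-k)) x := by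
      rw [← hinv, ← hinv, ← hk, map_mul, hx]
    have h3 : (σ ^ k) x = (σ ^ (1 - k)) x := by
      rw [show (1 - k : ℤ) = 1 + -k by ring, hadd, ← h2, map_mul, ← hadd, add_neg_cancel,
        zpow_zero, MulAut.one_apply, hcomm, hk]
    obtain ⟨l, hl⟩ : (7 : ℤ) ∣ 2 * k - 1 := by
      refine hmove _ ?_
      rw [show 2 * k - 1 = k - 1 + k by ring, hadd, h3, ← hadd]
      simp
    have hσ7 : ∀ a b : ℤ, (σ ^ (a + 7 * b)) x = (σ ^ a) x := fun a b => by
      rw [hadd, zpow_mul, show σ ^ (7 : ℤ) = 1 by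
        rw [show ((7 : ℤ)) = ((7 : ℕ) : ℤ) from rfl, zpow_natCast, h7], one_zpow, MulAut.one_apply]
    have hk4 : (σ ^ k) x = (σ ^ (4 : ℤ)) x := by
      obtain ⟨m, hm⟩ : ∃ m, k = 4 + 7 * m := ⟨(k - 4) / 7, by omega⟩
      rw [hm, hσ7]
    rw [hk4] at hk
    have h5 : (σ ^ (1 : ℤ)) x * (σ ^ (2 : ℤ)) x = (σ ^ (5 : ℤ)) x := by
      rw [show (5 : ℤ) = 1 + 4 by norm_num, hadd 1 4, ← hk, map_mul, ← hadd]
      norm_num
    have h6 : x * (σ ^ (2 : ℤ)) x = (σ ^ (1 : ℤ)) x := by
      calc x * (σ ^ (2 : ℤ)) x = x * ((σ ^ (1 : ℤ)) x * (σ ^ (1 : ℤ)) x) * (σ ^ (2 : ℤ)) x := by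
            rw [hsq, mul_one]
        _ = (σ ^ (4 : ℤ)) x * (σ ^ (5 : ℤ)) x := by rw [← hk, ← h5]; group
        _ = (σ ^ (4 : ℤ)) (x * (σ ^ (1 : ℤ)) x) := by
          rw [map_mul, ← hadd]; norm_num
        _ = (σ ^ (1 : ℤ)) x := by
          rw [hk, ← hadd, show (4 : ℤ) + 4 = 1 + 7 * 1 by norm_num, hσ7]
    have h7' : (σ ^ (2 : ℤ)) x = (σ ^ (4 : ℤ)) x := by
      rw [← hk, ← h6, ← mul_assoc, hsq, one_mul]
    have h8 := hmove 2 (by
      refine (σ ^ (2 : ℤ)).injective ?_
      rw [← hadd, h7']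
      norm_num)
    omega

end eight

end CfsgLib.Bicyclic
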