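import Cfsg.Agent.Bicyclic.Rank
import Cfsg.Agent.RankTwoApps.Main
import Cfsg.Agent.U34Sylow.Main
import Cfsg.Agent.Fusion.FocalClosure
import Cfsg.Agent.Fusion.GroupSystem
import Cfsg.Agent.CentreFour.Fusion
import Cfsg.Agent.S4419

/-!
Simple groups with bicyclic Sylow 2-subgroups (row S3290), from the semidihedral and wreathed
classifications.
-/

set_option autoImplicit false
set_option linter.unusedSectionVars false
set_option linter.style.haveILetI false

open Cfsg Cfsg.FusionSystem CfsgLib.Fusion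
open scoped commutatorElement

namespace CfsgLib.Bicyclic

universe u

/-- The automizers of the essential subgroups move every element within its coset of `M`. -/
theorem essential_coset {Ω : Type u} [Group Ω] {S : Subgroup Ω} [Finite S] (hS : IsPGroup 2 S)
    (hb : IsBicyclic ↥S) (hmc : ¬ Cfsg.IsMetacyclic ↥S) (R : Rel ↥S) (hm : R.m = R.n + 1)
    {F : FusionSystem S} (hF : F.IsSaturated 2) {P : Subgroup Ω} (hP : F.IsEssential 2 P)
    {α : MulAut P} (hα : α ∈ F.autGroup P) (x : P) :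
    (x : Ω)⁻¹ * (α x : P) ∈ R.M.map S.subtype := by
  let T := R.M.map S.subtype
  have hPS : P ≤ S := hP.1.1
  let e : P.subgroupOf S ≃* P := Subgroup.subgroupOfEquivOfLe hPS
  let K : Subgroup (F.autGroup P) :=
    { carrier := {β | ∀ y : P, (y : Ω)⁻¹ * ((β : MulAut P) y : P) ∈ T}
      one_mem' := fun y => by simp
      mul_mem' := fun {a b} ha hb y => by
        have := mul_mem (hb y) (ha ((b : MulAut P) y))
        simpa [mul_assoc] using this
      inv_mem' := fun {a} ha y => by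
        simpa using inv_mem (ha ((a : MulAut P)⁻¹ y)) }
  let R0 := (autInducedBy S P).subgroupOf (F.autGroup P)
  have hle : Subgroup.normalClosure (R0 : Set (F.autGroup P)) ≤ K := by
    refine (Subgroup.closure_le _).2 ?_
    intro β hβ
    obtain ⟨σ, hσ, hconj⟩ := Group.mem_conjugatesOfSet_iff.1 hβ
    obtain ⟨ρ, rfl⟩ := isConj_iff.1 hconj
    obtain ⟨g, hg, hgx⟩ := mem_autInducedBy.1 hσ
    intro y
    obtain ⟨y', rfl⟩ := (ρ : MulAut P).surjective y
    have hy'S : (y' : Ω) ∈ S := hPS y'.2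
    -- the commutator lies in the derived subgroup
    let w : P.subgroupOf S := e.symm (y'⁻¹ * (σ : MulAut P) y')
    have hw : ((w : S) : S) ∈ Subgroup.zpowers R.c := by
      refine R.commutator_le_D ?_
      rw [show (w : S) = ⁅(⟨y', hy'S⟩ : S)⁻¹, ⟨g, hg⟩⁆ from Subtype.ext (by
        show (y' : Ω)⁻¹ * ((σ : MulAut P) y' : P) = _
        rw [show (((σ : MulAut P) y' : P) : Ω) = g * y' * g⁻¹ from hgx y', commutatorElement_def]
        simp only [Subgroup.coe_mul, Subgroup.coe_inv, inv_inv]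
        group)]
      exact comm_mem_commutator _ _
    have h1 := R.not_fused hm (MulAut.congr e.symm (ρ : MulAut P)) hw
    refine ⟨_, h1, ?_⟩
    show (((MulAut.congr e.symm (ρ : MulAut P)) w : P.subgroupOf S) : S).1 = _
    have h2 : e ((MulAut.congr e.symm (ρ : MulAut P)) w) =
        ((ρ : MulAut P) y')⁻¹ * ((ρ * σ * ρ⁻¹ : F.autGroup P) : MulAut P) ((ρ : MulAut P) y') := by
      show e (e.symm ((ρ : MulAut P) (e w))) = _
      rw [MulEquiv.apply_symm_apply, MulEquiv.apply_symm_apply, map_mul, map_inv]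
      congr 1
      simp [MulAut.mul_apply]
    exact congrArg Subtype.val h2
  have htop := (essential_data hS hb hmc hF hP).2 (Subgroup.normalClosure (R0 : Set (F.autGroup P)))
    Subgroup.normalClosure_normal Subgroup.subset_normalClosure
  exact hle (htop.ge (Subgroup.mem_top (⟨α, hα⟩ : F.autGroup P))) x

/-- In a simple group with bicyclic Sylow 2-subgroup the 2-rank is at most two. -/
theorem rank_le_two {G : Type u} [Group G] [Finite G] [IsSimpleGroup G]
    (hG : ¬ IsMulCommutative G) (P : Sylow 2 G) (hb : IsBicyclic ↥(P : Subgroup G)) :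
    Cfsg.PRankLE 2 2 G := by
  haveI : Fact (Nat.Prime 2) := ⟨Nat.prime_two⟩
  have hS : IsPGroup 2 (P : Subgroup G) := P.isPGroup'
  suffices h : Cfsg.PRankLE 2 2 (P : Subgroup G) by
    intro A hA hA2
    obtain ⟨f, hf⟩ := GWApps.embeds_sylow P (fun x : A => ⟨1, by
      rw [pow_one]; exact Subtype.ext (hA2 x x.2)⟩ : IsPGroup 2 A)
    have h1 := h f.range (by
      refine ⟨⟨?_⟩⟩
      rintro ⟨_, a, rfl⟩ ⟨_, b, rfl⟩
      exact Subtype.ext (by rw [Subgroup.coe_mul, Subgroup.coe_mul, ← map_mul, ← map_mul, hA.is_comm.comm]))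
      (by rintro _ ⟨a, rfl⟩; rw [← map_pow, show a ^ 2 = 1 from Subtype.ext (hA2 a a.2), map_one])
    rwa [← Nat.card_congr (MonoidHom.ofInjective hf).toEquiv] at h1
  by_cases hmc : Cfsg.IsMetacyclic ↥(P : Subgroup G)
  · intro A _ hA2
    obtain ⟨a, ha, b, hb', hle⟩ := Cfsg.Agent.S4419.two_generated hmc A
    exact (card_le_four_of_pair ha hb' hle fun x hx => by rw [← pow_two]; exact hA2 x hx).trans
      (by norm_num)
  set F := groupFusionSystem (P : Subgroup G) with hFdef
  have hF : F.IsSaturated 2 := groupFusion_saturated P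
  have hperf : commutator G = ⊤ := (RankTwoApps.perfect_of_simple hG).commutator_eq_top
  -- the focal subgroup is everything
  have hfoc : (P : Subgroup G) ≤ F.focalSubgroup := by
    have h1 := Subgroup.commutator_inf_eq_focalSubgroup P
    rw [hperf, top_inf_eq] at h1
    refine h1.le.trans ((Subgroup.closure_le _).2 ?_)
    rintro g ⟨hg, x, hx, v, rfl⟩
    have hy : v * x⁻¹ * v⁻¹ ∈ (P : Subgroup G) := by
      have := mul_mem (inv_mem hx) hg
      rwa [show x⁻¹ * ⁅x, v⁆ = v * x⁻¹ * v⁻¹ by rw [commutatorElement_def]; group] at this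
    refine Subgroup.subset_closure ⟨Subgroup.zpowers x⁻¹, conjHom _ v,
      ⟨x⁻¹, Subgroup.mem_zpowers _⟩, conjHom_mem_groupFusion
        (Subgroup.zpowers_le.2 (inv_mem hx)) (fun y hy' => ?_), ?_⟩
    · obtain ⟨l, rfl⟩ := Subgroup.mem_zpowers_iff.1 hy'
      rw [← conj_zpow]
      exact zpow_mem hy l
    · show ⁅x, v⁆ = (x⁻¹)⁻¹ * (v * x⁻¹ * v⁻¹)
      rw [commutatorElement_def]; group
  have hcyc : IsCyclic ↥(commutator ↥(P : Subgroup G)) := by
    by_contra hnc
    obtain ⟨Γ⟩ := exists_gens hS hb hmc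
    have hle : F.focalSubgroup ≤ ⁅(P : Subgroup G), (P : Subgroup G)⁆ := by
      refine focalSubgroup_le_of_aut 2 hS hF le_rfl fun Q hQ α hα x => ?_
      rcases hQ with rfl | hQ
      · obtain ⟨g, hg, hgx⟩ := aut_S_inner 2 hS hF ((Γ.isPGroup_mulAut hS).to_subgroup _) hα
        rw [hgx, show (x : G)⁻¹ * (g * x * g⁻¹) = ⁅(x : G)⁻¹, g⁆ by
          rw [commutatorElement_def]; group]
        exact Subgroup.commutator_mem_commutator (inv_mem x.2) hg
      · exact absurd (cyclic_of_essential hS hb hmc hF hQ) hnc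
    have h1 := hfoc.trans hle
    rw [CentreFour.comm_eq_map] at h1
    have h2 : ∀ u : (P : Subgroup G), u ∈ frattini ↥(P : Subgroup G) := fun u => by
      obtain ⟨v, hv, hvu⟩ := h1 u.2
      exact commutator_le_frattini hS (Subtype.ext hvu ▸ hv)
    have h3 : (⊥ : Subgroup ↥(P : Subgroup G)) = ⊤ :=
      frattini_nongenerating (by rw [bot_sup_eq]; exact eq_top_iff.2 fun u _ => h2 u)
    refine hnc ?_
    haveI : Subsingleton ↥(P : Subgroup G) := ⟨fun u v => by
      rw [Subgroup.mem_bot.1 (h3.ge (Subgroup.mem_top u)),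
        Subgroup.mem_bot.1 (h3.ge (Subgroup.mem_top v))]⟩
    infer_instance
  obtain ⟨R⟩ := exists_rel hS hb hmc hcyc
  rcases (show R.m = R.n ∨ R.m = R.n + 1 by have := R.n_le; have := R.le_n; omega) with hm | hm
  · exact R.rank_le hm
  exfalso
  obtain ⟨Γ⟩ := exists_gens hS hb hmc
  have hcommM : ∀ u ∈ commutator ↥(P : Subgroup G), u ∈ R.M := fun u hu =>
    R.D_le_M (Subgroup.mem_sup_left (R.commutator_le_D hu))
  have hT : ⁅(P : Subgroup G), (P : Subgroup G)⁆ ≤ R.M.map (P : Subgroup G).subtype := by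
    rw [CentreFour.comm_eq_map]
    exact Subgroup.map_mono fun u hu => hcommM u hu
  have hle : F.focalSubgroup ≤ R.M.map (P : Subgroup G).subtype := by
    refine focalSubgroup_le_of_aut 2 hS hF hT fun Q hQ α hα x => ?_
    rcases hQ with rfl | hQ
    · obtain ⟨g, hg, hgx⟩ := aut_S_inner 2 hS hF ((Γ.isPGroup_mulAut hS).to_subgroup _) hα
      rw [hgx, show (x : G)⁻¹ * (g * x * g⁻¹) = ⁅(x : G)⁻¹, g⁆ by
        rw [commutatorElement_def]; group]
      exact hT (Subgroup.commutator_mem_commutator (inv_mem x.2) hg)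
    · exact essential_coset hS hb hmc R hm hF hQ hα x
  obtain ⟨v, hv, hva⟩ := (hfoc.trans hle) R.a.2
  exact R.a_notMem_M (Subtype.ext hva ▸ hv)

/-- Row S3290 from the semidihedral and wreathed classifications. -/
theorem simple_of_bicyclic (hSD : RankTwoApps.SDStatement.{u}) (hW : RankTwoApps.WStatement.{u})
    {G : Type u} [Group G] [Finite G] [IsSimpleGroup G] (P : Sylow 2 G)
    (hb : IsBicyclic ↥(P : Subgroup G)) (h2 : 2 ∣ Nat.card G) :
    Nat.card G = 2 ∨
      (∃ (K : Type) (_ : Field K) (_ : Fintype K) (q : ℕ), Fintype.card K = q ∧ Odd q ∧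
        (Nonempty (G ≃* Matrix.ProjectiveSpecialLinearGroup (Fin 2) K) ∨
          Nonempty (G ≃* Matrix.ProjectiveSpecialLinearGroup (Fin 3) K))) ∨
      (∃ (K : Type) (_ : Field K) (_ : Fintype K) (q : ℕ), Fintype.card K = q ^ 2 ∧ Odd q ∧
        Nonempty (G ≃* Cfsg.PSU 3 K q)) ∨
      Nonempty (G ≃* alternatingGroup (Fin 7)) ∨ Cfsg.IsM11 G := by
  haveI : Fact (Nat.Prime 2) := ⟨Nat.prime_two⟩
  by_cases hab : IsMulCommutative G
  · left
    letI : CommGroup G := { (inferInstance : Group G) with mul_comm := fun a b => hab.is_comm.comm a b }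
    exact ((Nat.prime_dvd_prime_iff_eq Nat.prime_two IsSimpleGroup.prime_card).1 h2).symm
  right
  rcases RankTwoApps.simple_of_rank_two hSD hW hab (rank_le_two hab P hb) with
    ⟨K, i1, i2, hodd, -, e⟩ | ⟨K, i1, i2, hodd, e⟩ | h | ⟨K, i1, i2, hK, ⟨e⟩⟩ | h | h
  · exact Or.inl ⟨K, i1, i2, _, rfl, hodd, Or.inl e⟩
  · exact Or.inl ⟨K, i1, i2, _, rfl, hodd, Or.inr e⟩
  · exact Or.inr (Or.inl h)
  · exfalso
    letI := i1
    letI := i2
    let Q : Sylow 2 (Cfsg.PSU 3 K 4) := P.mapSurjective (f := e.toMonoidHom) e.surjective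
    have hQ : U3Type.Facts ↥(P : Subgroup G) 2 := U34Sylow.facts_of_equiv hK P Q
      ⟨Subgroup.equivMapOfInjective _ e.toMonoidHom e.injective⟩
    obtain ⟨x, y, hxy⟩ := hb
    let f : Fin 4 × Fin 4 → ↥(P : Subgroup G) := fun p => x ^ (p.1 : ℕ) * y ^ (p.2 : ℕ)
    have hf : Function.Surjective f := by
      intro g
      obtain ⟨i, j, rfl⟩ := hxy g
      have h4 : ∀ (z : ↥(P : Subgroup G)) (l : ℤ), z ^ (l % 4).toNat = z ^ l := fun z l => by
        rw [← zpow_natCast, Int.toNat_of_nonneg (Int.emod_nonneg _ (by norm_num))]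
        have h1 : z ^ (4 : ℤ) = 1 := by
          rw [show (4 : ℤ) = ((2 + 2 : ℕ) : ℤ) by norm_num, zpow_natCast, pow_add, pow_two]
          exact hQ.sq_sq z
        conv_rhs => rw [← Int.mul_ediv_add_emod l 4, zpow_add, zpow_mul, h1, one_zpow, one_mul]
      refine ⟨(⟨(i % 4).toNat, by omega⟩, ⟨(j % 4).toNat, by omega⟩), ?_⟩
      show x ^ (i % 4).toNat * y ^ (j % 4).toNat = _
      rw [h4, h4]
    have := Nat.card_le_card_of_surjective f hf
    rw [hQ.card, Nat.card_prod, Nat.card_eq_fintype_card, Fintype.card_fin] at this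
    norm_num at this
  · exact Or.inr (Or.inr (Or.inl h))
  · exact Or.inr (Or.inr (Or.inr h))

end CfsgLib.Bicyclic
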